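import Cfsg.Agent.RootSub.Basic

/-!
# SL₂ as a special rank one group
-/

namespace Cfsg.Agent.RootSub.SL2

open Cfsg Matrix
open scoped MatrixGroups IsMulCommutative

variable {k : Type*} [Field k]

/-- The upper transvection. -/
def up (t : k) : SL(2, k) := ⟨!![1, t; 0, 1], by simp [Matrix.det_fin_two]⟩

/-- The lower transvection. -/
def low (t : k) : SL(2, k) := ⟨!![1, 0; t, 1], by simp [Matrix.det_fin_two]⟩

theorem coe_up (t : k) : ((up t : SL(2, k)) : Matrix (Fin 2) (Fin 2) k) = !![1, t; 0, 1] := rfl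

theorem coe_low (t : k) : ((low t : SL(2, k)) : Matrix (Fin 2) (Fin 2) k) = !![1, 0; t, 1] := rfl

theorem ext2 {g h : SL(2, k)} (h00 : g 0 0 = h 0 0) (h01 : g 0 1 = h 0 1) (h10 : g 1 0 = h 1 0)
    (h11 : g 1 1 = h 1 1) : g = h := by
  apply Subtype.ext
  ext i j
  fin_cases i <;> fin_cases j <;> assumption

theorem up_add (s t : k) : up (s + t) = up s * up t := by
  apply ext2 <;> simp [coe_up, Matrix.SpecialLinearGroup.coe_mul, Matrix.mul_apply, Fin.sum_univ_two, add_comm]

theorem low_add (s t : k) : low (s + t) = low s * low t := by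
  apply ext2 <;> simp [coe_low, Matrix.SpecialLinearGroup.coe_mul, Matrix.mul_apply, Fin.sum_univ_two]

theorem up_zero : up (0 : k) = 1 := by
  apply ext2 <;> simp [coe_up]

theorem low_zero : low (0 : k) = 1 := by
  apply ext2 <;> simp [coe_low]

theorem up_inv (t : k) : (up t)⁻¹ = up (-t) :=
  inv_eq_of_mul_eq_one_right (by rw [← up_add, add_neg_cancel, up_zero])

theorem low_inv (t : k) : (low t)⁻¹ = low (-t) :=
  inv_eq_of_mul_eq_one_right (by rw [← low_add, add_neg_cancel, low_zero])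

theorem up_injective : Function.Injective (up : k → SL(2, k)) := fun s t h => by
  simpa [coe_up] using congrArg (fun g : SL(2, k) => g 0 1) h

theorem low_injective : Function.Injective (low : k → SL(2, k)) := fun s t h => by
  simpa [coe_low] using congrArg (fun g : SL(2, k) => g 1 0) h

theorem mem_upper {g : SL(2, k)} : g ∈ upperUnipotentSL2 k ↔ ∃ t, g = up t := by
  constructor
  · intro hg
    induction hg using Subgroup.closure_induction with
    | mem x hx =>
      obtain ⟨h10, h00, h11⟩ := hx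
      exact ⟨x 0 1, ext2 (by simp [coe_up, h00]) (by simp [coe_up]) (by simp [coe_up, h10]) (by simp [coe_up, h11])⟩
    | one => exact ⟨0, up_zero.symm⟩
    | mul a b _ _ ha hb =>
      obtain ⟨s, rfl⟩ := ha
      obtain ⟨t, rfl⟩ := hb
      exact ⟨s + t, (up_add s t).symm⟩
    | inv a _ ha =>
      obtain ⟨s, rfl⟩ := ha
      exact ⟨-s, up_inv s⟩
  · rintro ⟨t, rfl⟩
    exact Subgroup.subset_closure ⟨by simp [coe_up], by simp [coe_up], by simp [coe_up]⟩

theorem mem_lower {g : SL(2, k)} : g ∈ lowerUnipotentSL2 k ↔ ∃ t, g = low t := by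
  constructor
  · intro hg
    induction hg using Subgroup.closure_induction with
    | mem x hx =>
      obtain ⟨h01, h00, h11⟩ := hx
      exact ⟨x 1 0, ext2 (by simp [coe_low, h00]) (by simp [coe_low, h01]) (by simp [coe_low]) (by simp [coe_low, h11])⟩
    | one => exact ⟨0, low_zero.symm⟩
    | mul a b _ _ ha hb =>
      obtain ⟨s, rfl⟩ := ha
      obtain ⟨t, rfl⟩ := hb
      exact ⟨s + t, (low_add s t).symm⟩
    | inv a _ ha =>
      obtain ⟨s, rfl⟩ := ha
      exact ⟨-s, low_inv s⟩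
  · rintro ⟨t, rfl⟩
    exact Subgroup.subset_closure ⟨by simp [coe_low], by simp [coe_low], by simp [coe_low]⟩

theorem lower_comm : IsMulCommutative ↥(lowerUnipotentSL2 k) := by
  constructor
  constructor
  rintro ⟨a, ha⟩ ⟨b, hb⟩
  obtain ⟨s, rfl⟩ := mem_lower.mp ha
  obtain ⟨t, rfl⟩ := mem_lower.mp hb
  exact Subtype.ext (by simp only [Subgroup.coe_mul]; rw [← low_add, ← low_add, add_comm])

theorem upper_comm : IsMulCommutative ↥(upperUnipotentSL2 k) := by
  constructor
  constructor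
  rintro ⟨a, ha⟩ ⟨b, hb⟩
  obtain ⟨s, rfl⟩ := mem_upper.mp ha
  obtain ⟨t, rfl⟩ := mem_upper.mp hb
  exact Subtype.ext (by simp only [Subgroup.coe_mul]; rw [← up_add, ← up_add, add_comm])

theorem weyl_conj {s t : k} (h : t * s = 1) (r : k) :
    (low s * (up t)⁻¹) * low r * (low s * (up t)⁻¹)⁻¹ = up (-(t * t * r)) := by
  have ht : t ≠ 0 := left_ne_zero_of_mul_eq_one h
  obtain rfl : s = t⁻¹ := eq_inv_of_mul_eq_one_right h
  rw [mul_inv_eq_iff_eq_mul, up_inv]
  apply ext2 <;> simp [coe_up, coe_low, Matrix.SpecialLinearGroup.coe_mul, Matrix.mul_apply,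
    Fin.sum_univ_two, ht]
  all_goals (field_simp; try ring)

/-- The conjugation condition: with a = low s and b = up t, ts = 1. -/
theorem conj_eq {s t : k} (h : t * s = 1) :
    conjBy (lowerUnipotentSL2 k) (up t)⁻¹ = conjBy (upperUnipotentSL2 k) (low s)⁻¹ := by
  have ht : t ≠ 0 := left_ne_zero_of_mul_eq_one h
  have key : conjBy (lowerUnipotentSL2 k) (low s * (up t)⁻¹) = upperUnipotentSL2 k := by
    ext g
    rw [mem_conjBy, mem_upper, mem_lower]
    constructor
    · rintro ⟨r, hr⟩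
      refine ⟨-(t * t * r), ?_⟩
      rw [← weyl_conj h r, ← hr]; group
    · rintro ⟨r, rfl⟩
      refine ⟨-(r / (t * t)), ?_⟩
      have : up r = low s * (up t)⁻¹ * low (-(r / (t * t))) * (low s * (up t)⁻¹)⁻¹ := by
        rw [weyl_conj h]; congr 1; field_simp
      rw [this]; group
  rw [← key, conjBy_conjBy, inv_mul_cancel_left]

theorem isRankOnePair : IsRankOnePair (lowerUnipotentSL2 k) (upperUnipotentSL2 k) := by
  have := lower_comm (k := k)
  have := upper_comm (k := k)
  refine ⟨fun he => ?_, inferInstance, inferInstance, fun a ha ha1 => ?_, fun b hb hb1 => ?_⟩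
  · obtain ⟨t, ht⟩ := mem_lower.mp (he ▸ mem_upper.mpr ⟨(1 : k), rfl⟩)
    simpa [coe_up, coe_low] using congrArg (fun g : SL(2, k) => g 0 1) ht
  · obtain ⟨s, rfl⟩ := mem_lower.mp ha
    have hs : s ≠ 0 := fun h => ha1 (by rw [h, low_zero])
    exact ⟨up s⁻¹, mem_upper.mpr ⟨_, rfl⟩,
      fun h => inv_ne_zero hs (up_injective (h.trans up_zero.symm)), conj_eq (inv_mul_cancel₀ hs)⟩
  · obtain ⟨t, rfl⟩ := mem_upper.mp hb
    have ht : t ≠ 0 := fun h => hb1 (by rw [h, up_zero])
    exact ⟨low t⁻¹, mem_lower.mpr ⟨_, rfl⟩,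
      fun h => inv_ne_zero ht (low_injective (h.trans low_zero.symm)),
      (conj_eq (mul_inv_cancel₀ ht)).symm⟩

theorem isSpecial : IsSpecialRankOnePair (lowerUnipotentSL2 k) (upperUnipotentSL2 k) := by
  refine ⟨isRankOnePair, fun a ha ha1 b hb hb1 heq => ?_⟩
  obtain ⟨s, rfl⟩ := mem_lower.mp ha
  have hs : s ≠ 0 := fun h => ha1 (by rw [h, low_zero])
  have hb' : b = up s⁻¹ := by
    have := RankOne.conjBy_right_inj (RankOnePair_symm (isRankOnePair (k := k))) (inv_mem hb)
      (inv_mem (mem_upper.mpr ⟨s⁻¹, rfl⟩)) (heq.trans (conj_eq (inv_mul_cancel₀ hs)).symm)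
    exact inv_injective this
  subst hb'
  rw [up_inv, low_inv]
  apply ext2 <;> simp [coe_up, coe_low, Matrix.SpecialLinearGroup.coe_mul, Matrix.mul_apply, Fin.sum_univ_two, hs] <;> field_simp <;> simp

theorem sup_eq_top : lowerUnipotentSL2 k ⊔ upperUnipotentSL2 k = ⊤ := by
  rw [eq_top_iff]
  have key : ∀ g : SL(2, k), g 1 0 ≠ 0 → g ∈ lowerUnipotentSL2 k ⊔ upperUnipotentSL2 k := by
    intro g hc
    have hdet : g 0 0 * g 1 1 - g 0 1 * g 1 0 = 1 := by
      rw [← Matrix.det_fin_two]; exact g.2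
    have : g = up ((g 0 0 - 1) / g 1 0) * low (g 1 0) * up ((g 1 1 - 1) / g 1 0) := by
      apply ext2 <;> simp [coe_up, coe_low, Matrix.SpecialLinearGroup.coe_mul, Matrix.mul_apply, Fin.sum_univ_two] <;> field_simp
      all_goals first | ring1 | linear_combination hdet | linear_combination -hdet
    rw [this]
    exact mul_mem (mul_mem (Subgroup.mem_sup_right (mem_upper.mpr ⟨_, rfl⟩))
      (Subgroup.mem_sup_left (mem_lower.mpr ⟨_, rfl⟩)))
      (Subgroup.mem_sup_right (mem_upper.mpr ⟨_, rfl⟩))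
  intro g _
  by_cases hc : g 1 0 = 0
  · have hdet : g 0 0 * g 1 1 - g 0 1 * g 1 0 = 1 := by
      rw [← Matrix.det_fin_two]; exact g.2
    rw [hc, mul_zero, sub_zero] at hdet
    have hlow : low (1 : k) ∈ lowerUnipotentSL2 k ⊔ upperUnipotentSL2 k :=
      Subgroup.mem_sup_left (mem_lower.mpr ⟨_, rfl⟩)
    have h2 : (low (1 : k) * g) 1 0 ≠ 0 := by
      simp [coe_low, Matrix.SpecialLinearGroup.coe_mul, Matrix.mul_apply, Fin.sum_univ_two, hc, left_ne_zero_of_mul_eq_one hdet]
    simpa using mul_mem (inv_mem hlow) (key _ h2)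
  · exact key g hc

end Cfsg.Agent.RootSub.SL2
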