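import Cfsg.Prelude.Def_RootSubgroups

/-!
# Rank one pairs

The set of unipotent subgroups of a rank one group, the regular action of each of its members on
the others, transport along conjugation.
-/

namespace Cfsg.Agent.RootSub

open Cfsg

variable {G : Type*} [Group G]

theorem mem_conjBy {A : Subgroup G} {g x : G} : x ∈ conjBy A g ↔ g⁻¹ * x * g ∈ A := by
  unfold Cfsg.conjBy
  rw [Subgroup.mem_map]
  constructor
  · rintro ⟨a, ha, rfl⟩
    simpa [mul_assoc] using ha
  · intro h
    exact ⟨_, h, by simp [mul_assoc]⟩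

theorem conjBy_one (A : Subgroup G) : conjBy A 1 = A := by
  ext x; simp [mem_conjBy]

theorem conjBy_conjBy (A : Subgroup G) (g h : G) : conjBy (conjBy A h) g = conjBy A (g * h) := by
  ext x; simp [mem_conjBy, mul_assoc]

theorem conjBy_inv_cancel (A : Subgroup G) (g : G) : conjBy (conjBy A g) g⁻¹ = A := by
  rw [conjBy_conjBy, inv_mul_cancel, conjBy_one]

theorem conjBy_cancel_inv (A : Subgroup G) (g : G) : conjBy (conjBy A g⁻¹) g = A := by
  rw [conjBy_conjBy, mul_inv_cancel, conjBy_one]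

theorem conjBy_injective (g : G) : Function.Injective (fun A : Subgroup G => conjBy A g) :=
  fun A B h => by
    have h' : conjBy (conjBy A g) g⁻¹ = conjBy (conjBy B g) g⁻¹ :=
      congrArg (fun C : Subgroup G => conjBy C g⁻¹) h
    rwa [conjBy_inv_cancel, conjBy_inv_cancel] at h'

theorem conjBy_mem_self {A : Subgroup G} {g : G} (hg : g ∈ A) : conjBy A g = A := by
  ext x; rw [mem_conjBy, A.mul_mem_cancel_right hg, A.mul_mem_cancel_left (A.inv_mem hg)]

theorem conjBy_eq_self_iff {A : Subgroup G} {g : G} :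
    conjBy A g = A ↔ g ∈ Subgroup.normalizer (A : Set G) := by
  constructor
  · intro h
    rw [Subgroup.mem_normalizer_iff]
    intro x
    conv_rhs => rw [← h]
    simp [mem_conjBy, mul_assoc]
  · intro h
    ext x
    rw [mem_conjBy]
    constructor
    · intro hx
      have := (Subgroup.mem_normalizer_iff.mp h _).mp hx
      simpa [mul_assoc] using this
    · intro hx
      exact (Subgroup.mem_normalizer_iff.mp h _).mpr (by simpa [mul_assoc] using hx)

theorem conjBy_mem {A : Subgroup G} {x : G} (hx : x ∈ A) (g : G) : g * x * g⁻¹ ∈ conjBy A g := by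
  simpa [mem_conjBy, mul_assoc] using hx

theorem conjBy_mono {A B : Subgroup G} (h : A ≤ B) (g : G) : conjBy A g ≤ conjBy B g :=
  Subgroup.map_mono h

theorem conjBy_le_of_mem {A B : Subgroup G} (h : A ≤ B) {g : G} (hg : g ∈ B) : conjBy A g ≤ B :=
  (conjBy_mono h g).trans (conjBy_mem_self hg).le

theorem conjBy_sup (A B : Subgroup G) (g : G) : conjBy (A ⊔ B) g = conjBy A g ⊔ conjBy B g :=
  Subgroup.map_sup _ _ _

theorem conjBy_commutator (A B : Subgroup G) (g : G) :
    conjBy ⁅A, B⁆ g = ⁅conjBy A g, conjBy B g⁆ :=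
  Subgroup.map_commutator _ _ _

theorem conjBy_eq_bot_iff {A : Subgroup G} {g : G} : conjBy A g = ⊥ ↔ A = ⊥ := by
  constructor
  · intro h
    have h' := congrArg (fun C : Subgroup G => conjBy C g⁻¹) h
    simp only [conjBy_inv_cancel] at h'
    exact h'.trans (Subgroup.map_bot _)
  · rintro rfl; exact Subgroup.map_bot _

theorem mem_unipotent {A B : Subgroup G} {C : Subgroup G} :
    C ∈ unipotentSubgroups A B ↔ ∃ x ∈ A ⊔ B, C = conjBy A x := Iff.rfl

theorem conjBy_mem_unipotent {A B C : Subgroup G} {x : G} (hx : x ∈ A ⊔ B)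
    (hC : C ∈ unipotentSubgroups A B) : conjBy C x ∈ unipotentSubgroups A B := by
  obtain ⟨y, hy, rfl⟩ := hC
  exact ⟨x * y, mul_mem hx hy, conjBy_conjBy _ _ _⟩

theorem self_mem_unipotent (A B : Subgroup G) : A ∈ unipotentSubgroups A B :=
  ⟨1, one_mem _, (conjBy_one A).symm⟩

theorem unipotent_le {A B C : Subgroup G} (hC : C ∈ unipotentSubgroups A B) : C ≤ A ⊔ B := by
  obtain ⟨x, hx, rfl⟩ := hC
  exact conjBy_le_of_mem le_sup_left hx

namespace RankOne

variable {A B : Subgroup G}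

theorem inf_normalizer (h : IsRankOnePair A B) : A ⊓ Subgroup.normalizer (B : Set G) = ⊥ := by
  rw [eq_bot_iff]
  rintro a ⟨ha, hN⟩
  rw [Subgroup.mem_bot]
  by_contra hne
  obtain ⟨b, hb, -, heq⟩ := h.cond_left a ha hne
  rw [conjBy_eq_self_iff.mpr (inv_mem hN)] at heq
  have h' := congrArg (fun C : Subgroup G => conjBy C b) heq
  simp only [conjBy_cancel_inv, conjBy_mem_self hb] at h'
  exact h.ne h'

theorem eq_one_of_fix (h : IsRankOnePair A B) {a : G} (ha : a ∈ A) (hfix : conjBy B a = B) :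
    a = 1 := by
  have : a ∈ A ⊓ Subgroup.normalizer (B : Set G) := ⟨ha, conjBy_eq_self_iff.mp hfix⟩
  rwa [inf_normalizer h, Subgroup.mem_bot] at this

theorem left_ne_bot (h : IsRankOnePair A B) : A ≠ ⊥ := by
  rintro rfl
  obtain ⟨b, hb, hb1⟩ := B.ne_bot_iff_exists_ne_one.mp h.ne.symm |> fun ⟨⟨x, hx⟩, hx1⟩ =>
    (⟨x, hx, fun he => hx1 (Subtype.ext he)⟩ : ∃ b ∈ B, b ≠ 1)
  obtain ⟨a, ha, ha1, -⟩ := h.cond_right b hb hb1
  exact ha1 (Subgroup.mem_bot.mp ha)

theorem right_ne_bot (h : IsRankOnePair A B) : B ≠ ⊥ := left_ne_bot (RankOnePair_symm h)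

theorem exists_ne_one (h : IsRankOnePair A B) : ∃ a ∈ A, a ≠ 1 := by
  obtain ⟨⟨a, ha⟩, ha1⟩ := A.ne_bot_iff_exists_ne_one.mp (left_ne_bot h)
  exact ⟨a, ha, fun he => ha1 (Subtype.ext he)⟩

theorem right_eq_conj (h : IsRankOnePair A B) : ∃ x ∈ A ⊔ B, B = conjBy A x := by
  obtain ⟨a, ha, ha1⟩ := exists_ne_one h
  obtain ⟨b, hb, -, heq⟩ := h.cond_left a ha ha1
  refine ⟨a * b⁻¹, mul_mem (Subgroup.mem_sup_left ha) (inv_mem (Subgroup.mem_sup_right hb)), ?_⟩
  rw [← conjBy_conjBy, heq, conjBy_cancel_inv]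

theorem right_mem (h : IsRankOnePair A B) : B ∈ unipotentSubgroups A B := right_eq_conj h

/-- Every unipotent subgroup other than `A` is a conjugate of `B` under `A`. -/
theorem cases_of_mem (h : IsRankOnePair A B) {C : Subgroup G} (hC : C ∈ unipotentSubgroups A B) :
    C = A ∨ ∃ a ∈ A, C = conjBy B a := by
  obtain ⟨x, hx, rfl⟩ := hC
  let P : Subgroup G → Prop := fun C => C = A ∨ ∃ a ∈ A, C = conjBy B a
  have hA : ∀ a ∈ A, ∀ C, P C → P (conjBy C a) := by
    rintro a ha C (rfl | ⟨a', ha', rfl⟩)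
    · exact Or.inl (conjBy_mem_self ha)
    · exact Or.inr ⟨a * a', mul_mem ha ha', conjBy_conjBy _ _ _⟩
  have hA1 : ∀ b ∈ B, P (conjBy A b) := by
    intro b hb
    by_cases hb1 : b = 1
    · exact Or.inl (by rw [hb1, conjBy_one])
    · obtain ⟨a, ha, -, heq⟩ := h.cond_right b⁻¹ (inv_mem hb) (inv_ne_one.mpr hb1)
      refine Or.inr ⟨a⁻¹, inv_mem ha, ?_⟩
      rw [inv_inv] at heq
      exact heq.symm
  have hB : ∀ b ∈ B, ∀ C, P C → P (conjBy C b) := by
    rintro b hb C (rfl | ⟨a, ha, rfl⟩)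
    · exact hA1 b hb
    · by_cases ha1 : a = 1
      · refine Or.inr ⟨1, one_mem _, ?_⟩
        rw [ha1, conjBy_one, conjBy_mem_self hb]
      · obtain ⟨b', hb', -, heq⟩ := h.cond_left a⁻¹ (inv_mem ha) (inv_ne_one.mpr ha1)
        rw [inv_inv] at heq
        rw [← heq, conjBy_conjBy]
        exact hA1 _ (mul_mem hb (inv_mem hb'))
  have key : ∀ C, P C → P (conjBy C x) := by
    rw [Subgroup.sup_eq_closure] at hx
    induction hx using Subgroup.closure_induction'' with
    | one => intro C hC; rwa [conjBy_one]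
    | mem g hg => rcases hg with hg | hg; exacts [hA g hg, hB g hg]
    | inv_mem g hg => rcases hg with hg | hg; exacts [hA _ (inv_mem hg), hB _ (inv_mem hg)]
    | mul g k _ _ ihg ihk => intro C hC; rw [← conjBy_conjBy]; exact ihg _ (ihk _ hC)
  exact key A (Or.inl rfl)

theorem exists_conj (h : IsRankOnePair A B) {C : Subgroup G} (hC : C ∈ unipotentSubgroups A B)
    (hne : C ≠ A) : ∃ a ∈ A, C = conjBy B a :=
  (cases_of_mem h hC).resolve_left hne

theorem conjBy_right_inj (h : IsRankOnePair A B) {a a' : G} (ha : a ∈ A) (ha' : a' ∈ A)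
    (he : conjBy B a = conjBy B a') : a = a' := by
  refine inv_mul_eq_one.mp (eq_one_of_fix h (mul_mem (inv_mem ha) ha') ?_)
  rw [← conjBy_conjBy, ← he, conjBy_inv_cancel]

theorem conjBy_left_ne (h : IsRankOnePair A B) {a : G} (ha : a ∈ A) : conjBy B a ≠ A := by
  intro he
  have := congrArg (fun C : Subgroup G => conjBy C a⁻¹) he
  simp only [conjBy_inv_cancel, conjBy_mem_self (inv_mem ha)] at this
  exact h.ne this.symm

/-- A non-identity element of `A` fixes only `A`. -/
theorem eq_of_fix (h : IsRankOnePair A B) {a : G} (ha : a ∈ A) (ha1 : a ≠ 1) {C : Subgroup G}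
    (hC : C ∈ unipotentSubgroups A B) (hfix : conjBy C a = C) : C = A := by
  by_contra hne
  obtain ⟨a', ha', rfl⟩ := exists_conj h hC hne
  rw [conjBy_conjBy] at hfix
  exact ha1 (mul_eq_right.mp (conjBy_right_inj h (mul_mem ha ha') ha' hfix))

theorem conj_pair (h : IsRankOnePair A B) (g : G) : IsRankOnePair (conjBy A g) (conjBy B g) := by
  have hcond : ∀ {C D : Subgroup G}, RankOneCondition C D →
      RankOneCondition (conjBy C g) (conjBy D g) := by
    intro C D hc c hc' hc1
    obtain ⟨d, hd, hd1, heq⟩ := hc _ (mem_conjBy.mp hc') (by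
      intro he; apply hc1
      have := congrArg (fun t => g * t * g⁻¹) he
      simpa [mul_assoc] using this)
    refine ⟨g * d * g⁻¹, conjBy_mem hd g, fun he => hd1 ?_, ?_⟩
    · rwa [conj_eq_one_iff] at he
    · have := congrArg (fun E : Subgroup G => conjBy E g) heq
      simpa [conjBy_conjBy, mul_assoc] using this
  have := h.nilpotent_left
  have := h.nilpotent_right
  exact ⟨fun he => h.ne (conjBy_injective g he),
    Group.nilpotent_of_surjective ((MulAut.conj g).toMonoidHom.subgroupMap A)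
      ((MulAut.conj g).toMonoidHom.subgroupMap_surjective A),
    Group.nilpotent_of_surjective ((MulAut.conj g).toMonoidHom.subgroupMap B)
      ((MulAut.conj g).toMonoidHom.subgroupMap_surjective B),
    hcond h.cond_left, hcond h.cond_right⟩

theorem exists_transport (h : IsRankOnePair A B) {C D : Subgroup G}
    (hC : C ∈ unipotentSubgroups A B) (hD : D ∈ unipotentSubgroups A B) (hne : C ≠ D) :
    ∃ x ∈ A ⊔ B, conjBy A x = C ∧ conjBy B x = D := by
  obtain ⟨x, hx, rfl⟩ := hC
  have hD' : conjBy D x⁻¹ ∈ unipotentSubgroups A B := conjBy_mem_unipotent (inv_mem hx) hD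
  have hne' : conjBy D x⁻¹ ≠ A := fun he => hne (by rw [← he, conjBy_cancel_inv])
  obtain ⟨a, ha, he⟩ := exists_conj h hD' hne'
  refine ⟨x * a, mul_mem hx (Subgroup.mem_sup_left ha), ?_, ?_⟩
  · rw [← conjBy_conjBy, conjBy_mem_self ha]
  · rw [← conjBy_conjBy, ← he, conjBy_cancel_inv]

theorem pair_of_ne (h : IsRankOnePair A B) {C D : Subgroup G} (hC : C ∈ unipotentSubgroups A B)
    (hD : D ∈ unipotentSubgroups A B) (hne : C ≠ D) : IsRankOnePair C D ∧ C ⊔ D = A ⊔ B := by
  obtain ⟨x, hx, rfl, rfl⟩ := exists_transport h hC hD hne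
  exact ⟨conj_pair h x, by rw [← conjBy_sup, conjBy_mem_self hx]⟩

theorem unipotent_congr (h : IsRankOnePair A B) {C D : Subgroup G}
    (hC : C ∈ unipotentSubgroups A B) (hD : D ∈ unipotentSubgroups A B) (hne : C ≠ D) :
    unipotentSubgroups C D = unipotentSubgroups A B := by
  obtain ⟨-, hsup⟩ := pair_of_ne h hC hD hne
  obtain ⟨y, hy, rfl⟩ := hC
  ext E
  simp only [mem_unipotent, hsup]
  constructor
  · rintro ⟨x, hx, rfl⟩; exact ⟨x * y, mul_mem hx hy, conjBy_conjBy _ _ _⟩
  · rintro ⟨x, hx, rfl⟩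
    exact ⟨x * y⁻¹, mul_mem hx (inv_mem hy), by rw [conjBy_conjBy, inv_mul_cancel_right]⟩

theorem unipotent_symm (h : IsRankOnePair A B) :
    unipotentSubgroups B A = unipotentSubgroups A B :=
  unipotent_congr h (right_mem h) (self_mem_unipotent A B) h.ne.symm

/-- A non-identity element of a unipotent subgroup fixes only that subgroup. -/
theorem eq_of_fix_mem (h : IsRankOnePair A B) {C D : Subgroup G}
    (hC : C ∈ unipotentSubgroups A B) (hD : D ∈ unipotentSubgroups A B) {c : G} (hc : c ∈ C)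
    (hc1 : c ≠ 1) (hfix : conjBy D c = D) : D = C := by
  by_contra hne
  obtain ⟨hp, -⟩ := pair_of_ne h hC hD (Ne.symm hne)
  exact hne (eq_of_fix hp hc hc1 (right_mem hp) hfix)

theorem eq_of_mem_mem (h : IsRankOnePair A B) {C D : Subgroup G}
    (hC : C ∈ unipotentSubgroups A B) (hD : D ∈ unipotentSubgroups A B) {c : G} (hc : c ∈ C)
    (hcD : c ∈ D) (hc1 : c ≠ 1) : D = C :=
  eq_of_fix_mem h hC hD hc hc1 (conjBy_mem_self hcD)

/-- The commutator of non-identity elements of `A` and `B` does not normalise `A`. -/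
theorem commutator_not_fix (h : IsRankOnePair A B) {a b : G} (ha : a ∈ A) (ha1 : a ≠ 1)
    (hb : b ∈ B) (hb1 : b ≠ 1) : conjBy A (a * b * a⁻¹ * b⁻¹) ≠ A := by
  intro he
  have h1 : conjBy A (b * a⁻¹ * b⁻¹) = A := by
    have h2 := congrArg (fun C : Subgroup G => conjBy C a⁻¹) he
    simp only [conjBy_conjBy, conjBy_mem_self (inv_mem ha)] at h2
    simpa [mul_assoc] using h2
  have hD : conjBy A b⁻¹ ∈ unipotentSubgroups A B :=
    ⟨b⁻¹, inv_mem (Subgroup.mem_sup_right hb), rfl⟩
  have h3 : conjBy (conjBy A b⁻¹) a⁻¹ = conjBy A b⁻¹ := by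
    have h4 := congrArg (fun C : Subgroup G => conjBy C b⁻¹) h1
    simp only [conjBy_conjBy] at h4 ⊢
    simpa [mul_assoc] using h4
  have h5 := eq_of_fix h (inv_mem ha) (inv_ne_one.mpr ha1) hD h3
  exact hb1 (inv_eq_one.mp (eq_one_of_fix (RankOnePair_symm h) (inv_mem hb) h5))

theorem not_commute (h : IsRankOnePair A B) {a b : G} (ha : a ∈ A) (ha1 : a ≠ 1) (hb : b ∈ B)
    (hb1 : b ≠ 1) : a * b ≠ b * a := by
  intro he
  apply commutator_not_fix h ha ha1 hb hb1
  rw [show a * b * a⁻¹ * b⁻¹ = 1 by rw [he]; group, conjBy_one]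

theorem commutator_ne_bot (h : IsRankOnePair A B) : ⁅A, B⁆ ≠ ⊥ := by
  intro he
  obtain ⟨a, ha, ha1⟩ := exists_ne_one h
  obtain ⟨b, hb, hb1⟩ := exists_ne_one (RankOnePair_symm h)
  have hm := Subgroup.commutator_mem_commutator ha hb
  rw [he, Subgroup.mem_bot, commutatorElement_eq_one_iff_mul_comm] at hm
  exact not_commute h ha ha1 hb hb1 hm

end RankOne

/-! ### Rank one groups -/

namespace RankOne

variable {X : Type*} [Group X] {A B : Subgroup X}

/-- An element normalising every unipotent subgroup of a rank one group is central. -/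
theorem mem_center_of_fix_all (hX : A ⊔ B = ⊤) (h : IsRankOnePair A B) {n : X}
    (hn : ∀ C ∈ unipotentSubgroups A B, conjBy C n = C) : n ∈ Subgroup.center X := by
  have key : ∀ {C D : Subgroup X}, IsRankOnePair C D → unipotentSubgroups C D = unipotentSubgroups A B →
      ∀ a ∈ C, a * n = n * a := by
    intro C D hp hΩ a ha
    have hC : conjBy C n = C := hn C (hΩ ▸ self_mem_unipotent C D)
    have hc : n * a * n⁻¹ * a⁻¹ ∈ C :=
      mul_mem (by simpa [hC] using conjBy_mem ha n) (inv_mem ha)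
    have hD : conjBy D (n * a * n⁻¹ * a⁻¹) = D := by
      have h1 : conjBy (conjBy D a⁻¹) n⁻¹ = conjBy D a⁻¹ := by
        have h2 : conjBy (conjBy D a⁻¹) n = conjBy D a⁻¹ := hn _ (hΩ ▸
          conjBy_mem_unipotent (inv_mem (Subgroup.mem_sup_left ha)) (right_mem hp))
        conv_lhs => rw [← h2]
        rw [conjBy_inv_cancel]
      rw [show n * a * n⁻¹ * a⁻¹ = n * (a * (n⁻¹ * a⁻¹)) by group, ← conjBy_conjBy,
        ← conjBy_conjBy, ← conjBy_conjBy, h1, conjBy_cancel_inv,
        hn D (hΩ ▸ right_mem hp)]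
    have he := eq_one_of_fix hp hc hD
    have h6 : n * a * n⁻¹ = a := mul_inv_eq_one.mp he
    conv_lhs => rw [← h6]
    group
  rw [Subgroup.mem_center_iff]
  intro g
  have hg : g ∈ Subgroup.centralizer ({n} : Set X) := by
    have hle : A ⊔ B ≤ Subgroup.centralizer ({n} : Set X) := by
      refine sup_le (fun a ha => ?_) (fun b hb => ?_)
      · rw [Subgroup.mem_centralizer_singleton_iff]; exact key h rfl a ha
      · rw [Subgroup.mem_centralizer_singleton_iff]
        exact key (RankOnePair_symm h) (unipotent_symm h) b hb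
    exact hle (hX ▸ Subgroup.mem_top g)
  exact Subgroup.mem_centralizer_singleton_iff.mp hg

/-- A normal subgroup of a rank one group is central or together with `A` generates the group. -/
theorem normal_cases (hX : A ⊔ B = ⊤) (h : IsRankOnePair A B) (N : Subgroup X) [hN : N.Normal] :
    N ⊔ A = ⊤ ∨ N ≤ Subgroup.center X := by
  by_cases hfix : ∀ n ∈ N, conjBy A n = A
  · right
    intro n hn
    refine mem_center_of_fix_all hX h fun C hC => ?_
    obtain ⟨x, -, rfl⟩ := hC
    have h1 := hfix _ (hN.conj_mem n hn x⁻¹)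
    rw [conjBy_conjBy, show n * x = x * (x⁻¹ * n * x⁻¹⁻¹) by group, ← conjBy_conjBy, h1]
  · left
    push Not at hfix
    obtain ⟨n, hn, hne⟩ := hfix
    obtain ⟨a, ha, he⟩ := exists_conj h ⟨n, hX ▸ Subgroup.mem_top n, rfl⟩ hne
    rw [eq_top_iff, ← hX]
    refine sup_le le_sup_right ?_
    have hB : B = conjBy A (a⁻¹ * n) := by rw [← conjBy_conjBy, he, conjBy_inv_cancel]
    rw [hB]
    exact conjBy_le_of_mem le_sup_right
      (mul_mem (Subgroup.mem_sup_right (inv_mem ha)) (Subgroup.mem_sup_left hn))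

theorem not_isNilpotent (hX : A ⊔ B = ⊤) (h : IsRankOnePair A B) : ¬ Group.IsNilpotent X := by
  intro hnil
  have hM : Subgroup.normalizer (A : Set X) ≠ ⊤ := by
    intro ht
    obtain ⟨x, -, hx⟩ := right_eq_conj h
    have hfix : conjBy A x = A := conjBy_eq_self_iff.mpr (by rw [ht]; exact Subgroup.mem_top x)
    exact h.ne (hx.trans hfix).symm
  have hlt := Group.normalizerCondition_of_isNilpotent (G := X)
    (Subgroup.normalizer (A : Set X)) (lt_top_iff_ne_top.mpr hM)
  obtain ⟨n, hn, hnot⟩ := SetLike.exists_of_lt hlt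
  obtain ⟨a, ha, ha1⟩ := exists_ne_one h
  apply hnot
  rw [← conjBy_eq_self_iff]
  refine eq_of_fix h ha ha1 ⟨n, hX ▸ Subgroup.mem_top n, rfl⟩ ?_
  have h1 : n⁻¹ * a * n ∈ Subgroup.normalizer (A : Set X) :=
    (Subgroup.mem_normalizer_iff''.mp hn a).mp (Subgroup.le_normalizer ha)
  rw [conjBy_conjBy, show a * n = n * (n⁻¹ * a * n) by group, ← conjBy_conjBy,
    conjBy_eq_self_iff.mpr h1]

end RankOne

end Cfsg.Agent.RootSub
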