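import Cfsg.Agent.RootSub.Sets

/-!
# Commutator calculus for abstract root subgroups

The commutator case as a bilinear pairing, sums of commuting root elements, and the behaviour of
the rank one graph under conjugation.
-/

namespace Cfsg.Agent.RootSub

open Cfsg
open scoped commutatorElement

variable {G : Type*} [Group G] {S : Set (Subgroup G)} {A B C D E F P : Subgroup G}

theorem IsRootSubgroupSet.commute_self (hS : IsRootSubgroupSet S) (hA : A ∈ S) {x y : G}
    (hx : x ∈ A) (hy : y ∈ A) : x * y = y * x :=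
  congrArg Subtype.val ((hS.commutative A hA).is_comm.comm ⟨x, hx⟩ ⟨y, hy⟩)

theorem bot_comm (h : ⁅A, B⁆ = ⊥) : ⁅B, A⁆ = ⊥ := by rwa [Subgroup.commutator_comm]

theorem bot_self (hS : IsRootSubgroupSet S) (hA : A ∈ S) : ⁅A, A⁆ = ⊥ :=
  bot_of_commute fun _ hx _ hy => IsRootSubgroupSet.commute_self hS hA hx hy

theorem conjBy_bot_iff (g : G) : ⁅conjBy A g, conjBy B g⁆ = ⊥ ↔ ⁅A, B⁆ = ⊥ := by
  rw [← conjBy_commutator, conjBy_eq_bot_iff]

theorem sup_le_centralizer {z : G} (hA : ∀ x ∈ A, z * x = x * z) (hB : ∀ x ∈ B, z * x = x * z) :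
    ∀ x ∈ A ⊔ B, z * x = x * z := by
  intro x hx
  have hle : A ⊔ B ≤ Subgroup.centralizer ({z} : Set G) :=
    sup_le (fun y hy => Subgroup.mem_centralizer_singleton_iff.mpr (hA y hy).symm)
      (fun y hy => Subgroup.mem_centralizer_singleton_iff.mpr (hB y hy).symm)
  exact (Subgroup.mem_centralizer_singleton_iff.mp (hle hx)).symm

namespace RankOne

theorem not_bot (h : IsRankOnePair A B) : ⁅A, B⁆ ≠ ⊥ := commutator_ne_bot h

/-- The commutator of elements of a rank one pair does not normalise the right member. -/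
theorem commutator_not_fix_right (h : IsRankOnePair A B) {a b : G} (ha : a ∈ A) (ha1 : a ≠ 1)
    (hb : b ∈ B) (hb1 : b ≠ 1) : conjBy B ⁅a, b⁆ ≠ B := by
  intro he
  apply commutator_not_fix (RankOnePair_symm h) hb hb1 ha ha1
  have h2 := congrArg (fun C : Subgroup G => conjBy C ⁅a, b⁆⁻¹) he
  simp only [conjBy_inv_cancel] at h2
  rw [show b * a * b⁻¹ * a⁻¹ = ⁅a, b⁆⁻¹ by simp [commutatorElement_def]; group]
  exact h2.symm

theorem commutator_not_commute_right (h : IsRankOnePair A B) {a b : G} (ha : a ∈ A) (ha1 : a ≠ 1)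
    (hb : b ∈ B) (hb1 : b ≠ 1) : ¬ ∀ y ∈ B, ⁅a, b⁆ * y = y * ⁅a, b⁆ :=
  fun hc => commutator_not_fix_right h ha ha1 hb hb1 (fix_of_commute hc)

/-- An element commuting with two unipotent subgroups centralises the rank one group. -/
theorem centralize_of_two (h : IsRankOnePair A B) (hC : C ∈ unipotentSubgroups A B)
    (hD : D ∈ unipotentSubgroups A B) (hne : C ≠ D) {z : G} (hzC : ∀ x ∈ C, z * x = x * z)
    (hzD : ∀ x ∈ D, z * x = x * z) : ∀ x ∈ A ⊔ B, z * x = x * z := by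
  obtain ⟨-, hsup⟩ := pair_of_ne h hC hD hne
  intro x hx
  exact sup_le_centralizer hzC hzD x (hsup ▸ hx)

theorem bot_of_two (h : IsRankOnePair A B) (hC : C ∈ unipotentSubgroups A B)
    (hD : D ∈ unipotentSubgroups A B) (hne : C ≠ D) (hEC : ⁅E, C⁆ = ⊥) (hED : ⁅E, D⁆ = ⊥) :
    ⁅E, A⁆ = ⊥ ∧ ⁅E, B⁆ = ⊥ := by
  constructor
  · exact bot_of_commute fun e he a ha => centralize_of_two h hC hD hne
      (fun x hx => commute_of_bot hEC he hx) (fun x hx => commute_of_bot hED he hx) a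
      (Subgroup.mem_sup_left ha)
  · exact bot_of_commute fun e he b hb => centralize_of_two h hC hD hne
      (fun x hx => commute_of_bot hEC he hx) (fun x hx => commute_of_bot hED he hx) b
      (Subgroup.mem_sup_right hb)

theorem conj_right_rankOne (h : IsRankOnePair A B) {a : G} (ha : a ∈ A) (ha1 : a ≠ 1) :
    IsRankOnePair (conjBy B a) B :=
  (pair_of_ne h (conjBy_mem_unipotent (Subgroup.mem_sup_left ha) (right_mem h)) (right_mem h)
    fun he => ha1 (eq_one_of_fix h ha he)).1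

end RankOne

theorem commCase_of_mem (hS : IsRootSubgroupSet S) (hA : A ∈ S) (hB : B ∈ S)
    (hC : ⁅A, B⁆ ∈ S) : RootCommutatorCase S A B := by
  rcases hS.pair A hA B hB with hb | hr | hc
  · exact absurd hb (hS.ne_bot _ hC)
  · exfalso
    obtain ⟨a, ha, ha1⟩ := RankOne.exists_ne_one hr
    obtain ⟨b, hb, hb1⟩ := RankOne.exists_ne_one (RankOnePair_symm hr)
    have hle : ⁅A, B⁆ ≤ A ⊔ B := Subgroup.commutator_le.mpr fun x hx y hy =>
      mul_mem (mul_mem (mul_mem (Subgroup.mem_sup_left hx) (Subgroup.mem_sup_right hy))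
        (inv_mem (Subgroup.mem_sup_left hx))) (inv_mem (Subgroup.mem_sup_right hy))
    rcases mem_or_centralize hS hA hr hC hle with hmem | ⟨hcA, -⟩
    · have hfix : ∀ g ∈ A, conjBy ⁅A, B⁆ g = ⁅A, B⁆ := fun g hg => by
        rw [conjBy_eq_self_iff]
        exact Subgroup.normalizer_commutator_ge_left A B hg
      have hfixB : ∀ g ∈ B, conjBy ⁅A, B⁆ g = ⁅A, B⁆ := fun g hg => by
        rw [conjBy_eq_self_iff, Subgroup.commutator_comm]
        exact Subgroup.normalizer_commutator_ge_left B A hg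
      have e1 := RankOne.eq_of_fix hr ha ha1 hmem (hfix a ha)
      have e2 := RankOne.eq_of_fix_mem hr (RankOne.right_mem hr) hmem hb hb1 (hfixB b hb)
      exact hr.ne (e1.symm.trans e2)
    · exact RankOne.commutator_not_fix hr ha ha1 hb hb1 (fix_of_commute fun x hx =>
        commute_of_bot hcA (Subgroup.commutator_mem_commutator ha hb) hx)
  · exact hc

namespace CommCase

variable (h : RootCommutatorCase S A B)
include h

theorem mul_right {a b b' : G} (ha : a ∈ A) (hb : b ∈ B) (hb' : b' ∈ B) :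
    ⁅a, b * b'⁆ = ⁅a, b⁆ * ⁅a, b'⁆ := by
  have hc := commCase_central_right h (Subgroup.commutator_mem_commutator ha hb') hb
  rw [show ⁅a, b * b'⁆ = ⁅a, b⁆ * (b * ⁅a, b'⁆ * b⁻¹) by simp [commutatorElement_def]; group,
    ← hc, mul_inv_cancel_right]

theorem mul_left {a a' b : G} (ha : a ∈ A) (ha' : a' ∈ A) (hb : b ∈ B) :
    ⁅a * a', b⁆ = ⁅a', b⁆ * ⁅a, b⁆ := by
  have hc := commCase_central_left h (Subgroup.commutator_mem_commutator ha' hb) ha
  rw [show ⁅a * a', b⁆ = a * ⁅a', b⁆ * a⁻¹ * ⁅a, b⁆ by simp [commutatorElement_def]; group,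
    ← hc, mul_inv_cancel_right]

theorem exists_right {a c : G} (ha : a ∈ A) (ha1 : a ≠ 1) (hc : c ∈ ⁅A, B⁆) :
    ∃ b ∈ B, ⁅a, b⁆ = c := by
  let K : Subgroup G :=
    { carrier := {c | ∃ b ∈ B, ⁅a, b⁆ = c}
      one_mem' := ⟨1, one_mem _, commutatorElement_one_right a⟩
      mul_mem' := by
        rintro _ _ ⟨b, hb, rfl⟩ ⟨b', hb', rfl⟩
        exact ⟨b * b', mul_mem hb hb', mul_right h ha hb hb'⟩
      inv_mem' := by
        rintro _ ⟨b, hb, rfl⟩
        refine ⟨b⁻¹, inv_mem hb, eq_inv_of_mul_eq_one_left ?_⟩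
        rw [← mul_right h ha (inv_mem hb) hb, inv_mul_cancel, commutatorElement_one_right] }
  rw [← h.2.2.1 a ha ha1] at hc
  exact (Subgroup.closure_le K).mpr (by rintro _ ⟨b, hb, rfl⟩; exact ⟨b, hb, rfl⟩) hc

theorem exists_left {b c : G} (hb : b ∈ B) (hb1 : b ≠ 1) (hc : c ∈ ⁅A, B⁆) :
    ∃ a ∈ A, ⁅a, b⁆ = c := by
  rw [Subgroup.commutator_comm] at hc
  obtain ⟨a, ha, he⟩ := exists_right (commCase_symm h) hb hb1 (inv_mem hc)
  exact ⟨a, ha, by rw [← commutatorElement_inv, he, inv_inv]⟩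

theorem exists_ne_one_right (hS : IsRootSubgroupSet S) {a : G} (ha : a ∈ A) (ha1 : a ≠ 1) :
    ∃ b ∈ B, b ≠ 1 ∧ ⁅a, b⁆ ≠ 1 := by
  obtain ⟨c, hc, hc1⟩ := ne_one_of_mem_ne_bot (hS.ne_bot _ h.1)
  obtain ⟨b, hb, rfl⟩ := exists_right h ha ha1 hc
  exact ⟨b, hb, fun e => hc1 (by rw [e, commutatorElement_one_right]), hc1⟩

theorem exists_ne_one_left (hS : IsRootSubgroupSet S) {b : G} (hb : b ∈ B) (hb1 : b ≠ 1) :
    ∃ a ∈ A, a ≠ 1 ∧ ⁅a, b⁆ ≠ 1 := by
  obtain ⟨c, hc, hc1⟩ := ne_one_of_mem_ne_bot (hS.ne_bot _ h.1)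
  obtain ⟨a, ha, rfl⟩ := exists_left h hb hb1 hc
  exact ⟨a, ha, fun e => hc1 (by rw [e, commutatorElement_one_left]), hc1⟩

theorem left_ne_value (hS : IsRootSubgroupSet S) : A ≠ ⁅A, B⁆ := by
  intro he
  obtain ⟨c, hc, hc1⟩ := ne_one_of_mem_ne_bot (hS.ne_bot _ h.1)
  have hcA : c ∈ A := he.symm ▸ hc
  obtain ⟨b, hb, -, hne⟩ := exists_ne_one_right h hS hcA hc1
  exact hne (commutatorElement_eq_one_iff_mul_comm.mpr (commCase_central_right h hc hb))

theorem value_bot_left : ⁅⁅A, B⁆, A⁆ = ⊥ :=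
  bot_of_commute fun _ hc _ ha => commCase_central_left h hc ha

theorem value_bot_right : ⁅⁅A, B⁆, B⁆ = ⊥ :=
  bot_of_commute fun _ hc _ hb => commCase_central_right h hc hb

/-- If the left member has a rank one partner, the pairing has no zero divisors. -/
theorem ne_one (hS : IsRootSubgroupSet S) (hA : A ∈ S) {P : Subgroup G} (hP : P ∈ S)
    (hp : IsRankOnePair A P) {a b : G} (ha : a ∈ A) (ha1 : a ≠ 1) (hb : b ∈ B) (hb1 : b ≠ 1) :
    ⁅a, b⁆ ≠ 1 := by
  intro he
  have hcomm : a * b = b * a := commutatorElement_eq_one_iff_mul_comm.mp he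
  have hmem : a ∈ conjBy A b := by
    rw [mem_conjBy, mul_assoc, hcomm, inv_mul_cancel_left]; exact ha
  have hfix : conjBy A b = A := by
    by_contra hne
    have := inf_eq_bot_of_partner hS hP (hS.conj_mem A hA b) hp (Ne.symm hne)
    exact ha1 (Subgroup.mem_bot.mp (this ▸ ⟨ha, hmem⟩))
  have hAC := inf_eq_bot_of_partner hS hP h.1 hp (left_ne_value h hS)
  obtain ⟨a', ha', -, hne⟩ := exists_ne_one_left h hS hb hb1
  refine hne (Subgroup.mem_bot.mp (hAC ▸ ⟨?_, Subgroup.commutator_mem_commutator ha' hb⟩))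
  rw [commutatorElement_def, show a' * b * a'⁻¹ * b⁻¹ = a' * (b * a'⁻¹ * b⁻¹) by group]
  exact mul_mem ha' (by simpa [hfix] using conjBy_mem (inv_mem ha') b)

end CommCase

/-- A commutator value is never centralised by a rank one group on one of the two members. -/
theorem value_not_bot (hS : IsRootSubgroupSet S) (hPS : P ∈ S) (hC : C ∈ S)
    (hc : RootCommutatorCase S P E) (hp : IsRankOnePair P C) : ⁅⁅P, E⁆, C⁆ ≠ ⊥ := by
  intro hbot
  have hP : P ≠ ⊥ := RankOne.left_ne_bot hp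
  obtain ⟨p, hpP, hp1⟩ := ne_one_of_mem_ne_bot hP
  obtain ⟨e, he, -, hne⟩ := CommCase.exists_ne_one_right hc hS hpP hp1
  have hz : ⁅e, p⁆ ∈ ⁅P, E⁆ := by
    rw [Subgroup.commutator_comm]; exact Subgroup.commutator_mem_commutator he hpP
  have hne' : ⁅e, p⁆ ≠ 1 := fun h => hne (by rw [← commutatorElement_inv, h, inv_one])
  refine mul_not_mem_rootElements hS hC hp (z := ⁅e, p⁆)
    (fun x hx => commCase_central_left hc hz hx) (fun x hx => commute_of_bot hbot hz hx)
    hne' hpP hp1 ?_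
  have he' : ⁅e, p⁆ * p = e * p * e⁻¹ := by simp [commutatorElement_def]
  rw [he']
  exact ⟨fun h => hp1 (conj_eq_one_iff.mp h), conjBy P e, hS.conj_mem P hPS e, conjBy_mem hpP e⟩

end Cfsg.Agent.RootSub
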