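import Cfsg.Agent.RootSub.Partition

/-!
# Components of the rank one graph are stable under the members; transitivity on lines
-/

namespace Cfsg.Agent.RootSub

open Cfsg Relation
open scoped commutatorElement

variable {G : Type*} [Group G] {S : Set (Subgroup G)} {A B C D E F P : Subgroup G}

theorem fadj_reach_symm {A B : Subgroup G} (h : ReflTransGen (FAdj S) A B) :
    ReflTransGen (FAdj S) B A := by
  induction h with
  | refl => exact .refl
  | tail _ hbc ih =>
      exact ReflTransGen.head ⟨hbc.2.1, hbc.1, RankOnePair_symm hbc.2.2⟩ ih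

theorem fadj_reach_conj (hS : IsRootSubgroupSet S) (g : G) {A B : Subgroup G}
    (h : ReflTransGen (FAdj S) A B) : ReflTransGen (FAdj S) (conjBy A g) (conjBy B g) := by
  induction h with
  | refl => exact .refl
  | tail _ hbc ih =>
      exact ih.tail ⟨hS.conj_mem _ hbc.1 g, hS.conj_mem _ hbc.2.1 g,
        RankOne.conj_pair hbc.2.2 g⟩

theorem not_isolated_iff (hA : A ∈ S) :
    ¬ IsIsolatedIn (FAdj S) S A ↔ ∃ P ∈ S, IsRankOnePair A P :=
  ⟨fun h => exists_partner_of_not_isolated h hA,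
    fun ⟨P, hP, hp⟩ h => (h.2 P).1 ⟨hA, hP, hp⟩⟩

/-- A member moves a non-isolated member inside its component. -/
theorem fadj_reach_member (hS : IsRootSubgroupSet S) (hA : A ∈ S) (hP : P ∈ S)
    (hp : IsRankOnePair A P) (hD : D ∈ S) {d : G} (hd : d ∈ D) :
    ReflTransGen (FAdj S) A (conjBy A d) := by
  rcases hS.pair A hA D hD with hb | hr | hc
  · rw [fix_of_bot (bot_comm hb) hd]
  · have hmem : conjBy A d ∈ unipotentSubgroups A D :=
      conjBy_mem_unipotent (Subgroup.mem_sup_right hd) (self_mem_unipotent A D)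
    by_cases he : conjBy A d = A
    · rw [he]
    exact .single ⟨hA, hS.conj_mem A hA d,
      (RankOne.pair_of_ne hr (self_mem_unipotent A D) hmem (Ne.symm he)).1⟩
  · set C := ⁅A, D⁆ with hCdef
    by_cases hall : ∀ a ∈ A, ⁅d, a⁆ = 1
    · have hfix : conjBy A d = A :=
        fix_of_commute fun a ha => commutatorElement_eq_one_iff_mul_comm.mp (hall a ha)
      rw [hfix]
    push Not at hall
    obtain ⟨a, ha, hne⟩ := hall
    have hz : ⁅d, a⁆ ∈ C := by
      rw [hCdef, Subgroup.commutator_comm]; exact Subgroup.commutator_mem_commutator hd ha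
    have ha1 : a ≠ 1 := fun h => hne (by rw [h, commutatorElement_one_right])
    have hf : a * ⁅d, a⁆ ∈ conjBy A d := by
      rw [← commCase_central_left hc hz ha,
        show ⁅d, a⁆ * a = d * a * d⁻¹ by simp [commutatorElement_def]]
      exact conjBy_mem ha d
    have hAC : ⁅A, C⁆ = ⊥ := bot_comm (CommCase.value_bot_left hc)
    rcases hS.pair C hc.1 P hP with hb | hr | hcP
    · exfalso
      refine mul_not_mem_rootElements hS hP hp (z := ⁅d, a⁆)
        (fun x hx => commCase_central_left hc hz hx) (fun x hx => commute_of_bot hb hz hx)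
        hne ha ha1 ?_
      rw [show ⁅d, a⁆ * a = d * a * d⁻¹ by simp [commutatorElement_def]]
      exact ⟨fun h => ha1 (conj_eq_one_iff.mp h), conjBy A d, hS.conj_mem A hA d, conjBy_mem ha d⟩
    · have hfix : conjBy C d = C :=
        fix_of_bot (bot_comm (CommCase.value_bot_right hc)) hd
      have hCP : IsRankOnePair C (conjBy P d) := by
        have := RankOne.conj_pair hr d; rwa [hfix] at this
      have hPd := hS.conj_mem P hP d
      exact (((ReflTransGen.single ⟨hA, hP, hp⟩).tail ⟨hP, hc.1, RankOnePair_symm hr⟩).tail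
        ⟨hc.1, hPd, hCP⟩).tail
        ⟨hPd, hS.conj_mem A hA d, RankOnePair_symm (RankOne.conj_pair hp d)⟩
    · exact (ReflTransGen.single ⟨hA, hP, hp⟩).tail
        ⟨hP, hS.conj_mem A hA d, RankOnePair_symm
          (rankOne_of_sum hS hc.1 hP (hS.conj_mem A hA d) hp hAC hcP ha ha1 hz hf)⟩

theorem fadj_reach_conjugate (hS : IsRootSubgroupSet S) (hA : A ∈ S) (hP : P ∈ S)
    (hp : IsRankOnePair A P) (g : G) : ReflTransGen (FAdj S) A (conjBy A g) := by
  let K : Subgroup G :=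
    { carrier := {g | ReflTransGen (FAdj S) A (conjBy A g)}
      one_mem' := by show ReflTransGen _ _ _; rw [conjBy_one]
      mul_mem' := fun {x y} hx hy => by
        show ReflTransGen _ _ _
        rw [← conjBy_conjBy]
        exact hx.trans (fadj_reach_conj hS x hy)
      inv_mem' := fun {x} hx => by
        show ReflTransGen _ _ _
        have := fadj_reach_symm (fadj_reach_conj hS x⁻¹ hx)
        rwa [conjBy_inv_cancel] at this }
  have hle : (⨆ D ∈ S, D) ≤ K := iSup₂_le fun D hD d hd => fadj_reach_member hS hA hP hp hD hd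
  exact hle (hS.generates ▸ Subgroup.mem_top g)

theorem connected_iff (hS : IsRootSubgroupSet S) (h2 : ∃ A ∈ S, ∃ B ∈ S, A ≠ B) :
    IsConnectedFamily (FAdj S) S ↔
      (IsConjClassOfSubgroups S ∧ ∃ A ∈ S, ¬ IsIsolatedIn (FAdj S) S A) := by
  constructor
  · intro hc
    obtain ⟨A, hA, B, hB, hne⟩ := h2
    refine ⟨⟨⟨A, hA⟩, fun P hP Q hQ => ?_⟩, A, hA, ?_⟩
    · have hr := hc P hP Q hQ
      clear hQ
      induction hr with
      | refl => exact ⟨1, (conjBy_one P).symm⟩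
      | tail _ hEF ih =>
          obtain ⟨g, rfl⟩ := ih
          obtain ⟨x, -, hx⟩ := RankOne.right_eq_conj hEF.2.2
          exact ⟨x * g, by rw [hx, conjBy_conjBy]⟩
    · rw [not_isolated_iff hA]
      rcases ReflTransGen.cases_head (hc A hA B hB) with he | ⟨E, hAE, -⟩
      · exact absurd he hne
      · exact ⟨E, hAE.2.1, hAE.2.2⟩
  · rintro ⟨⟨-, hconj⟩, A, hA, hiso⟩
    obtain ⟨P, hP, hp⟩ := (not_isolated_iff hA).mp hiso
    intro E hE F hF
    obtain ⟨g, rfl⟩ := hconj A hA E hE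
    obtain ⟨k, rfl⟩ := hconj A hA F hF
    exact (fadj_reach_symm (fadj_reach_conjugate hS hA hP hp g)).trans
      (fadj_reach_conjugate hS hA hP hp k)

/-- A class with one rank one pair has a rank one partner for every member. -/
theorem partners_of_class (hS : IsRootSubgroupClass S) {A₀ B₀ : Subgroup G} (hA₀ : A₀ ∈ S)
    (hB₀ : B₀ ∈ S) (h : IsRankOnePair A₀ B₀) : ∀ A ∈ S, ∃ P ∈ S, IsRankOnePair A P := by
  intro A hA
  obtain ⟨g, rfl⟩ := hS.2.2 A₀ hA₀ A hA
  exact ⟨conjBy B₀ g, hS.1.conj_mem B₀ hB₀ g, RankOne.conj_pair h g⟩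

theorem line_not_component (hS : IsRootSubgroupSet S) (hA : A ∈ S) (hB : B ∈ S)
    (hne : componentOf (FAdj S) S A ≠ componentOf (FAdj S) S B) (hP : P ∈ S)
    (hp : IsRankOnePair A P) (hQ : E ∈ S) (hq : IsRankOnePair B E) : B ∉ linePartners S A := by
  intro hl
  apply hne
  obtain ⟨a, ha, ha1⟩ := RankOne.exists_ne_one hp
  obtain ⟨b, hb, hb1⟩ := RankOne.exists_ne_one hq
  have hab1 : a * b ≠ 1 := fun he => ha1 (Subgroup.mem_bot.mp (line_disjoint hA hl ▸
    ⟨ha, (eq_inv_of_mul_eq_one_left he).symm ▸ Subgroup.inv_mem _ hb⟩))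
  obtain ⟨F, hF, hf⟩ := line_root hl (mul_mem (Subgroup.mem_sup_left ha)
    (Subgroup.mem_sup_right hb)) hab1
  have hab : ⁅A, B⁆ = ⊥ := hl.1.2.2
  suffices hreach : ReflTransGen (FAdj S) A B by
    ext X
    exact ⟨fun hX => ⟨hX.1, (fadj_reach_symm hreach).trans hX.2⟩,
      fun hX => ⟨hX.1, hreach.trans hX.2⟩⟩
  rcases hS.pair B hB P hP with h | h | h
  · exact absurd h (line_not_bot hS hA hP hp hl)
  · exact (ReflTransGen.single ⟨hA, hP, hp⟩).tail ⟨hP, hB, RankOnePair_symm h⟩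
  · have hFP := rankOne_of_sum hS hB hP hF.1 hp hab h ha ha1 hb hf
    rcases hS.pair A hA E hQ with h' | h' | h'
    · exfalso
      refine mul_not_mem_rootElements hS hQ hq (z := a)
        (fun x hx => commute_of_bot hab ha hx) (fun x hx => commute_of_bot h' ha hx)
        ha1 hb hb1 ⟨hab1, F, hF.1, hf⟩
    · exact (ReflTransGen.single ⟨hA, hQ, h'⟩).tail ⟨hQ, hB, RankOnePair_symm hq⟩
    · have hFE := rankOne_of_sum hS hA hQ hF.1 hq (bot_comm hab) h' hb hb1 ha
        (commute_of_bot hab ha hb ▸ hf)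
      exact (((ReflTransGen.single ⟨hA, hP, hp⟩).tail ⟨hP, hF.1, RankOnePair_symm hFP⟩).tail
        ⟨hF.1, hQ, hFE⟩).tail ⟨hQ, hB, RankOnePair_symm hq⟩

theorem isomorphism_of_commCase (hS : IsRootSubgroupSet S) (hA : A ∈ S) (hP : P ∈ S)
    (hp : IsRankOnePair A P) (h : RootCommutatorCase S A B) {a : G} (ha : a ∈ A) (ha1 : a ≠ 1) :
    ∃ φ : ↥B ≃* ↥⁅A, B⁆, ∀ b : ↥B, (φ b : G) = a⁻¹ * (b : G)⁻¹ * a * b := by
  have hval : ∀ b : G, a⁻¹ * b⁻¹ * a * b = ⁅a⁻¹, b⁻¹⁆ := fun b => by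
    simp [commutatorElement_def]
  have hmem : ∀ b : B, a⁻¹ * (b : G)⁻¹ * a * b ∈ ⁅A, B⁆ := fun b =>
    (hval b).symm ▸ Subgroup.commutator_mem_commutator (inv_mem ha) (inv_mem b.2)
  let f : ↥B →* ↥⁅A, B⁆ := MonoidHom.mk' (fun b => ⟨_, hmem b⟩) fun x y => by
    apply Subtype.ext
    show a⁻¹ * ((x : G) * y)⁻¹ * a * ((x : G) * y) =
      (a⁻¹ * (x : G)⁻¹ * a * x) * (a⁻¹ * (y : G)⁻¹ * a * y)
    rw [hval, mul_inv_rev, CommCase.mul_right h (inv_mem ha) (inv_mem y.2) (inv_mem x.2),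
      hval, hval]
    exact IsRootSubgroupSet.commute_self hS h.1
      (Subgroup.commutator_mem_commutator (inv_mem ha) (inv_mem y.2))
      (Subgroup.commutator_mem_commutator (inv_mem ha) (inv_mem x.2))
  refine ⟨MulEquiv.ofBijective f ⟨?_, ?_⟩, fun b => rfl⟩
  · rw [injective_iff_map_eq_one]
    intro b hb
    by_contra hne
    refine CommCase.ne_one h hS hA hP hp (inv_mem ha) (inv_ne_one.mpr ha1) (inv_mem b.2)
      (inv_ne_one.mpr fun he => hne (Subtype.ext he)) ?_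
    rw [← hval]
    exact congrArg Subtype.val hb
  · rintro ⟨c, hc⟩
    obtain ⟨b, hb, he⟩ := CommCase.exists_right h (inv_mem ha) (inv_ne_one.mpr ha1) hc
    exact ⟨⟨b⁻¹, inv_mem hb⟩, Subtype.ext (by
      show a⁻¹ * (b⁻¹)⁻¹ * a * b⁻¹ = c
      rw [hval, inv_inv, he])⟩

/-- Non-degenerate classes: every rank one pair is special, and has a suitable line. -/
theorem nondegenerate_partner (hS : IsRootSubgroupClass S) (hnd : IsNondegenerateRootSet S)
    (hA : A ∈ S) (hB : B ∈ rankOnePartners S A) :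
    (∃ C ∈ linePartners S A, C ∈ commutatorPartners S B) ∧ IsSpecialRankOnePair A B := by
  obtain ⟨hB, hp⟩ := hB
  have hpart := partners_of_class hS hA hB hp
  obtain ⟨A₀, hA₀, D₀, hD₀, hc₀⟩ := hnd.2.2
  obtain ⟨g, hg⟩ := hS.2.2 ⁅A₀, D₀⁆ hc₀.1 A hA
  have hc₁ := commCase_conj hS.1 hA₀ hD₀ hc₀ g
  have hval : ⁅conjBy A₀ g, conjBy D₀ g⁆ = A := by rw [hg, conjBy_commutator]
  have hA₁ := hS.1.conj_mem A₀ hA₀ g
  have hD₁ := hS.1.conj_mem D₀ hD₀ g
  set A₁ := conjBy A₀ g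
  set D₁ := conjBy D₀ g
  obtain ⟨P₁, hP₁, hp₁⟩ := hpart A₁ hA₁
  obtain ⟨-, -, hline⟩ := line_of_commCase hS.1 hA₁ hP₁ hp₁ hD₁ hc₁
  rw [hval] at hline
  obtain ⟨F, hF, D, hD, hFA, hBF, hDdef, hAD, hfix, -⟩ :=
    line_structure hS.1 hpart hA hB hp hline
  have hAF : ⁅A, F⁆ = ⊥ := hfix ▸ bot_comm (CommCase.value_bot_left hAD)
  refine ⟨⟨F, ?_, hF, hBF.1⟩, ?_⟩
  · -- F is a line partner of A
    obtain ⟨Q, hQ, hAQ⟩ := hpart A hA
    obtain ⟨-, hpar, -⟩ := line_of_commCase hS.1 hA hQ hAQ hD hAD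
    rw [hfix] at hpar
    exact ⟨⟨hF, hFA, hAF⟩, hpar⟩
  · subst hDdef
    exact special_of_module hS.1 hA hB hp hBF hAF hAD hfix

end Cfsg.Agent.RootSub
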