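import Cfsg.Agent.RootSub.LineTransitive

/-!
# Containments between commuting sets and between sets of rank one partners
-/

namespace Cfsg.Agent.RootSub

open Cfsg
open scoped commutatorElement

variable {G : Type*} [Group G] {S : Set (Subgroup G)} {A B C D E M P U V : Subgroup G}

theorem mem_centralizing : E ∈ centralizingMembers S A ↔ E ∈ S ∧ ⁅E, A⁆ = ⊥ := by
  simp only [centralizingMembers, Set.mem_ofPred_eq, Subgroup.commutator_eq_bot_iff_le_centralizer]

theorem fix_of_bot' (h : ⁅A, B⁆ = ⊥) {b : G} (hb : b ∈ B) : conjBy A b = A :=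
  fix_of_bot (bot_comm h) hb

theorem cent_conj (hS : IsRootSubgroupSet S)
    (hsub : centralizingMembers S A ⊆ centralizingMembers S C) (g : G) (hE : E ∈ S)
    (h : ⁅E, conjBy A g⁆ = ⊥) : ⁅E, conjBy C g⁆ = ⊥ := by
  have h1 : conjBy E g⁻¹ ∈ centralizingMembers S A := by
    rw [mem_centralizing]
    refine ⟨hS.conj_mem E hE _, ?_⟩
    rw [← conjBy_bot_iff g, conjBy_cancel_inv]
    exact h
  have h2 := (mem_centralizing.mp (hsub h1)).2
  rwa [← conjBy_bot_iff g, conjBy_cancel_inv] at h2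

theorem partners_conj (hS : IsRootSubgroupSet S)
    (hsub : rankOnePartners S A ⊆ rankOnePartners S C) (g : G) (hE : E ∈ S)
    (h : IsRankOnePair (conjBy A g) E) : IsRankOnePair (conjBy C g) E := by
  have h1 : conjBy E g⁻¹ ∈ rankOnePartners S A := by
    refine ⟨hS.conj_mem E hE _, ?_⟩
    rw [← rankOne_conj_iff g, conjBy_cancel_inv]
    exact h
  have h2 := (hsub h1).2
  rwa [← rankOne_conj_iff g, conjBy_cancel_inv] at h2

/-- If everything commuting with A commutes with C, partners of C are partners of A. -/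
theorem partner_of_cent (hS : IsRootSubgroupSet S) (hA : A ∈ S) (hC : C ∈ S)
    (hsub : centralizingMembers S A ⊆ centralizingMembers S C) (hP : P ∈ S)
    (hp : IsRankOnePair C P) : IsRankOnePair A P := by
  rcases hS.pair A hA P hP with h | h | h
  · exact absurd ((mem_centralizing.mp (hsub (mem_centralizing.mpr ⟨hP, bot_comm h⟩))).2)
      (RankOne.not_bot (RankOnePair_symm hp))
  · exact h
  · exfalso
    have hW : ⁅⁅A, P⁆, C⁆ = ⊥ := (mem_centralizing.mp (hsub
      (mem_centralizing.mpr ⟨h.1, CommCase.value_bot_left h⟩))).2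
    refine value_not_bot hS hP hC (commCase_symm h) (RankOnePair_symm hp) ?_
    rw [Subgroup.commutator_comm P A]
    exact hW

theorem cent_subset_eq (hS : IsRootSubgroupSet S) (hpart : ∀ A ∈ S, ∃ P ∈ S, IsRankOnePair A P)
    (hA : A ∈ S) (hC : C ∈ S) (hsub : centralizingMembers S A ⊆ centralizingMembers S C)
    (hE : E ∈ S) (hEC : ⁅E, C⁆ = ⊥) : ⁅E, A⁆ = ⊥ := by
  have hAC : ⁅A, C⁆ = ⊥ := (mem_centralizing.mp (hsub
    (mem_centralizing.mpr ⟨hA, bot_self hS hA⟩))).2
  by_contra hEA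
  obtain ⟨P, hP, hp⟩ := hpart C hC
  have hAP := partner_of_cent hS hA hC hsub hP hp
  obtain ⟨a, ha, ha1⟩ := RankOne.exists_ne_one hAP
  obtain ⟨p₁, hp₁, hp₁1, hap⟩ := hAP.cond_left a⁻¹ (inv_mem ha) (inv_ne_one.mpr ha1)
  rw [inv_inv] at hap
  set p := p₁⁻¹ with hpdef
  have hpP : p ∈ P := inv_mem hp₁
  have hp1 : p ≠ 1 := inv_ne_one.mpr hp₁1
  set q := conjBy C p with hqdef
  have hqS : q ∈ S := hS.conj_mem C hC p
  have hqmem : q ∈ unipotentSubgroups C P :=
    conjBy_mem_unipotent (Subgroup.mem_sup_right hpP) (self_mem_unipotent C P)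
  have hqne : q ≠ C := fun he =>
    hp1 (RankOne.eq_one_of_fix (RankOnePair_symm hp) hpP he)
  -- members commuting with P, moved by a, commute with q
  have hmove : ∀ {W : Subgroup G}, W ∈ S → ⁅W, P⁆ = ⊥ → ⁅conjBy W a, q⁆ = ⊥ := by
    intro W hW hWP
    have h0 : conjBy A (a⁻¹ * p) = P := by rw [← conjBy_conjBy, hap, conjBy_inv_cancel]
    have h1 := cent_conj hS hsub (a⁻¹ * p) hW (h0.symm ▸ hWP)
    rw [← conjBy_bot_iff a, conjBy_conjBy, mul_inv_cancel_left] at h1
    exact h1
  have haC : conjBy C a = C := fix_of_bot hAC ha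
  have hcen : ∀ {z : G}, (∀ x ∈ C, z * x = x * z) → (∀ x ∈ q, z * x = x * z) →
      ∀ x ∈ P, z * x = x * z := fun hzC hzq x hx =>
    RankOne.centralize_of_two hp (self_mem_unipotent C P) hqmem hqne.symm hzC hzq x
      (Subgroup.mem_sup_right hx)
  -- E does not commute with P
  have hEP : ⁅E, P⁆ ≠ ⊥ := by
    intro hbot
    apply hEA
    have hEa : ⁅conjBy E a, P⁆ = ⊥ := by
      have h1 : ⁅conjBy E a, C⁆ = ⊥ := by
        conv_lhs => rw [← haC]
        exact (conjBy_bot_iff a).mpr hEC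
      exact (RankOne.bot_of_two hp (self_mem_unipotent C P) hqmem hqne.symm h1 (hmove hE hbot)).2
    have h2 : ⁅E, conjBy P a⁻¹⁆ = ⊥ := by
      rw [← conjBy_bot_iff a, conjBy_cancel_inv]; exact hEa
    refine (RankOne.bot_of_two hAP (RankOne.right_mem hAP)
      (conjBy_mem_unipotent (inv_mem (Subgroup.mem_sup_left ha)) (RankOne.right_mem hAP))
      (fun he => ha1 (inv_eq_one.mp (RankOne.eq_one_of_fix hAP (inv_mem ha) he.symm))) hbot h2).1
  rcases hS.pair E hE P hP with h | hr | hc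
  · exact hEP h
  · -- E, P rank one
    obtain ⟨γ, hγ, hqγ⟩ := RankOne.exists_conj hp hqmem hqne
    have hEq : IsRankOnePair E q := by
      have := RankOne.conj_pair hr γ
      rwa [← hqγ, fix_of_bot' hEC hγ] at this
    have hqC : IsRankOnePair C q :=
      (RankOne.pair_of_ne hp (self_mem_unipotent C P) hqmem hqne.symm).1
    have hAq := partner_of_cent hS hA hC hsub hqS hqC
    obtain ⟨e₁, he₁, he₁1, hep⟩ := hr.cond_right p⁻¹ (inv_mem hpP) (inv_ne_one.mpr hp1)
    rw [inv_inv] at hep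
    set e := e₁⁻¹ with hedef
    have h1 : ⁅conjBy q e⁻¹, P⁆ = ⊥ := by
      rw [← conjBy_bot_iff e, conjBy_cancel_inv, hep, hqdef, Subgroup.commutator_comm]
      exact (conjBy_bot_iff p).mpr hEC
    have h2 : ⁅conjBy (conjBy q e⁻¹) a, q⁆ = ⊥ := hmove (hS.conj_mem q hqS _) h1
    have h3 : ⁅conjBy q e⁻¹, conjBy q a⁻¹⁆ = ⊥ := by
      rw [← conjBy_bot_iff a, conjBy_cancel_inv]; exact h2
    obtain ⟨q₂, hq₂, -, hq₂e⟩ := hAq.cond_left a ha ha1
    obtain ⟨q₁, hq₁, -, hq₁e⟩ := hEq.cond_left e (inv_mem he₁) (inv_ne_one.mpr he₁1)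
    rw [← hq₂e, ← hq₁e] at h3
    have h4 : ⁅E, conjBy A (q₁ * q₂⁻¹)⁆ = ⊥ := by
      have := (conjBy_bot_iff q₁).mpr h3
      rwa [conjBy_cancel_inv, conjBy_conjBy] at this
    by_cases hq3 : q₁ * q₂⁻¹ = 1
    · rw [hq3, conjBy_one] at h4
      exact hEA h4
    · have h5 := cent_conj hS hsub _ hE h4
      refine RankOne.not_bot hEq (RankOne.bot_of_two hqC (self_mem_unipotent C q)
        (conjBy_mem_unipotent (Subgroup.mem_sup_right (mul_mem hq₁ (inv_mem hq₂)))
          (self_mem_unipotent C q)) (fun he => hq3 (RankOne.eq_one_of_fix (RankOnePair_symm hqC)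
          (mul_mem hq₁ (inv_mem hq₂)) he.symm)) hEC h5).2
  · -- E, P in the commutator case
    set W := ⁅E, P⁆ with hWdef
    have hW : W ∈ S := hc.1
    have hWP : ⁅W, P⁆ = ⊥ := CommCase.value_bot_right hc
    have hWE : ⁅W, E⁆ = ⊥ := CommCase.value_bot_left hc
    have hcPE := commCase_symm hc
    have hWPE : W = ⁅P, E⁆ := Subgroup.commutator_comm E P
    have hCW : RootCommutatorCase S C W := by
      rcases hS.pair C hC W hW with h | h | h
      · exfalso
        refine value_not_bot hS hP hC hcPE (RankOnePair_symm hp) ?_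
        rw [← hWPE]; exact bot_comm h
      · exact absurd (RankOnePair_symm h) (not_rankOne_value hS hE hW hC hcPE hEC hWPE)
      · exact h
    set C' := ⁅C, W⁆ with hC'def
    have hC' : C' ∈ S := hCW.1
    have hC'C : ⁅C', C⁆ = ⊥ := CommCase.value_bot_left hCW
    have hC'W : ⁅C', W⁆ = ⊥ := CommCase.value_bot_right hCW
    have hC'P : RootCommutatorCase S C' P := by
      rcases hS.pair C' hC' P hP with h | h | h
      · exact absurd h (value_not_bot hS hC hP hCW hp)
      · exact absurd h (not_rankOne_value hS hW hC' hP hCW hWP hC'def)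
      · exact h
    rcases hS.pair A hA W hW with h | hAW | hAW
    · have := (mem_centralizing.mp (hsub (mem_centralizing.mpr ⟨hW, bot_comm h⟩))).2
      exact hS.ne_bot _ hC' (by rw [hC'def, bot_comm this])
    · -- a line member would commute with P
      obtain ⟨w₁, hw₁, -, hwa⟩ := hAW.cond_left a⁻¹ (inv_mem ha) (inv_ne_one.mpr ha1)
      rw [inv_inv] at hwa
      set F := conjBy C w₁
      have hwp : w₁ * p = p * w₁ := commute_of_bot hWP hw₁ hpP
      have h1 : ⁅conjBy W a, q⁆ = ⊥ := hmove hW hWP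
      rw [← hwa, ← conjBy_bot_iff w₁, conjBy_cancel_inv, hqdef, conjBy_conjBy, hwp,
        ← conjBy_conjBy] at h1
      have h2 : ⁅conjBy F p, C⁆ = ⊥ := (mem_centralizing.mp (hsub (mem_centralizing.mpr
        ⟨hS.conj_mem _ (hS.conj_mem C hC w₁) p, bot_comm h1⟩))).2
      have h3 : ⁅F, conjBy C p⁻¹⁆ = ⊥ := by
        rw [← conjBy_bot_iff p, conjBy_cancel_inv]; exact h2
      have hFC : ⁅F, C⁆ = ⊥ := by
        rw [eq_bot_iff]
        refine (Subgroup.commutator_mono (CommCase.conj_le hCW hw₁) le_rfl).trans (le_of_eq ?_)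
        rw [Subgroup.commutator_eq_bot_iff_le_centralizer, sup_le_iff,
          ← Subgroup.commutator_eq_bot_iff_le_centralizer,
          ← Subgroup.commutator_eq_bot_iff_le_centralizer]
        exact ⟨bot_self hS hC, hC'C⟩
      have h4 : ⁅F, P⁆ = ⊥ := (RankOne.bot_of_two hp (self_mem_unipotent C P)
        (conjBy_mem_unipotent (inv_mem (Subgroup.mem_sup_right hpP)) (self_mem_unipotent C P))
        (fun he => hp1 (inv_eq_one.mp (RankOne.eq_one_of_fix (RankOnePair_symm hp) (inv_mem hpP)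
          he.symm))) hFC h3).2
      obtain ⟨c, hc', hc1⟩ := ne_one_of_mem_ne_bot (hS.ne_bot C hC)
      have hk : ⁅w₁, c⁆ ∈ C' := by
        rw [hC'def, Subgroup.commutator_comm]; exact Subgroup.commutator_mem_commutator hw₁ hc'
      refine RankOne.not_bot (rankOne_of_sum hS hC' hP (hS.conj_mem C hC w₁) hp (bot_comm hC'C)
        hC'P hc' hc1 hk ?_) h4
      rw [← commute_of_bot hC'C hk hc',
        show ⁅w₁, c⁆ * c = w₁ * c * w₁⁻¹ by simp [commutatorElement_def]]
      exact conjBy_mem hc' w₁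
    · -- C' commutes with A
      have hWAC : ⁅⁅W, A⁆, C⁆ = ⊥ := by
        have h1 : ⁅W, A⁆ ∈ centralizingMembers S A := mem_centralizing.mpr
          ⟨Subgroup.commutator_comm A W ▸ hAW.1, CommCase.value_bot_right (commCase_symm hAW)⟩
        exact (mem_centralizing.mp (hsub h1)).2
      have hC'A : ⁅C', A⁆ = ⊥ :=
        Subgroup.commutator_commutator_eq_bot_of_rotate hWAC (by rw [hAC]; simp)
      obtain ⟨γ₁, hγ₁, -, hγe⟩ := hp.cond_right p⁻¹ (inv_mem hpP) (inv_ne_one.mpr hp1)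
      rw [inv_inv] at hγe
      set Y := conjBy (conjBy E p) γ₁
      have hY : Y ∈ S := hS.conj_mem _ (hS.conj_mem E hE p) γ₁
      have hYP : ⁅Y, P⁆ = ⊥ := by
        have := (conjBy_bot_iff γ₁).mpr ((conjBy_bot_iff p).mpr hEC)
        rwa [← hγe, conjBy_cancel_inv] at this
      apply hEA
      refine bot_of_commute fun e he x hx => ?_
      set w := ⁅p, e⁆ with hwdef
      have hwW : w ∈ W := hWPE ▸ Subgroup.commutator_mem_commutator hpP he
      set c' := ⁅γ₁, w⁆ with hc'def
      have hc'C : c' ∈ C' := Subgroup.commutator_mem_commutator hγ₁ hwW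
      set z := c' * e
      set y := γ₁ * (p * e * p⁻¹) * γ₁⁻¹
      have hy : y ∈ Y := conjBy_mem (conjBy_mem he p) γ₁
      have hyz : y = w * z := by
        have h1 : γ₁ * e = e * γ₁ := (commute_of_bot hEC he hγ₁).symm
        have h2 : c' * w = w * c' := commute_of_bot hC'W hc'C hwW
        calc y = γ₁ * w * γ₁⁻¹ * (γ₁ * e * γ₁⁻¹) := by
              simp [y, hwdef, commutatorElement_def, mul_assoc]
          _ = c' * w * e := by
              rw [h1, mul_inv_cancel_right]
              simp [hc'def, commutatorElement_def]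
          _ = w * z := by rw [h2, mul_assoc]
      have hzeq : z = w⁻¹ * y := by rw [hyz, inv_mul_cancel_left]
      have hzP : ∀ t ∈ P, z * t = t * z := fun t ht => by
        rw [hzeq]
        exact ((show Commute w⁻¹ t from commute_of_bot hWP (inv_mem hwW) ht).mul_left
          (commute_of_bot hYP hy ht)).eq
      have hzC : ∀ t ∈ C, z * t = t * z := fun t ht =>
        ((show Commute c' t from commute_of_bot hC'C hc'C ht).mul_left
          (commute_of_bot hEC he ht)).eq
      have hzq : ∀ t ∈ q, (a * z * a⁻¹) * t = t * (a * z * a⁻¹) := fun t ht => by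
        rw [hzeq, show a * (w⁻¹ * y) * a⁻¹ = (a * w⁻¹ * a⁻¹) * (a * y * a⁻¹) by group]
        exact ((show Commute (a * w⁻¹ * a⁻¹) t from
          commute_of_bot (hmove hW hWP) (conjBy_mem (inv_mem hwW) a) ht).mul_left
          (commute_of_bot (hmove hY hYP) (conjBy_mem hy a) ht)).eq
      have hzC' : ∀ t ∈ C, (a * z * a⁻¹) * t = t * (a * z * a⁻¹) := fun t ht => by
        have h1 : a * t = t * a := commute_of_bot hAC ha ht
        exact (((show Commute a t from h1).mul_left (hzC t ht)).mul_left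
          (show Commute a⁻¹ t from (show Commute a t from h1).inv_left)).eq
      have hzaP : ∀ t ∈ conjBy P a⁻¹, z * t = t * z := fun t ht => by
        have ht' : a * t * a⁻¹ ∈ P := by
          have := mem_conjBy.mp ht
          rwa [inv_inv] at this
        have h1 := hcen hzC' hzq _ ht'
        calc z * t = a⁻¹ * ((a * z * a⁻¹) * (a * t * a⁻¹)) * a := by group
          _ = a⁻¹ * ((a * t * a⁻¹) * (a * z * a⁻¹)) * a := by rw [h1]
          _ = t * z := by group
      have hzA := RankOne.centralize_of_two hAP (RankOne.right_mem hAP)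
        (conjBy_mem_unipotent (inv_mem (Subgroup.mem_sup_left ha)) (RankOne.right_mem hAP))
        (fun he' => ha1 (inv_eq_one.mp (RankOne.eq_one_of_fix hAP (inv_mem ha) he'.symm))) hzP hzaP
        x (Subgroup.mem_sup_left hx)
      have h1 : Commute c'⁻¹ x := commute_of_bot hC'A (inv_mem hc'C) hx
      have := (h1.mul_left (show Commute z x from hzA)).eq
      rwa [show c'⁻¹ * z = e from inv_mul_cancel_left c' e] at this

/-- Some partner of A is in the commutator case with a given line partner of A. -/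
theorem exists_partner_comm (hS : IsRootSubgroupSet S)
    (hpart : ∀ A ∈ S, ∃ P ∈ S, IsRankOnePair A P) (hA : A ∈ S) (hU : U ∈ linePartners S A) :
    ∃ B ∈ S, IsRankOnePair A B ∧ RootCommutatorCase S U B := by
  obtain ⟨B₀, hB₀, hp⟩ := hpart A hA
  obtain ⟨F, hF, D, -, hFA, hPF, -, -, -, hAF⟩ := line_structure hS hpart hA hB₀ hp hU
  obtain ⟨x, -, hxA, hxF⟩ := line_two_transitive hS hpart hA hU A ⟨hA, le_sup_left⟩ F
    ⟨hF, hAF ▸ le_sup_right⟩ A ⟨hA, le_sup_left⟩ U ⟨hU.1.1, le_sup_right⟩ hFA.symm hU.1.2.1.symm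
  refine ⟨conjBy B₀ x, hS.conj_mem B₀ hB₀ x, ?_, ?_⟩
  · have := RankOne.conj_pair hp x; rwa [hxA] at this
  · have := commCase_conj hS hB₀ hF hPF x
    rw [hxF] at this
    exact commCase_symm this

/-- Some partner of A is also a partner of a given line partner of A. -/
theorem exists_common_partner (hS : IsRootSubgroupSet S)
    (hpart : ∀ A ∈ S, ∃ P ∈ S, IsRankOnePair A P) (hA : A ∈ S) (hU : U ∈ linePartners S A) :
    ∃ B ∈ S, IsRankOnePair A B ∧ IsRankOnePair U B := by
  obtain ⟨B, hB, hp, hc⟩ := exists_partner_comm hS hpart hA hU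
  obtain ⟨a, ha, ha1⟩ := RankOne.exists_ne_one hp
  obtain ⟨u, hu, hu1⟩ := ne_one_of_mem_ne_bot (hS.ne_bot U hU.1.1)
  have hne : a * u ≠ 1 := fun he => ha1 (Subgroup.mem_bot.mp (line_disjoint hA hU ▸
    ⟨ha, (eq_inv_of_mul_eq_one_left he).symm ▸ Subgroup.inv_mem _ hu⟩))
  obtain ⟨F, hF, hf⟩ := line_root hU (mul_mem (Subgroup.mem_sup_left ha)
    (Subgroup.mem_sup_right hu)) hne
  have hFB := rankOne_of_sum hS hU.1.1 hB hF.1 hp hU.1.2.2 hc ha ha1 hu hf
  have hFA : F ≠ A := fun he => hu1 (Subgroup.mem_bot.mp (line_disjoint hA hU ▸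
    ⟨by
      have := mul_mem (inv_mem ha) (he ▸ hf : a * u ∈ A)
      rwa [inv_mul_cancel_left] at this, hu⟩))
  obtain ⟨x, -, hxA, hxF⟩ := line_two_transitive hS hpart hA hU A ⟨hA, le_sup_left⟩ F hF
    A ⟨hA, le_sup_left⟩ U ⟨hU.1.1, le_sup_right⟩ hFA.symm hU.1.2.1.symm
  refine ⟨conjBy B x, hS.conj_mem B hB x, ?_, ?_⟩
  · have := RankOne.conj_pair hp x; rwa [hxA] at this
  · have := RankOne.conj_pair hFB x; rwa [hxF] at this

/-- The values of the commutator pairing of C with a member. -/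
theorem line_of_value (hS : IsRootSubgroupSet S) (hpart : ∀ A ∈ S, ∃ P ∈ S, IsRankOnePair A P)
    (hC : C ∈ S) (hM : M ∈ S) (h : RootCommutatorCase S C M) :
    ⁅C, M⁆ ∈ linePartners S C := by
  obtain ⟨Q, hQ, hCQ⟩ := hpart C hC
  obtain ⟨-, hpar, -⟩ := line_of_commCase hS hC hQ hCQ hM h
  exact ⟨⟨h.1, (CommCase.left_ne_value h hS).symm, bot_comm (CommCase.value_bot_left h)⟩, hpar⟩

/-- If partners of A are partners of C, the conjugates of C under elements fixing A leave only one
member of a line non-opposite. -/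
theorem value_comm (hS : IsRootSubgroupSet S) (hpart : ∀ A ∈ S, ∃ P ∈ S, IsRankOnePair A P)
    (hC : C ∈ S) (hsub : rankOnePartners S A ⊆ rankOnePartners S C) (hM : M ∈ S)
    (h : RootCommutatorCase S C M) (hfix : ∀ m ∈ M, conjBy A m = A) (hB : B ∈ S)
    (hp : IsRankOnePair A B) : RootCommutatorCase S ⁅C, M⁆ B := by
  have hCB := (hsub ⟨hB, hp⟩).2
  obtain ⟨F, hF, D, -, -, hBF, -, -, -, hCF⟩ :=
    line_structure hS hpart hC hB hCB (line_of_value hS hpart hC hM h)
  obtain ⟨Q, hQ, hCQ⟩ := hpart C hC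
  obtain ⟨heq, -, -⟩ := line_of_commCase hS hC hQ hCQ hM h
  have hmem : F ∈ membersIn S (C ⊔ ⁅C, M⁆) := ⟨hF, hCF ▸ le_sup_right⟩
  rw [heq] at hmem
  rcases hmem with ⟨m, hm, hmF⟩ | hmF
  · exfalso
    have := partners_conj hS hsub m hB (by rw [hfix m hm]; exact hp)
    simp only at hmF
    rw [hmF] at this
    exact not_commCase_of_rankOne (RankOnePair_symm this) hBF
  · rw [← Set.mem_singleton_iff.mp hmF]
    exact commCase_symm hBF

theorem bot_of_partners_subset (hS : IsRootSubgroupSet S)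
    (hpart : ∀ A ∈ S, ∃ P ∈ S, IsRankOnePair A P) (hA : A ∈ S) (hC : C ∈ S)
    (hsub : rankOnePartners S A ⊆ rankOnePartners S C) : ⁅A, C⁆ = ⊥ := by
  rcases hS.pair A hA C hC with h | h | h
  · exact h
  · exact absurd rfl (hsub ⟨hC, h⟩).2.ne
  · exfalso
    obtain ⟨B, hB, hp, hUB⟩ := exists_common_partner hS hpart hA (line_of_value hS hpart hA hC h)
    have hCB := (hsub ⟨hB, hp⟩).2
    obtain ⟨F, hF, D, -, -, hBF, -, -, -, hCF⟩ :=
      line_structure hS hpart hC hB hCB (line_of_value hS hpart hC hA (commCase_symm h))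
    obtain ⟨Q, hQ, hCQ⟩ := hpart C hC
    obtain ⟨heq, -, -⟩ := line_of_commCase hS hC hQ hCQ hA (commCase_symm h)
    have hmem : F ∈ membersIn S (C ⊔ ⁅C, A⁆) := ⟨hF, hCF ▸ le_sup_right⟩
    rw [heq] at hmem
    rcases hmem with ⟨m, hm, hmF⟩ | hmF
    · have := partners_conj hS hsub m hB (by rw [conjBy_mem_self hm]; exact hp)
      simp only at hmF
      rw [hmF] at this
      exact not_commCase_of_rankOne (RankOnePair_symm this) hBF
    · rw [Set.mem_singleton_iff.mp hmF, Subgroup.commutator_comm] at hBF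
      exact not_commCase_of_rankOne (RankOnePair_symm hUB) hBF

theorem partners_subset_eq (hS : IsRootSubgroupSet S)
    (hpart : ∀ A ∈ S, ∃ P ∈ S, IsRankOnePair A P) (hA : A ∈ S) (hC : C ∈ S)
    (hsub : rankOnePartners S A ⊆ rankOnePartners S C) (hE : E ∈ S) (hCE : IsRankOnePair C E) :
    IsRankOnePair A E := by
  have hAC := bot_of_partners_subset hS hpart hA hC hsub
  by_cases hcent : centralizingMembers S A ⊆ centralizingMembers S C
  · exact partner_of_cent hS hA hC hcent hE hCE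
  exfalso
  obtain ⟨M, hM, hMC⟩ := Set.not_subset.mp hcent
  rw [mem_centralizing] at hM hMC
  obtain ⟨hM, hMA⟩ := hM
  rcases hS.pair C hC M hM with h | h | h
  · exact hMC ⟨hM, bot_comm h⟩
  · -- C, M rank one and centralised by A
    obtain ⟨x, hx, hMx⟩ := RankOne.right_eq_conj h
    have hxA : conjBy A x = A := fix_of_commute fun a ha =>
      (sup_le_centralizer (z := a) (fun c hc => commute_of_bot hAC ha hc)
        (fun m hm => commute_of_bot (bot_comm hMA) ha hm) x hx).symm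
    have hsubM : ∀ {Q : Subgroup G}, Q ∈ S → IsRankOnePair A Q → IsRankOnePair M Q := fun hQ hq =>
      hMx ▸ partners_conj hS hsub x hQ (by rw [hxA]; exact hq)
    obtain ⟨P, hP, hAP⟩ := hpart A hA
    have hCP := (hsub ⟨hP, hAP⟩).2
    have hMP := hsubM hP hAP
    obtain ⟨p, hpP, hp1⟩ := RankOne.exists_ne_one (RankOnePair_symm hAP)
    obtain ⟨c₁, hc₁, hc₁1, hcp⟩ := hCP.cond_right p⁻¹ (inv_mem hpP) (inv_ne_one.mpr hp1)
    obtain ⟨m₁, hm₁, hm₁1, hmp⟩ := hMP.cond_right p⁻¹ (inv_mem hpP) (inv_ne_one.mpr hp1)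
    rw [inv_inv] at hcp hmp
    set q := conjBy A p with hqdef
    have hqS : q ∈ S := hS.conj_mem A hA p
    have hAq : IsRankOnePair A q :=
      (RankOne.pair_of_ne hAP (self_mem_unipotent A P)
        (conjBy_mem_unipotent (Subgroup.mem_sup_right hpP) (self_mem_unipotent A P))
        fun he => hp1 (RankOne.eq_one_of_fix (RankOnePair_symm hAP) hpP he.symm)).1
    have hCq := (hsub ⟨hqS, hAq⟩).2
    have hMq := hsubM hqS hAq
    set C₁ := conjBy q c₁
    set M₁ := conjBy q m₁
    have hM₁P : ⁅M₁, P⁆ = ⊥ := by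
      have := (conjBy_bot_iff m₁).mpr ((conjBy_bot_iff p).mpr (bot_comm hMA))
      rwa [← hmp, conjBy_cancel_inv] at this
    have hno : ¬ IsRankOnePair C₁ M₁ := by
      intro hr
      have h0 : conjBy C (c₁ * p) = P := by rw [← conjBy_conjBy, ← hcp, conjBy_cancel_inv]
      have := partners_conj hS hsub (c₁ * p) (hS.conj_mem q hqS m₁)
        (by rw [← conjBy_conjBy]; exact hr)
      rw [h0] at this
      exact RankOne.not_bot this (bot_comm hM₁P)
    obtain ⟨q₂, hq₂, -, hq₂e⟩ := hCq.cond_left c₁⁻¹ (inv_mem hc₁) (inv_ne_one.mpr hc₁1)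
    obtain ⟨q₁, hq₁, -, hq₁e⟩ := hMq.cond_left m₁⁻¹ (inv_mem hm₁) (inv_ne_one.mpr hm₁1)
    rw [inv_inv] at hq₂e hq₁e
    have hno' : ¬ IsRankOnePair (conjBy C (q₁ * q₂⁻¹)) M := by
      intro hr
      apply hno
      have := RankOne.conj_pair hr q₁⁻¹
      rwa [conjBy_conjBy, inv_mul_cancel_left, hq₂e, hq₁e] at this
    by_cases hq3 : q₁ * q₂⁻¹ = 1
    · rw [hq3, conjBy_one] at hno'
      exact hno' h
    · have hmem : conjBy A (q₁ * q₂⁻¹) ∈ unipotentSubgroups A q :=
        conjBy_mem_unipotent (Subgroup.mem_sup_right (mul_mem hq₁ (inv_mem hq₂)))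
          (self_mem_unipotent A q)
      have hne : conjBy A (q₁ * q₂⁻¹) ≠ A := fun he =>
        hq3 (RankOne.eq_one_of_fix (RankOnePair_symm hAq) (mul_mem hq₁ (inv_mem hq₂)) he)
      have h5 := partners_conj hS hsub _ hA
        (RankOne.pair_of_ne hAq hmem (self_mem_unipotent A q) hne).1
      exact hno' (RankOnePair_symm (hsubM (hS.conj_mem C hC _) (RankOnePair_symm h5)))
  · -- a line through C
    set V := ⁅C, M⁆ with hVdef
    have hfixM : ∀ m ∈ M, conjBy A m = A := fun m hm => fix_of_bot hMA hm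
    have hcomm := fun {B : Subgroup G} (hB : B ∈ S) (hp : IsRankOnePair A B) =>
      value_comm hS hpart hC hsub hM h hfixM hB hp
    have hline := line_of_value hS hpart hC hM h
    -- a member fixing C and moving V
    obtain ⟨P, hP, hCP⟩ := hpart C hC
    obtain ⟨F, hF, D₀, hD₀, hFC, -, -, hCD, hval, hCF⟩ := line_structure hS hpart hC hP hCP hline
    have cF := lineCentre_of_commCase hS hC hP hCP hD₀ hCD
    rw [hval, hCF] at cF
    obtain ⟨k, hk, hkF, -⟩ := line_two_transitive hS hpart hC hline F cF.mem C ⟨hC, le_sup_left⟩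
      C ⟨hC, le_sup_left⟩ V ⟨h.1, le_sup_right⟩ hFC hline.1.2.1.symm
    obtain ⟨m, hm, hm1⟩ := ne_one_of_mem_ne_bot (hS.ne_bot M hM)
    set T := conjBy C m
    have hT : T ∈ membersIn S (C ⊔ V) := ⟨hS.conj_mem C hC m, CommCase.conj_le h hm⟩
    have hTC : T ≠ C := fun he => by
      have h1 := CommCase.sup_conj h hS hm hm1
      rw [show conjBy C m = C from he, sup_idem] at h1
      obtain ⟨v, hv, hv1⟩ := ne_one_of_mem_ne_bot (hS.ne_bot V h.1)
      exact hv1 (Subgroup.mem_bot.mp (line_disjoint hC hline ▸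
        ⟨h1 ▸ Subgroup.mem_sup_right hv, hv⟩))
    have hTV : T ≠ V := fun he => hline.1.2.1 (by
      have h1 := congrArg (fun X : Subgroup G => conjBy X m⁻¹) he
      simp only [T, conjBy_inv_cancel] at h1
      rw [fix_of_bot (bot_comm (CommCase.value_bot_right h)) (inv_mem hm)] at h1
      exact h1.symm)
    have hKn : ∀ x ∈ (⨆ X ∈ normalizingMembers S (C ⊔ V), X),
        x ∈ Subgroup.normalizer ((C ⊔ V : Subgroup G) : Set G) :=
      fun x hx => (iSup₂_le fun X hX => hX.2 : (⨆ X ∈ normalizingMembers S (C ⊔ V), X) ≤ _) hx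
    have hperm : ∀ X ∈ membersIn S (C ⊔ V), conjBy X k⁻¹ ∈ membersIn S (C ⊔ V) := fun X hX =>
      ⟨hS.conj_mem X hX.1 _, (conjBy_mono hX.2 _).trans
        (conjBy_eq_self_iff.mpr (inv_mem (hKn k hk))).le⟩
    have hneF : ∀ X : Subgroup G, X ≠ C → conjBy X k⁻¹ ≠ F := fun X hX he => hX (by
      rw [← hkF, ← he, conjBy_cancel_inv])
    obtain ⟨d₀, hd₀, hd₀e⟩ := cF.trans _ (hperm V ⟨h.1, le_sup_right⟩) _ (hperm T hT)
      (hneF V hline.1.2.1) (hneF T hTC)
    set D := conjBy D₀ k
    set d := k * d₀ * k⁻¹ with hddef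
    have hdD : d ∈ D := conjBy_mem hd₀ k
    have hDS : D ∈ S := hS.conj_mem D₀ hD₀ k
    have hdC : conjBy C d = C := by
      rw [hddef, ← conjBy_conjBy, ← conjBy_conjBy]
      conv_lhs => arg 1; arg 1; rw [← hkF, conjBy_inv_cancel]
      rw [cF.fix d₀ hd₀, hkF]
    have hdV : conjBy V d = T := by
      rw [hddef, ← conjBy_conjBy, ← conjBy_conjBy, hd₀e, conjBy_cancel_inv]
    -- a partner of A and of its conjugate under d
    have hfinal : ∀ B ∈ S, IsRankOnePair A B → IsRankOnePair (conjBy A d) B → False := by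
      intro B hB hp hp'
      have hp'' : IsRankOnePair A (conjBy B d⁻¹) := by
        have := RankOne.conj_pair hp' d⁻¹
        rwa [conjBy_inv_cancel] at this
      have h1 := commCase_conj hS h.1 (hS.conj_mem B hB d⁻¹)
        (hcomm (hS.conj_mem B hB d⁻¹) hp'') d
      rw [hdV, conjBy_cancel_inv] at h1
      have h2 := partners_conj hS hsub m hB (by rw [hfixM m hm]; exact hp)
      exact not_commCase_of_rankOne h2 h1
    obtain ⟨B₀, hB₀, hp₀⟩ := hpart A hA
    rcases hS.pair A hA D hDS with hb | hr | hc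
    · exact hfinal B₀ hB₀ hp₀ (by rw [fix_of_bot' hb hdD]; exact hp₀)
    · have hd1 : d ≠ 1 := fun he => hTV (by rw [← hdV, he, conjBy_one])
      exact hd1 (RankOne.eq_one_of_fix (RankOnePair_symm (hsub ⟨hDS, hr⟩).2) hdD hdC)
    · by_cases hdA : conjBy A d = A
      · exact hfinal B₀ hB₀ hp₀ (by rw [hdA]; exact hp₀)
      obtain ⟨B, hB, hp, hUB⟩ :=
        exists_partner_comm hS hpart hA (line_of_value hS hpart hA hDS hc)
      obtain ⟨a, ha, ha1⟩ := RankOne.exists_ne_one hp
      have hk' : ⁅d, a⁆ ∈ ⁅A, D⁆ := by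
        rw [Subgroup.commutator_comm]; exact Subgroup.commutator_mem_commutator hdD ha
      refine hfinal B hB hp (rankOne_of_sum hS hc.1 hB (hS.conj_mem A hA d) hp
        (bot_comm (CommCase.value_bot_left hc)) hUB ha ha1 hk' ?_)
      rw [← commCase_central_left hc hk' ha,
        show ⁅d, a⁆ * a = d * a * d⁻¹ by simp [commutatorElement_def]]
      exact conjBy_mem ha d

end Cfsg.Agent.RootSub
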