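import Cfsg.Prelude.Def_RootSubgroups

/-!
# A criterion for quasisimple subgroups
-/

namespace Cfsg.Agent.RootSub

open Cfsg
open scoped commutatorElement

variable {G : Type*} [Group G] {H : Subgroup G}

/-- A perfect non-abelian subgroup with only central proper normal subgroups is quasisimple. -/
theorem isQuasisimple_of_cases (hperf : ⁅H, H⁆ = H) {x y : G} (hx : x ∈ H) (hy : y ∈ H)
    (hxy : x * y ≠ y * x)
    (hN : ∀ N : Subgroup G, N ≤ H → (∀ h ∈ H, ∀ n ∈ N, h * n * h⁻¹ ∈ N) →
      N = H ∨ N ≤ Subgroup.centralizer (H : Set G)) : IsQuasisimple ↥H := by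
  have hperf' : Group.IsPerfect H := ⟨by
    apply Subgroup.map_injective H.subtype_injective
    rw [Subgroup.map_subtype_commutator, ← MonoidHom.range_eq_map, Subgroup.range_subtype]
    exact hperf⟩
  refine ⟨hperf', ?_⟩
  have hcne : Subgroup.center H ≠ ⊤ := fun htop =>
    hxy (congrArg Subtype.val
      (Subgroup.mem_center_iff.mp (htop ▸ Subgroup.mem_top (⟨x, hx⟩ : H)) ⟨y, hy⟩)).symm
  have : Nontrivial (H ⧸ Subgroup.center H) := QuotientGroup.nontrivial_iff.mpr hcne
  refine ⟨fun K hK => ?_⟩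
  set K' := K.comap (QuotientGroup.mk' (Subgroup.center H))
  have hK'n : K'.Normal := hK.comap _
  rcases hN (K'.map H.subtype) (by rintro _ ⟨z, -, rfl⟩; exact z.2) (by
      rintro h hh _ ⟨z, hz, rfl⟩
      exact ⟨⟨h, hh⟩ * z * ⟨h, hh⟩⁻¹, hK'n.conj_mem z hz _, rfl⟩) with h | h
  · right
    have ht : K' = ⊤ := by
      apply Subgroup.map_injective H.subtype_injective
      rw [h, ← MonoidHom.range_eq_map, Subgroup.range_subtype]
    rw [eq_top_iff]
    intro z _
    obtain ⟨w, rfl⟩ := QuotientGroup.mk'_surjective _ z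
    exact (ht ▸ Subgroup.mem_top w : w ∈ K')
  · left
    rw [eq_bot_iff]
    intro z hz
    obtain ⟨w, rfl⟩ := QuotientGroup.mk'_surjective _ z
    rw [Subgroup.mem_bot, QuotientGroup.mk'_apply, QuotientGroup.eq_one_iff,
      Subgroup.mem_center_iff]
    intro v
    exact Subtype.ext (Subgroup.mem_centralizer_iff.mp (h ⟨w, (hz : w ∈ K'), rfl⟩) v v.2)

/-- If a normal subgroup and an abelian subgroup generate, it contains the derived group. -/
theorem commutator_le_of_sup_eq_top {A M : Subgroup G} [hM : M.Normal]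
    (hA : ∀ x ∈ A, ∀ y ∈ A, x * y = y * x) (h : M ⊔ A = ⊤) : commutator G ≤ M := by
  rw [commutator_def, Subgroup.commutator_le]
  intro x _ y _
  obtain ⟨m, hm, a, ha, rfl⟩ := Subgroup.mem_sup_of_normal_left.mp (h ▸ Subgroup.mem_top x)
  obtain ⟨m', hm', a', ha', rfl⟩ := Subgroup.mem_sup_of_normal_left.mp (h ▸ Subgroup.mem_top y)
  rw [← QuotientGroup.eq_one_iff]
  have e1 : (m : G ⧸ M) = 1 := (QuotientGroup.eq_one_iff m).mpr hm
  have e2 : (m' : G ⧸ M) = 1 := (QuotientGroup.eq_one_iff m').mpr hm'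
  show QuotientGroup.mk' M _ = 1
  rw [map_commutatorElement, map_mul, map_mul, QuotientGroup.mk'_apply, QuotientGroup.mk'_apply,
    QuotientGroup.mk'_apply, QuotientGroup.mk'_apply, e1, e2, one_mul, one_mul,
    commutatorElement_eq_one_iff_mul_comm, ← QuotientGroup.mk_mul, ← QuotientGroup.mk_mul,
    hA a ha a' ha']

end Cfsg.Agent.RootSub
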