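import Cfsg.Agent.RootSub.Sets

/-!
# Sets of root subgroups seen inside a larger group
-/

namespace Cfsg.Agent.RootSub

open Cfsg

variable {G : Type*} [Group G] {K : Subgroup G}

theorem subgroupOf_injOn {A B : Subgroup G} (hA : A ≤ K) (hB : B ≤ K)
    (h : A.subgroupOf K = B.subgroupOf K) : A = B := by
  rw [← Subgroup.map_subgroupOf_eq_of_le hA, ← Subgroup.map_subgroupOf_eq_of_le hB, h]

theorem conjBy_subgroupOf (A : Subgroup G) (g : K) :
    conjBy (A.subgroupOf K) g = (conjBy A (g : G)).subgroupOf K := by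
  ext x
  rw [mem_conjBy, Subgroup.mem_subgroupOf, Subgroup.mem_subgroupOf, mem_conjBy]
  rfl

theorem commutator_subgroupOf {A B : Subgroup G} (hA : A ≤ K) (hB : B ≤ K) :
    ⁅A.subgroupOf K, B.subgroupOf K⁆ = ⁅A, B⁆.subgroupOf K := by
  apply Subgroup.map_injective K.subtype_injective
  rw [Subgroup.map_commutator, Subgroup.map_subgroupOf_eq_of_le hA,
    Subgroup.map_subgroupOf_eq_of_le hB, Subgroup.map_subgroupOf_eq_of_le]
  exact (Subgroup.commutator_mono hA hB).trans (Subgroup.commutator_le.mpr fun a ha b hb =>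
    mul_mem (mul_mem (mul_mem ha hb) (inv_mem ha)) (inv_mem hb))

theorem closure_image_subgroupOf {B : Subgroup G} (hB : B ≤ K) (f : G → G) (f' : K → K)
    (hf : ∀ x : K, (f' x : G) = f x) (hle : ∀ b ∈ B, f b ∈ K) :
    Subgroup.closure (f' '' (B.subgroupOf K : Set K)) =
      (Subgroup.closure (f '' (B : Set G))).subgroupOf K := by
  apply Subgroup.map_injective K.subtype_injective
  rw [MonoidHom.map_closure, Subgroup.map_subgroupOf_eq_of_le]
  · congr 1
    ext y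
    constructor
    · rintro ⟨_, ⟨x, hx, rfl⟩, rfl⟩
      exact ⟨x, hx, (hf x).symm⟩
    · rintro ⟨b, hb, rfl⟩
      exact ⟨_, ⟨⟨b, hB hb⟩, hb, rfl⟩, hf _⟩
  · refine (Subgroup.closure_le _).mpr ?_
    rintro _ ⟨b, hb, rfl⟩
    exact hle b hb

theorem rankOnePair_subgroupOf {A B : Subgroup G} (hA : A ≤ K) (hB : B ≤ K)
    (h : IsRankOnePair A B) : IsRankOnePair (A.subgroupOf K) (B.subgroupOf K) := by
  haveI := h.nilpotent_left
  haveI := h.nilpotent_right
  have cond : ∀ {P Q : Subgroup G}, P ≤ K → Q ≤ K → RankOneCondition P Q →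
      RankOneCondition (P.subgroupOf K) (Q.subgroupOf K) := by
    intro P Q hP hQ hc a ha ha1
    obtain ⟨b, hb, hb1, he⟩ := hc a ha (fun h' => ha1 (Subtype.ext h'))
    refine ⟨⟨b, hQ hb⟩, hb, fun h' => hb1 (congrArg Subtype.val h'), ?_⟩
    rw [conjBy_subgroupOf, conjBy_subgroupOf, Subgroup.coe_inv, Subgroup.coe_inv, he]
  exact ⟨fun e => h.ne (subgroupOf_injOn hA hB e),
    Group.nilpotent_of_mulEquiv (Subgroup.subgroupOfEquivOfLe hA).symm,
    Group.nilpotent_of_mulEquiv (Subgroup.subgroupOfEquivOfLe hB).symm,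
    cond hA hB h.cond_left, cond hB hA h.cond_right⟩

theorem commCase_subgroupOf {S : Set (Subgroup G)} {A B : Subgroup G} (hA : A ≤ K) (hB : B ≤ K)
    {S' : Set (Subgroup K)} (hS : ∀ C ∈ S, C ≤ K → C.subgroupOf K ∈ S')
    (h : RootCommutatorCase S A B) : RootCommutatorCase S' (A.subgroupOf K) (B.subgroupOf K) := by
  obtain ⟨h1, h2, h3, h4⟩ := h
  have hle : ⁅A, B⁆ ≤ K := Subgroup.commutator_le.mpr fun a ha b hb =>
    mul_mem (mul_mem (mul_mem (hA ha) (hB hb)) (inv_mem (hA ha))) (inv_mem (hB hb))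
  rw [RootCommutatorCase, commutator_subgroupOf hA hB]
  refine ⟨hS _ h1 hle, fun c hc x hx => ?_, fun a ha ha1 => ?_, fun b hb hb1 => ?_⟩
  · rw [← Subgroup.subgroupOf_sup hA hB] at hx
    exact Subtype.ext (h2 c hc x hx)
  · rw [← h3 a ha (fun h' => ha1 (Subtype.ext h'))]
    exact closure_image_subgroupOf hB _ _ (fun x => rfl)
      fun b hb => mul_mem (mul_mem (mul_mem a.2 (hB hb)) (inv_mem a.2)) (inv_mem (hB hb))
  · rw [← h4 b hb (fun h' => hb1 (Subtype.ext h'))]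
    exact closure_image_subgroupOf hA _ _ (fun x => rfl)
      fun a ha => mul_mem (mul_mem (mul_mem (hA ha) b.2) (inv_mem (hA ha))) (inv_mem b.2)

/-- A family of subgroups satisfying the root subgroup axioms in G gives a set of root subgroups of
the group it generates. -/
theorem isRootSubgroupSet_subgroupOf (T : Set (Subgroup G))
    (hcomm : ∀ A ∈ T, IsMulCommutative A) (hne : ∀ A ∈ T, A ≠ ⊥)
    (hconj : ∀ A ∈ T, ∀ g ∈ (⨆ B ∈ T, B), conjBy A g ∈ T)
    (hpair : ∀ A ∈ T, ∀ B ∈ T, ⁅A, B⁆ = ⊥ ∨ IsRankOnePair A B ∨ RootCommutatorCase T A B) :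
    IsRootSubgroupSet ((fun A : Subgroup G => A.subgroupOf (⨆ B ∈ T, B)) '' T) := by
  have hle : ∀ A ∈ T, A ≤ ⨆ B ∈ T, B := fun A hA => le_iSup₂ (f := fun (B : Subgroup G) (_ : B ∈ T) => B) A hA
  refine ⟨?_, ?_, ?_, ?_, ?_⟩
  · rintro _ ⟨A, hA, rfl⟩
    haveI := hcomm A hA
    refine ⟨⟨fun x y => ?_⟩⟩
    have h : (⟨((x : ↥(⨆ B ∈ T, B)) : G), x.2⟩ : A) * ⟨((y : ↥(⨆ B ∈ T, B)) : G), y.2⟩ =
        ⟨((y : ↥(⨆ B ∈ T, B)) : G), y.2⟩ * ⟨((x : ↥(⨆ B ∈ T, B)) : G), x.2⟩ :=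
      (hcomm A hA).is_comm.comm _ _
    apply Subtype.ext
    apply Subtype.ext
    simpa using congrArg Subtype.val h
  · rintro _ ⟨A, hA, rfl⟩ h
    apply hne A hA
    simp only at h
    rw [← Subgroup.map_subgroupOf_eq_of_le (hle A hA), h, Subgroup.map_bot]
  · apply Subgroup.map_injective (Subgroup.subtype_injective _)
    rw [iSup_image, Subgroup.map_iSup, ← MonoidHom.range_eq_map, Subgroup.range_subtype]
    refine iSup_congr fun A => ?_
    rw [Subgroup.map_iSup]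
    exact iSup_congr fun hA => Subgroup.map_subgroupOf_eq_of_le (hle A hA)
  · rintro _ ⟨A, hA, rfl⟩ g
    exact ⟨conjBy A (g : G), hconj A hA g g.2, (conjBy_subgroupOf A g).symm⟩
  · rintro _ ⟨A, hA, rfl⟩ _ ⟨B, hB, rfl⟩
    rcases hpair A hA B hB with h | h | h
    · left
      rw [commutator_subgroupOf (hle A hA) (hle B hB), h, Subgroup.bot_subgroupOf]
    · exact Or.inr (Or.inl (rankOnePair_subgroupOf (hle A hA) (hle B hB) h))
    · exact Or.inr (Or.inr (commCase_subgroupOf (hle A hA) (hle B hB)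
        (fun C hC _ => ⟨C, hC, rfl⟩) h))

end Cfsg.Agent.RootSub
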