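import Cfsg.Agent.RootSub.QuasiCriterion
import Cfsg.Agent.RootSub.Transfer
import Cfsg.Agent.RootSub.Special.Quasisimple

/-!
# The quasisimplicity criterion for groups generated by abstract root subgroups

A connected set of root subgroups with special rank one pairs and separating centralisers: the
derived group is quasisimple. A normal subgroup either meets a member (and then contains the
derived group) or moves no member; the collapse of a rank one pair modulo a normal subgroup is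
excluded either by the size of the members or by a commutator partner.
-/

namespace Cfsg.Agent.RootSub.Criterion

open Cfsg Cfsg.Agent.RootSub Cfsg.Agent.RootSub.Special
open scoped commutatorElement

variable {G : Type*} [Group G] {S : Set (Subgroup G)}

/-- The hypotheses of the criterion. -/
structure Hyp (S : Set (Subgroup G)) : Prop where
  root : IsRootSubgroupSet S
  two : ∃ A ∈ S, ∃ B ∈ S, A ≠ B
  conn : IsConnectedFamily (FAdj S) S
  sep : ∀ A ∈ S, ∀ C ∈ S, A ≠ C → centralizingMembers S A ≠ centralizingMembers S C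
  big : IsDegenerateRootSet S → ∀ A ∈ S, 3 < ENat.card A
  special : ∀ A ∈ S, ∀ B ∈ rankOnePartners S A, IsSpecialRankOnePair A B

namespace Hyp

variable (h : Hyp S)
include h

theorem exists_partner {A : Subgroup G} (hA : A ∈ S) : ∃ B ∈ S, IsRankOnePair A B := by
  obtain ⟨P, hP, Q, hQ, hne⟩ := h.two
  have : ∃ C ∈ S, A ≠ C := by
    by_cases hAP : A = P
    · exact ⟨Q, hQ, hAP ▸ hne⟩
    · exact ⟨P, hP, hAP⟩
  obtain ⟨C, hC, hAC⟩ := this
  rcases Relation.ReflTransGen.cases_head (h.conn A hA C hC) with he | ⟨E, hAE, -⟩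
  · exact absurd he hAC
  · exact ⟨E, hAE.2.1, hAE.2.2⟩

theorem exists_conj {A B : Subgroup G} (hA : A ∈ S) (hB : B ∈ S) : ∃ g, B = conjBy A g := by
  have hr := h.conn A hA B hB
  clear hB
  induction hr with
  | refl => exact ⟨1, (conjBy_one A).symm⟩
  | tail _ hEF ih =>
      obtain ⟨g, rfl⟩ := ih
      obtain ⟨x, -, hx⟩ := RankOne.right_eq_conj hEF.2.2
      exact ⟨x * g, by rw [hx, conjBy_conjBy]⟩

theorem abelian {A : Subgroup G} (hA : A ∈ S) : ∀ x ∈ A, ∀ y ∈ A, x * y = y * x := fun x hx y hy =>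
  congrArg Subtype.val ((h.root.commutative A hA).is_comm.comm ⟨x, hx⟩ ⟨y, hy⟩)

theorem spair {A B : Subgroup G} (hA : A ∈ S) (hB : B ∈ S) (hp : IsRankOnePair A B) :
    SPair A B :=
  SPair.of_special (h.special A hA B ⟨hB, hp⟩) ⟨h.root.commutative A hA, h.root.commutative B hB⟩

theorem top_le {K : Subgroup G} (hK : ∀ A ∈ S, A ≤ K) : K = ⊤ :=
  top_le_iff.mp (h.root.generates ▸ iSup₂_le hK)

/-- A normal subgroup together with all members above one member. -/
theorem le_normal_of_le {M : Subgroup G} [hM : M.Normal] {A : Subgroup G} (hA : A ∈ S)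
    (hle : A ≤ M) : M = ⊤ := h.top_le fun B hB => by
  obtain ⟨g, rfl⟩ := h.exists_conj hA hB
  intro x hx
  have := hM.conj_mem _ (hle (mem_conjBy.mp hx)) g
  simpa [mul_assoc] using this

theorem sup_eq_top {A : Subgroup G} (hA : A ∈ S) : commutator G ⊔ A = ⊤ :=
  h.top_le fun B hB => by
    obtain ⟨g, rfl⟩ := h.exists_conj hA hB
    intro x hx
    have hy := mem_conjBy.mp hx
    rw [show x = ⁅g, g⁻¹ * x * g⁆ * (g⁻¹ * x * g) by simp [commutatorElement_def]; group]
    exact mul_mem (Subgroup.mem_sup_left (Subgroup.commutator_mem_commutator (Subgroup.mem_top _)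
      (Subgroup.mem_top _))) (Subgroup.mem_sup_right hy)

/-- A commutator case makes the group perfect. -/
theorem perfect_of_comm {A B : Subgroup G} (hc : RootCommutatorCase S A B) :
    commutator G = ⊤ :=
  h.le_normal_of_le hc.1 (Subgroup.commutator_mono le_top le_top)

theorem exists_mem_derived {A B : Subgroup G} (hA : A ∈ S) (hB : B ∈ S)
    (hp : IsRankOnePair A B) (hbig : 3 < ENat.card A) :
    ∃ e ∈ A, e ≠ 1 ∧ e ∈ ⁅A ⊔ B, A ⊔ B⁆ := by
  obtain ⟨e, he, he1, -, -⟩ := exists_outside ((h.spair hA hB hp).three_lt_card hbig) 1 1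
  refine ⟨e, (h.spair hA hB hp).comm_diag_le he, he1, ?_⟩
  exact Subgroup.commutator_mono le_sup_left (inf_le_left.trans inf_le_left) he

theorem meet_derived {A : Subgroup G} (hA : A ∈ S) : A ⊓ commutator G ≠ ⊥ := by
  by_cases hdeg : IsDegenerateRootSet S
  · obtain ⟨B, hB, hp⟩ := h.exists_partner hA
    obtain ⟨e, he, he1, hed⟩ := h.exists_mem_derived hA hB hp (h.big hdeg A hA)
    intro hbot
    have : e ∈ A ⊓ commutator G := ⟨he, (Subgroup.commutator_mono le_top le_top :
      ⁅A ⊔ B, A ⊔ B⁆ ≤ commutator G) hed⟩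
    rw [hbot, Subgroup.mem_bot] at this
    exact he1 this
  · simp only [IsDegenerateRootSet, not_forall, not_not] at hdeg
    obtain ⟨P, -, Q, -, hc⟩ := hdeg
    rw [h.perfect_of_comm hc, inf_top_eq]
    exact h.root.ne_bot A hA

/-- A normal subgroup meeting a member contains the derived group. -/
theorem derived_le_of_meet {M : Subgroup G} [hM : M.Normal] {A : Subgroup G} (hA : A ∈ S)
    {e : G} (he : e ∈ A) (he1 : e ≠ 1) (heM : e ∈ M) : commutator G ≤ M := by
  have hall : ∀ B ∈ S, B ≤ M ⊔ A := by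
    intro B hB
    have hr := h.conn A hA B hB
    clear hB
    induction hr with
    | refl => exact le_sup_right
    | @tail E F _ hEF ih =>
        obtain ⟨hE, hF, hp⟩ := hEF
        obtain ⟨g, hg⟩ := h.exists_conj hA hE
        have hf : g * e * g⁻¹ ∈ E := hg ▸ conjBy_mem he g
        have hfM : g * e * g⁻¹ ∈ M := hM.conj_mem e heM g
        have hf1 : g * e * g⁻¹ ≠ 1 := fun h' => he1 (conj_eq_one_iff.mp h')
        set X := E ⊔ F
        have hsup : E.subgroupOf X ⊔ F.subgroupOf X = ⊤ := by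
          rw [← Subgroup.subgroupOf_sup le_sup_left le_sup_right, Subgroup.subgroupOf_self]
        have hp' := rankOnePair_subgroupOf (K := X) le_sup_left le_sup_right hp
        rcases RankOne.normal_cases hsup hp' (M.subgroupOf X) with hc | hc
        · intro x hx
          have hxX : x ∈ X := Subgroup.mem_sup_right hx
          have hm : (⟨x, hxX⟩ : X) ∈ M.subgroupOf X ⊔ E.subgroupOf X := hc ▸ Subgroup.mem_top _
          obtain ⟨m, hm', a, ha, he'⟩ := Subgroup.mem_sup_of_normal_left.mp hm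
          rw [show x = (m : G) * a from (congrArg Subtype.val he').symm]
          exact mul_mem (Subgroup.mem_sup_left hm') (ih ha)
        · exfalso
          obtain ⟨b, hb, hb1⟩ := RankOne.exists_ne_one (RankOnePair_symm hp)
          apply RankOne.not_commute hp hf hf1 hb hb1
          have := Subgroup.mem_center_iff.mp
            (hc (show (⟨_, Subgroup.mem_sup_left hf⟩ : X) ∈ M.subgroupOf X from hfM))
            ⟨b, Subgroup.mem_sup_right hb⟩
          exact (congrArg Subtype.val this).symm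
  exact commutator_le_of_sup_eq_top (h.abelian hA) (h.top_le hall)

omit h in
/-- A normal subgroup containing a commutator of a rank one pair joins each member to the other. -/
theorem le_sup_of_collapse {M : Subgroup G} [hM : M.Normal] {P Q : Subgroup G}
    (hp : IsRankOnePair P Q) {x y : G} (hx : x ∈ P) (hx1 : x ≠ 1) (hy : y ∈ Q) (hy1 : y ≠ 1)
    (hxy : ⁅x, y⁆ ∈ M) : Q ≤ M ⊔ P := by
  set X := P ⊔ Q
  have hsup : P.subgroupOf X ⊔ Q.subgroupOf X = ⊤ := by
    rw [← Subgroup.subgroupOf_sup le_sup_left le_sup_right, Subgroup.subgroupOf_self]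
  have hp' := rankOnePair_subgroupOf (K := X) le_sup_left le_sup_right hp
  rcases RankOne.normal_cases hsup hp' (M.subgroupOf X) with hc | hc
  · intro z hz
    have hzX : z ∈ X := Subgroup.mem_sup_right hz
    have hm : (⟨z, hzX⟩ : X) ∈ M.subgroupOf X ⊔ P.subgroupOf X := hc ▸ Subgroup.mem_top _
    obtain ⟨m, hm', a, ha, he'⟩ := Subgroup.mem_sup_of_normal_left.mp hm
    rw [show z = (m : G) * a from (congrArg Subtype.val he').symm]
    exact mul_mem (Subgroup.mem_sup_left hm') (Subgroup.mem_sup_right ha)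
  · exfalso
    apply RankOne.commutator_not_fix hp hx hx1 hy hy1
    refine fix_of_commute fun z hz => ?_
    have hk : x * y * x⁻¹ * y⁻¹ ∈ X := mul_mem (mul_mem (mul_mem (Subgroup.mem_sup_left hx)
      (Subgroup.mem_sup_right hy)) (inv_mem (Subgroup.mem_sup_left hx)))
      (inv_mem (Subgroup.mem_sup_right hy))
    have := Subgroup.mem_center_iff.mp
      (hc (show (⟨_, hk⟩ : X) ∈ M.subgroupOf X from hxy)) ⟨z, Subgroup.mem_sup_left hz⟩
    exact (congrArg Subtype.val this).symm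

omit h in
theorem mk_comm {M : Subgroup G} [M.Normal] {x y : G} :
    ⁅x, y⁆ ∈ M ↔ (x : G ⧸ M) * (y : G ⧸ M) = (y : G ⧸ M) * (x : G ⧸ M) := by
  rw [← QuotientGroup.eq_one_iff, show ((⁅x, y⁆ : G) : G ⧸ M) = QuotientGroup.mk' M ⁅x, y⁆ from rfl,
    map_commutatorElement, commutatorElement_eq_one_iff_mul_comm]
  rfl

omit h in
theorem exists_mk {M : Subgroup G} [M.Normal] {P : Subgroup G} {z : G} (hz : z ∈ M ⊔ P) :
    ∃ a ∈ P, (z : G ⧸ M) = (a : G ⧸ M) := by
  obtain ⟨m, hm, a, ha, rfl⟩ := Subgroup.mem_sup_of_normal_left.mp hz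
  exact ⟨a, ha, by rw [QuotientGroup.mk_mul, (QuotientGroup.eq_one_iff m).mpr hm, one_mul]⟩

omit h in
theorem le_of_generators {M : Subgroup G} {C : Subgroup G} {a : G} {E : Subgroup G}
    (hC : Subgroup.closure ((fun e : G => a * e * a⁻¹ * e⁻¹) '' (E : Set G)) = C)
    (hM : ∀ e ∈ E, ⁅a, e⁆ ∈ M) : C ≤ M := by
  rw [← hC, Subgroup.closure_le]
  rintro _ ⟨e, he, rfl⟩
  exact hM e he

/-- No rank one pair collapses modulo a normal subgroup meeting no member trivially. -/
theorem not_collapse {M : Subgroup G} [hM : M.Normal]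
    (hmiss : ∀ A ∈ S, ∀ e ∈ A, e ∈ M → e = 1) {P Q : Subgroup G} (hP : P ∈ S) (hQ : Q ∈ S)
    (hp : IsRankOnePair P Q) {x y : G} (hx : x ∈ P) (hx1 : x ≠ 1) (hy : y ∈ Q) (hy1 : y ≠ 1)
    (hxy : ⁅x, y⁆ ∈ M) : False := by
  by_cases hdeg : IsDegenerateRootSet S
  · obtain ⟨e, he, he1, hed⟩ := h.exists_mem_derived hP hQ hp (h.big hdeg P hP)
    refine he1 (hmiss P hP e he ?_)
    have hQle := le_sup_of_collapse hp hx hx1 hy hy1 hxy
    refine (Subgroup.commutator_le.mpr fun g hg k hk => ?_ : ⁅P ⊔ Q, P ⊔ Q⁆ ≤ M) hed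
    obtain ⟨a, ha, hga⟩ := exists_mk (P := P) (sup_le le_sup_right hQle hg : g ∈ M ⊔ P)
    obtain ⟨b, hb, hkb⟩ := exists_mk (P := P) (sup_le le_sup_right hQle hk : k ∈ M ⊔ P)
    rw [mk_comm, hga, hkb, ← QuotientGroup.mk_mul, ← QuotientGroup.mk_mul,
      h.abelian hP a ha b hb]
  simp only [IsDegenerateRootSet, not_forall, not_not] at hdeg
  obtain ⟨A, hA, E, hE, hc⟩ := hdeg
  obtain ⟨g, hg⟩ := h.exists_conj hP hA
  subst hg
  set A := conjBy P g
  set A' := conjBy Q g with hA'def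
  have hA' : A' ∈ S := h.root.conj_mem Q hQ g
  have hp' : IsRankOnePair A A' := RankOne.conj_pair hp g
  have hAA' : A ≤ M ⊔ A' := by
    refine le_sup_of_collapse (RankOnePair_symm hp') (conjBy_mem hy g)
      (fun h' => hy1 (conj_eq_one_iff.mp h')) (conjBy_mem hx g)
      (fun h' => hx1 (conj_eq_one_iff.mp h')) ?_
    have h3 := hM.conj_mem _ hxy g
    rw [show g * ⁅x, y⁆ * g⁻¹ = ⁅g * x * g⁻¹, g * y * g⁻¹⁆ by
      simp [commutatorElement_def]; group] at h3
    rw [mk_comm]
    exact (mk_comm.mp h3).symm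
  have hA'A : A' ≤ M ⊔ A := by
    refine le_sup_of_collapse hp' (conjBy_mem hx g)
      (fun h' => hx1 (conj_eq_one_iff.mp h')) (conjBy_mem hy g)
      (fun h' => hy1 (conj_eq_one_iff.mp h')) ?_
    have h3 := hM.conj_mem _ hxy g
    rwa [show g * ⁅x, y⁆ * g⁻¹ = ⁅g * x * g⁻¹, g * y * g⁻¹⁆ by
      simp [commutatorElement_def]; group] at h3
  set C := ⁅A, E⁆ with hCdef
  have hCS : C ∈ S := hc.1
  have hCne : C ≠ ⊥ := h.root.ne_bot C hCS
  -- modulo M an element of A never equals one centralising E modulo M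
  have hfaith : ∀ a ∈ A, (∀ e ∈ E, (a : G ⧸ M) * (e : G ⧸ M) = (e : G ⧸ M) * (a : G ⧸ M)) →
      a = 1 := by
    intro a ha hcomm
    by_contra ha1
    obtain ⟨c, hc', hc1⟩ := ne_one_of_mem_ne_bot hCne
    exact hc1 (hmiss C hCS c hc' (le_of_generators (hc.2.2.1 a ha ha1)
      (fun e he => mk_comm.mpr (hcomm e he)) hc'))
  -- members in the commutator case never commute modulo M
  have hnocomm : ∀ F ∈ S, (∀ f ∈ F, ∀ z ∈ A', ⁅f, z⁆ ∈ M) → ¬ RootCommutatorCase S F A' := by
    intro F _ hFM hcF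
    obtain ⟨c, hc', hc1⟩ := ne_one_of_mem_ne_bot (h.root.ne_bot _ hcF.1)
    exact hc1 (hmiss _ hcF.1 c hc' (Subgroup.commutator_le.mpr hFM hc'))
  have hcommM : ∀ F : Subgroup G, (∀ f ∈ F, ∀ a ∈ A, f * a = a * f) →
      ∀ f ∈ F, ∀ z ∈ A', ⁅f, z⁆ ∈ M := by
    intro F hF f hf z hz
    obtain ⟨a, ha, hza⟩ := exists_mk (hA'A hz)
    rw [mk_comm, hza, ← QuotientGroup.mk_mul, ← QuotientGroup.mk_mul, hF f hf a ha]
  -- C centralises A'
  have hCA : ∀ c ∈ C, ∀ a ∈ A, c * a = a * c := fun c hc' a ha =>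
    commCase_central_left hc hc' ha
  have hCA' : ⁅C, A'⁆ = ⊥ := by
    rcases h.root.pair C hCS A' hA' with hb | hr | hcc
    · exact hb
    · exfalso
      obtain ⟨c, hc', hc1⟩ := RankOne.exists_ne_one hr
      obtain ⟨z, hz, hz1⟩ := RankOne.exists_ne_one (RankOnePair_symm hr)
      have hle := le_sup_of_collapse hr hc' hc1 hz hz1 (hcommM C hCA c hc' z hz)
      obtain ⟨a, ha, ha1⟩ := ne_one_of_mem_ne_bot (h.root.ne_bot A hA)
      obtain ⟨c₂, hc₂, hac⟩ := exists_mk
        ((hAA'.trans (sup_le le_sup_left hle) : A ≤ M ⊔ C) ha)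
      refine ha1 (hfaith a ha fun e he => ?_)
      rw [hac, ← QuotientGroup.mk_mul, ← QuotientGroup.mk_mul, commCase_central_right hc hc₂ he]
    · exact absurd hcc (hnocomm C hCS (hcommM C hCA))
  obtain ⟨e, he, he1⟩ := ne_one_of_mem_ne_bot (h.root.ne_bot E hE)
  set F := conjBy A e with hFdef
  have hF : F ∈ S := h.root.conj_mem A hA e
  have hke : ∀ a ∈ A, ⁅e, a⁆ ∈ C := fun a ha => by
    rw [hCdef, Subgroup.commutator_comm]; exact Subgroup.commutator_mem_commutator he ha
  have hFA : ∀ f ∈ F, ∀ a ∈ A, f * a = a * f := by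
    intro f hf a ha
    have hf' := mem_conjBy.mp hf
    rw [show f = ⁅e, e⁻¹ * f * e⁆ * (e⁻¹ * f * e) by simp [commutatorElement_def]; group,
      mul_assoc, h.abelian hA _ hf' a ha, ← mul_assoc, hCA _ (hke _ hf') a ha, mul_assoc]
  rcases h.root.pair F hF A' hA' with hb | hr | hcc
  · obtain ⟨a, ha, ha1⟩ := RankOne.exists_ne_one hp'
    obtain ⟨z, hz, hz1⟩ := RankOne.exists_ne_one (RankOnePair_symm hp')
    refine RankOne.not_commute hp' ha ha1 hz hz1 ?_
    have h1 : Commute (⁅e, a⁆ * a) z := by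
      have := commute_of_bot hb (conjBy_mem ha e) hz
      rwa [show e * a * e⁻¹ = ⁅e, a⁆ * a by simp [commutatorElement_def]] at this
    have h2 : Commute (⁅e, a⁆) z := commute_of_bot hCA' (hke a ha) hz
    have := h2.inv_left.mul_left h1
    rwa [inv_mul_cancel_left] at this
  · obtain ⟨f, hf, hf1⟩ := RankOne.exists_ne_one hr
    obtain ⟨z, hz, hz1⟩ := RankOne.exists_ne_one (RankOnePair_symm hr)
    have hle := le_sup_of_collapse hr hf hf1 hz hz1 (hcommM F hFA f hf z hz)
    have hkey : ∀ a ∈ A, ⁅e, a⁆ = 1 := by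
      intro a₂ ha₂
      obtain ⟨f₂, hf₂, hfa⟩ := exists_mk
        ((hAA'.trans (sup_le le_sup_left hle) : A ≤ M ⊔ F) ha₂)
      set a₃ := e⁻¹ * f₂ * e
      have ha₃ : a₃ ∈ A := mem_conjBy.mp hf₂
      have hf₂' : f₂ = ⁅e, a₃⁆ * a₃ := by simp [a₃, commutatorElement_def]; group
      have heq : a₂ * a₃⁻¹ = 1 := by
        refine hfaith _ (mul_mem ha₂ (inv_mem ha₃)) fun e' he' => ?_
        rw [QuotientGroup.mk_mul, hfa, ← QuotientGroup.mk_mul, hf₂', mul_inv_cancel_right,
          ← QuotientGroup.mk_mul, ← QuotientGroup.mk_mul,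
          commCase_central_right hc (hke a₃ ha₃) he']
      have h23 : a₂ = a₃ := mul_inv_eq_one.mp heq
      refine hmiss C hCS _ (hke a₂ ha₂) ?_
      rw [← QuotientGroup.eq_one_iff]
      rw [hf₂', QuotientGroup.mk_mul, ← h23] at hfa
      exact (mul_eq_right.mp hfa.symm)
    apply hCne
    rw [hCdef, ← hc.2.2.2 e he he1, eq_bot_iff, Subgroup.closure_le]
    rintro _ ⟨a, ha, rfl⟩
    show a * e * a⁻¹ * e⁻¹ ∈ (⊥ : Subgroup G)
    rw [Subgroup.mem_bot, ← commutatorElement_def, ← commutatorElement_inv, hkey a ha, inv_one]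
  · exact hnocomm F hF (hcommM F hFA) hcc

theorem normal_cases (M : Subgroup G) [hM : M.Normal] :
    commutator G ≤ M ∨ M ≤ Subgroup.center G := by
  by_cases hmiss : ∀ A ∈ S, ∀ e ∈ A, e ∈ M → e = 1
  swap
  · push Not at hmiss
    obtain ⟨A, hA, e, he, heM, he1⟩ := hmiss
    exact Or.inl (h.derived_le_of_meet hA he he1 heM)
  right
  by_cases hfix : ∀ m ∈ M, ∀ A ∈ S, conjBy A m = A
  · intro m hm
    rw [Subgroup.mem_center_iff]
    have hle : (⊤ : Subgroup G) ≤ Subgroup.centralizer ({m} : Set G) := by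
      rw [← h.root.generates]
      refine iSup₂_le fun A hA a ha => ?_
      rw [Subgroup.mem_centralizer_singleton_iff]
      have h1 : ⁅m, a⁆ = 1 := by
        refine hmiss A hA _ ?_ ?_
        · rw [commutatorElement_def]
          exact mul_mem (by simpa [hfix m hm A hA] using conjBy_mem ha m) (inv_mem ha)
        · rw [commutatorElement_def, show m * a * m⁻¹ * a⁻¹ = m * (a * m⁻¹ * a⁻¹) by group]
          exact mul_mem hm (hM.conj_mem _ (inv_mem hm) a)
      exact (commutatorElement_eq_one_iff_mul_comm.mp h1).symm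
    exact fun g => Subgroup.mem_centralizer_singleton_iff.mp (hle (Subgroup.mem_top g))
  exfalso
  push Not at hfix
  obtain ⟨m, hm, A, hA, hne⟩ := hfix
  set A' := conjBy A m
  have hA' : A' ∈ S := h.root.conj_mem A hA m
  have hmk : (m : G ⧸ M) = 1 := (QuotientGroup.eq_one_iff m).mpr hm
  have hmod : ∀ a ∈ A, ((m * a * m⁻¹ : G) : G ⧸ M) = (a : G ⧸ M) := fun a _ => by
    rw [QuotientGroup.mk_mul, QuotientGroup.mk_mul, QuotientGroup.mk_inv, hmk]; simp
  -- a member commuting with one of two congruent members commutes with the other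
  have hsame : ∀ P ∈ S, ∀ Q ∈ S, (∀ q ∈ Q, ∃ p ∈ P, (q : G ⧸ M) = (p : G ⧸ M)) →
      ∀ E ∈ S, ⁅E, P⁆ = ⊥ → ⁅E, Q⁆ = ⊥ := by
    intro P _ Q hQ hPQ E hE hEP
    have hM' : ∀ e ∈ E, ∀ q ∈ Q, ⁅e, q⁆ ∈ M := fun e he q hq => by
      obtain ⟨p, hp', hqp⟩ := hPQ q hq
      rw [mk_comm, hqp, ← QuotientGroup.mk_mul, ← QuotientGroup.mk_mul,
        commute_of_bot hEP he hp']
    rcases h.root.pair E hE Q hQ with hb | hr | hcc
    · exact hb
    · obtain ⟨e, he, he1⟩ := RankOne.exists_ne_one hr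
      obtain ⟨q, hq, hq1⟩ := RankOne.exists_ne_one (RankOnePair_symm hr)
      exact (h.not_collapse hmiss hE hQ hr he he1 hq hq1 (hM' e he q hq)).elim
    · obtain ⟨c, hc', hc1⟩ := ne_one_of_mem_ne_bot (h.root.ne_bot _ hcc.1)
      exact absurd (hmiss _ hcc.1 c hc' (Subgroup.commutator_le.mpr hM' hc')) hc1
  have hAA : ∀ a ∈ A, ∀ z ∈ A', ⁅a, z⁆ ∈ M := fun a ha z hz => by
    have hz' := mem_conjBy.mp hz
    have : (z : G ⧸ M) = ((m⁻¹ * z * m : G) : G ⧸ M) := by
      rw [← hmod _ hz']; congr 1; group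
    rw [mk_comm, this, ← QuotientGroup.mk_mul, ← QuotientGroup.mk_mul,
      h.abelian hA a ha _ hz']
  rcases h.root.pair A hA A' hA' with hb | hr | hcc
  · apply h.sep A hA A' hA' (Ne.symm hne)
    ext E
    simp only [centralizingMembers, Set.mem_ofPred_eq, and_congr_right_iff,
      ← Subgroup.commutator_eq_bot_iff_le_centralizer]
    intro hE
    constructor
    · refine hsame A hA A' hA' (fun q hq => ⟨m⁻¹ * q * m, mem_conjBy.mp hq, ?_⟩) E hE
      rw [← hmod _ (mem_conjBy.mp hq)]; congr 1; group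
    · exact hsame A' hA' A hA (fun a ha => ⟨_, conjBy_mem ha m, (hmod a ha).symm⟩) E hE
  · obtain ⟨a, ha, ha1⟩ := RankOne.exists_ne_one hr
    obtain ⟨z, hz, hz1⟩ := RankOne.exists_ne_one (RankOnePair_symm hr)
    exact h.not_collapse hmiss hA hA' hr ha ha1 hz hz1 (hAA a ha z hz)
  · obtain ⟨c, hc', hc1⟩ := ne_one_of_mem_ne_bot (h.root.ne_bot _ hcc.1)
    exact hc1 (hmiss _ hcc.1 c hc' (Subgroup.commutator_le.mpr hAA hc'))

/-- The rank one group of a pair of large members has quasisimple derived group. -/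
theorem derived_le_of_comm {A B : Subgroup G} (hA : A ∈ S) (hB : B ∈ S)
    (hp : IsRankOnePair A B) (hbig : 3 < ENat.card A) {N : Subgroup G}
    (hN : ∀ g ∈ commutator G, ∀ n ∈ N, g * n * g⁻¹ ∈ N) {x y : G} (hx : x ∈ A) (hx1 : x ≠ 1)
    (hy : y ∈ B) (hy1 : y ≠ 1) (hxy : ⁅x, y⁆ ∈ N) : ⁅A ⊔ B, A ⊔ B⁆ ≤ N := by
  set X := A ⊔ B
  have hsup : A.subgroupOf X ⊔ B.subgroupOf X = ⊤ := by
    rw [← Subgroup.subgroupOf_sup le_sup_left le_sup_right, Subgroup.subgroupOf_self]
  have hsp := h.spair hA hB hp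
  have hsp' : SPair (A.subgroupOf X) (B.subgroupOf X) := by
    refine ⟨rankOnePair_subgroupOf le_sup_left le_sup_right hp, fun a ha ha1 b hb hb1 heq => ?_,
      fun a ha b hb => Subtype.ext (hsp.commA _ ha _ hb),
      fun a ha b hb => Subtype.ext (hsp.commB _ ha _ hb)⟩
    rw [conjBy_subgroupOf, conjBy_subgroupOf] at heq
    refine Subtype.ext (hsp.spec _ ha (fun h' => ha1 (Subtype.ext h')) _ hb
      (fun h' => hb1 (Subtype.ext h')) (subgroupOf_injOn ?_ ?_ heq))
    · exact conjBy_le_of_mem le_sup_left (b⁻¹).2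
    · exact conjBy_le_of_mem le_sup_right (a⁻¹).2
  have hbig' : 3 < ENat.card (A.subgroupOf X) := by
    rwa [ENat.card_congr (Subgroup.subgroupOfEquivOfLe (le_sup_left : A ≤ X)).toEquiv]
  have hmap : (commutator X).map X.subtype = ⁅X, X⁆ := Subgroup.map_subtype_commutator X
  have hsub : ∀ g ∈ commutator X, (g : G) ∈ commutator G := fun g hg =>
    (Subgroup.commutator_mono le_top le_top : ⁅X, X⁆ ≤ commutator G)
      (hmap ▸ Subgroup.mem_map_of_mem X.subtype hg)
  have hk : ⁅(⟨x, Subgroup.mem_sup_left hx⟩ : X), ⟨y, Subgroup.mem_sup_right hy⟩⁆ ∈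
      N.subgroupOf X ⊓ commutator X :=
    ⟨hxy, Subgroup.commutator_mem_commutator (Subgroup.mem_top _) (Subgroup.mem_top _)⟩
  rcases hsp'.normal_of_commutator hsup hbig' (N := N.subgroupOf X ⊓ commutator X) inf_le_right
    (fun g hg n hn => ⟨hN _ (hsub g hg) _ hn.1,
      mul_mem (mul_mem hg hn.2) ((commutator X).inv_mem hg)⟩) with heq | hcen
  · rw [← hmap, Subgroup.map_le_iff_le_comap]
    exact heq ▸ inf_le_left
  · exfalso
    apply RankOne.commutator_not_fix hp hx hx1 hy hy1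
    refine fix_of_commute fun z hz => ?_
    have := Subgroup.mem_center_iff.mp (hcen hk) ⟨z, Subgroup.mem_sup_left hz⟩
    exact (congrArg Subtype.val this).symm

theorem exists_noncommuting : ∃ e ∈ commutator G, ∃ b ∈ commutator G,
    ⁅e, b⁆ ∉ Subgroup.center G ∧ e * b ≠ b * e := by
  obtain ⟨A, hA, -, -, -⟩ := h.two
  obtain ⟨B, hB, hp⟩ := h.exists_partner hA
  obtain ⟨e, ⟨he, heD⟩, he1⟩ := ne_one_of_mem_ne_bot (h.meet_derived hA)
  have hsp := h.spair hA hB hp
  obtain ⟨b, hb⟩ := hsp.exists_partner he he1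
  refine ⟨e, heD, b, hsp.partner_mem_commutator hb heD, fun hc => ?_,
    RankOne.not_commute hp he he1 hb.mem' hb.ne'⟩
  exact RankOne.commutator_not_fix hp he he1 hb.mem' hb.ne'
    (fix_of_commute fun y _ => (Subgroup.mem_center_iff.mp hc y).symm)

/-- A subgroup normalised by the derived group and meeting a member contains it. -/
theorem derived_le_of_meet' {N : Subgroup G}
    (hN : ∀ g ∈ commutator G, ∀ n ∈ N, g * n * g⁻¹ ∈ N) {A : Subgroup G} (hA : A ∈ S)
    {e : G} (he : e ∈ A) (he1 : e ≠ 1) (heN : e ∈ N) : commutator G ≤ N := by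
  set N₀ := ⨅ c ∈ A, conjBy N c
  have hN₀N : N₀ ≤ N := by
    refine (iInf₂_le 1 (one_mem A)).trans ?_
    rw [conjBy_one]
  have hnormal : N₀.Normal := ⟨fun y hy g => by
    obtain ⟨d, hd, c, hc, rfl⟩ := Subgroup.mem_sup_of_normal_left.mp
      ((h.sup_eq_top hA) ▸ Subgroup.mem_top g)
    simp only [N₀, Subgroup.mem_iInf, mem_conjBy] at hy ⊢
    intro u hu
    have h1 := hN _ ((inferInstance : (commutator G).Normal).conj_mem d hd u⁻¹) _
      (hy (c⁻¹ * u) (mul_mem (inv_mem hc) hu))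
    simpa [mul_assoc] using h1⟩
  have heN₀ : e ∈ N₀ := by
    simp only [N₀, Subgroup.mem_iInf, mem_conjBy]
    intro c hc
    rwa [h.abelian hA _ (inv_mem hc) _ he, inv_mul_cancel_right]
  exact (h.derived_le_of_meet hA he he1 heN₀).trans hN₀N

theorem derived_normal_cases {N : Subgroup G} (hle : N ≤ commutator G)
    (hN : ∀ g ∈ commutator G, ∀ n ∈ N, g * n * g⁻¹ ∈ N) :
    N = commutator G ∨ N ≤ Subgroup.centralizer (commutator G : Set G) := by
  by_cases hD : commutator G = ⊤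
  · have : N.Normal := ⟨fun n hn g => hN g (hD ▸ Subgroup.mem_top g) n hn⟩
    exact (h.normal_cases N).imp (fun hh => le_antisymm hle hh)
      fun hh => hh.trans (Subgroup.center_le_centralizer _)
  have hdeg : IsDegenerateRootSet S := fun A _ B _ hc => hD (h.perfect_of_comm hc)
  by_cases hmiss : ∀ A ∈ S, ∀ e ∈ A, e ∈ N → e = 1
  swap
  · push Not at hmiss
    obtain ⟨A, hA, e, he, heN, he1⟩ := hmiss
    exact Or.inl (le_antisymm hle (h.derived_le_of_meet' hN hA he he1 heN))
  -- commutators from the derived group into N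
  have hcomm : ∀ n ∈ N, ∀ a ∈ commutator G, ⁅n, a⁆ ∈ N := fun n hn a ha => by
    rw [commutatorElement_def, show n * a * n⁻¹ * a⁻¹ = n * (a * n⁻¹ * a⁻¹) by group]
    exact mul_mem hn (hN a ha _ (inv_mem hn))
  have hno : ∀ P ∈ S, ∀ Q ∈ S, IsRankOnePair P Q → ∀ x ∈ P, x ≠ 1 → ∀ y ∈ Q, y ≠ 1 →
      ⁅x, y⁆ ∈ N → False := by
    intro P hP Q hQ hp x hx hx1 y hy hy1 hxy
    have hbig := h.big hdeg P hP
    obtain ⟨e, he, he1, hed⟩ := h.exists_mem_derived hP hQ hp hbig
    exact he1 (hmiss P hP e he (h.derived_le_of_comm hP hQ hp hbig hN hx hx1 hy hy1 hxy hed))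
  by_cases hfix : ∀ n ∈ N, ∀ A ∈ S, conjBy A n = A
  · right
    intro n hn
    let U : Subgroup G := Subgroup.closure {a | a ∈ commutator G ∧ ∃ A ∈ S, a ∈ A}
    have hU : U.Normal := ⟨fun u hu g => by
      induction hu using Subgroup.closure_induction with
      | mem a ha =>
          obtain ⟨hd, A, hA, hm⟩ := ha
          exact Subgroup.subset_closure ⟨(inferInstance : (commutator G).Normal).conj_mem a hd g,
            conjBy A g, h.root.conj_mem A hA g, conjBy_mem hm g⟩
      | one => simp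
      | mul u v _ _ ihu ihv => simpa [mul_assoc] using mul_mem ihu ihv
      | inv u _ ihu => simpa [mul_assoc] using inv_mem ihu⟩
    have hUn : U ≤ Subgroup.centralizer ({n} : Set G) := by
      refine (Subgroup.closure_le _).mpr ?_
      rintro a ⟨hd, A, hA, ha⟩
      rw [SetLike.mem_coe, Subgroup.mem_centralizer_singleton_iff]
      have h1 : ⁅n, a⁆ = 1 := by
        refine hmiss A hA _ ?_ (hcomm n hn a hd)
        rw [commutatorElement_def]
        exact mul_mem (by simpa [hfix n hn A hA] using conjBy_mem ha n) (inv_mem ha)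
      exact (commutatorElement_eq_one_iff_mul_comm.mp h1).symm
    have hDU : commutator G ≤ U := by
      refine (h.normal_cases U).resolve_right fun hcen => ?_
      obtain ⟨A, hA, -, -, -⟩ := h.two
      obtain ⟨B, hB, hp⟩ := h.exists_partner hA
      obtain ⟨e, ⟨he, heD⟩, he1⟩ := ne_one_of_mem_ne_bot (h.meet_derived hA)
      obtain ⟨b, hb, hb1⟩ := RankOne.exists_ne_one (RankOnePair_symm hp)
      exact RankOne.not_commute hp he he1 hb hb1
        (Subgroup.mem_center_iff.mp (hcen (Subgroup.subset_closure ⟨heD, A, hA, he⟩)) b).symm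
    rw [Subgroup.mem_centralizer_iff]
    exact fun g hg => Subgroup.mem_centralizer_singleton_iff.mp (hUn (hDU hg))
  exfalso
  push Not at hfix
  obtain ⟨n, hn, A, hA, hne⟩ := hfix
  set A' := conjBy A n
  have hA' : A' ∈ S := h.root.conj_mem A hA n
  have hD' : (commutator G).Normal := inferInstance
  -- if E commutes with P, it commutes with the conjugate of P under k ∈ N
  have hsame : ∀ P ∈ S, ∀ k ∈ N, ∀ E ∈ S, ⁅E, P⁆ = ⊥ → ⁅E, conjBy P k⁆ = ⊥ := by
    intro P hP k hk E hE hEP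
    rcases h.root.pair E hE _ (h.root.conj_mem P hP k) with hb | hr | hcc
    · exact hb
    · exfalso
      obtain ⟨e, ⟨he, heD⟩, he1⟩ := ne_one_of_mem_ne_bot (h.meet_derived hP)
      obtain ⟨d, ⟨hd, hdD⟩, hd1⟩ := ne_one_of_mem_ne_bot (h.meet_derived hE)
      refine hno E hE _ (h.root.conj_mem P hP k) hr d hd hd1 _ (conjBy_mem he k)
        (fun h' => he1 (conj_eq_one_iff.mp h')) ?_
      have hj := hcomm k hk e heD
      have hde := commute_of_bot hEP hd he
      rw [show ⁅d, k * e * k⁻¹⁆ = d * ⁅k, e⁆ * (e * d⁻¹ * e⁻¹) * ⁅k, e⁆⁻¹ by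
          simp [commutatorElement_def]; group,
        show e * d⁻¹ * e⁻¹ = d⁻¹ by
          rw [← (Commute.inv_left hde).eq]; group]
      exact mul_mem (hN d hdD _ hj) (inv_mem hj)
    · exact absurd hcc (hdeg E hE _ (h.root.conj_mem P hP k))
  rcases h.root.pair A hA A' hA' with hb | hr | hcc
  · apply h.sep A hA A' hA' (Ne.symm hne)
    ext E
    simp only [centralizingMembers, Set.mem_ofPred_eq, and_congr_right_iff,
      ← Subgroup.commutator_eq_bot_iff_le_centralizer]
    intro hE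
    constructor
    · exact hsame A hA n hn E hE
    · intro hEA'
      have := hsame A' hA' n⁻¹ (inv_mem hn) E hE hEA'
      rwa [conjBy_inv_cancel] at this
  · obtain ⟨e, ⟨he, heD⟩, he1⟩ := ne_one_of_mem_ne_bot (h.meet_derived hA)
    refine hno A hA A' hA' hr e he he1 _ (conjBy_mem he n)
      (fun h' => he1 (conj_eq_one_iff.mp h')) ?_
    have hj := hcomm n hn e heD
    rw [show ⁅e, n * e * n⁻¹⁆ = e * ⁅n, e⁆ * e⁻¹ * ⁅n, e⁆⁻¹ by
      simp [commutatorElement_def]; group]
    exact mul_mem (hN e heD _ hj) (inv_mem hj)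
  · exact hdeg A hA A' hA' hcc

theorem derived_quasisimple : IsQuasisimple ↥(commutator G) := by
  obtain ⟨e, he, b, hb, hnc, hne⟩ := h.exists_noncommuting
  refine isQuasisimple_of_cases ?_ he hb hne fun N hle hN => h.derived_normal_cases hle hN
  refine le_antisymm (Subgroup.commutator_le_self _) ?_
  exact (h.normal_cases ⁅commutator G, commutator G⁆).resolve_right
    fun hc => hnc (hc (Subgroup.commutator_mem_commutator he hb))

theorem perfect_of_nondegenerate (hnd : IsNondegenerateRootSet S) : commutator G = ⊤ := by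
  obtain ⟨A, -, B, -, hc⟩ := hnd.2.2
  exact h.perfect_of_comm hc

theorem perfect_of_perfect_pair {A B : Subgroup G} (hA : A ∈ S)
    (hperf : Group.IsPerfect ↥(A ⊔ B)) : commutator G = ⊤ := by
  refine h.le_normal_of_le hA ((le_sup_left (b := B)).trans ?_)
  have hX : (commutator ↥(A ⊔ B)).map (A ⊔ B).subtype = A ⊔ B := by
    rw [hperf.commutator_eq_top, ← MonoidHom.range_eq_map, Subgroup.range_subtype]
  rw [← hX, Subgroup.map_subtype_commutator]
  exact Subgroup.commutator_mono le_top le_top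

end Hyp

end Cfsg.Agent.RootSub.Criterion
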