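import Cfsg.Agent.RootSub.Sum
import Cfsg.Agent.RootSub.Transfer
import Cfsg.Agent.RootSub.Special.Quadratic

/-!
# Lines of root subgroups against rank one partners

A line through A has a member in the commutator case with any rank one partner B of A, and this
gives a natural module for the rank one group of A and B, so the pair is special.
-/

set_option linter.style.haveILetI false

namespace Cfsg.Agent.RootSub

open Cfsg
open scoped commutatorElement

variable {G : Type*} [Group G] {S : Set (Subgroup G)} {A B C D E F P : Subgroup G}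

theorem mem_sup_of_comm {V : Subgroup G} (h : ∀ v ∈ V, ∀ c ∈ C, v * c = c * v) {m : G}
    (hm : m ∈ C ⊔ V) : ∃ c ∈ C, ∃ v ∈ V, c * v = m := by
  rw [Subgroup.sup_eq_closure] at hm
  induction hm using Subgroup.closure_induction with
  | mem x hx =>
      rcases hx with hx | hx
      · exact ⟨x, hx, 1, one_mem _, mul_one x⟩
      · exact ⟨1, one_mem _, x, hx, one_mul x⟩
  | one => exact ⟨1, one_mem _, 1, one_mem _, one_mul 1⟩
  | mul x y _ _ ihx ihy =>
      obtain ⟨c, hc, v, hv, rfl⟩ := ihx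
      obtain ⟨c', hc', v', hv', rfl⟩ := ihy
      refine ⟨c * c', mul_mem hc hc', v * v', mul_mem hv hv', ?_⟩
      rw [mul_assoc c, ← mul_assoc c', ← h v hv c' hc', mul_assoc, mul_assoc]
  | inv x _ ih =>
      obtain ⟨c, hc, v, hv, rfl⟩ := ih
      refine ⟨c⁻¹, inv_mem hc, v⁻¹, inv_mem hv, ?_⟩
      rw [← h v⁻¹ (inv_mem hv) c⁻¹ (inv_mem hc), mul_inv_rev]

/-- If every sum a c is a root element, one of them lies in the commutator case with B. -/
theorem exists_sum_commCase (hS : IsRootSubgroupSet S) (hA : A ∈ S) (hB : B ∈ S) (hC : C ∈ S)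
    (hp : IsRankOnePair A B) (hAC : ⁅A, C⁆ = ⊥) (hCB : IsRankOnePair C B)
    (hroot : ∀ a ∈ A, a ≠ 1 → ∀ c ∈ C, c ≠ 1 → a * c ∈ rootElements S) :
    ∃ a ∈ A, a ≠ 1 ∧ ∃ c ∈ C, c ≠ 1 ∧ ∃ F ∈ S, a * c ∈ F ∧ RootCommutatorCase S F B := by
  obtain ⟨b, hb, hb1⟩ := RankOne.exists_ne_one (RankOnePair_symm hp)
  obtain ⟨c, hc, hc1, heC⟩ := hCB.cond_right b⁻¹ (inv_mem hb) (inv_ne_one.mpr hb1)
  obtain ⟨a, ha, ha1, heA⟩ := hp.cond_right b⁻¹ (inv_mem hb) (inv_ne_one.mpr hb1)
  rw [inv_inv] at heC heA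
  -- f = a c⁻¹ moves B to a member commuting with B
  have hbot : ⁅conjBy B (a * c⁻¹), B⁆ = ⊥ := by
    have h := (conjBy_bot_iff a).mpr ((conjBy_bot_iff b).mpr (bot_comm hAC))
    rw [← heC, ← heA, conjBy_cancel_inv, conjBy_conjBy] at h
    exact h
  obtain ⟨hf1, F, hF, hf⟩ := hroot a ha ha1 c⁻¹ (inv_mem hc) (inv_ne_one.mpr hc1)
  refine ⟨a, ha, ha1, c⁻¹, inv_mem hc, inv_ne_one.mpr hc1, F, hF, hf, ?_⟩
  rcases hS.pair F hF B hB with h | h | h
  · exfalso
    have hfB : ∀ x ∈ B, a * c⁻¹ * x = x * (a * c⁻¹) := fun x hx => commute_of_bot h hf hx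
    have hfA : ∀ x ∈ A, a * c⁻¹ * x = x * (a * c⁻¹) := fun x hx => by
      have h1 : Commute a x := IsRootSubgroupSet.commute_self hS hA ha hx
      exact (h1.mul_left (commute_of_bot (bot_comm hAC) (inv_mem hc) hx)).eq
    exact mul_not_mem_rootElements hS hB hp (z := a * c⁻¹) hfA hfB hf1 (inv_mem ha)
      (inv_ne_one.mpr ha1) ⟨by simpa using hc1,
        ⟨C, hC, by
          have h1 : a * c⁻¹ = c⁻¹ * a := commute_of_bot hAC ha (inv_mem hc)
          rw [h1, mul_inv_cancel_right]; exact inv_mem hc⟩⟩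
  · exact absurd hbot (RankOne.not_bot (RankOne.conj_right_rankOne h hf hf1))
  · exact h

/-- A natural module in the root subgroups makes a rank one pair special. -/
theorem special_of_module (hS : IsRootSubgroupSet S) (hA : A ∈ S) (hB : B ∈ S)
    (hp : IsRankOnePair A B) (hBC : RootCommutatorCase S B C) (hAC : ⁅A, C⁆ = ⊥)
    (hAV : RootCommutatorCase S A ⁅B, C⁆) (hfix : ⁅A, ⁅B, C⁆⁆ = C) :
    IsSpecialRankOnePair A B := by
  refine ⟨hp, fun a ha ha1 b hb hb1 he => ?_⟩
  set V := ⁅B, C⁆ with hVdef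
  set X := A ⊔ B
  set M := C ⊔ V
  have hCS : C ∈ S := hfix ▸ hAV.1
  have hVC : ∀ v ∈ V, ∀ c ∈ C, v * c = c * v := fun v hv c hc => commCase_central_right hBC hv hc
  have hMcomm : ∀ x ∈ M, ∀ y ∈ M, x * y = y * x := by
    intro x hx y hy
    refine sup_le_centralizer (z := x) ?_ ?_ y hy
    · intro c hc
      exact (sup_le_centralizer (z := c) (fun c' hc' => IsRootSubgroupSet.commute_self hS hCS hc hc')
        (fun v hv => (hVC v hv c hc).symm) x hx).symm
    · intro v hv
      exact (sup_le_centralizer (z := v) (fun c hc => hVC v hv c hc)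
        (fun v' hv' => IsRootSubgroupSet.commute_self hS hBC.1 hv hv') x hx).symm
  have hnormA : A ≤ Subgroup.normalizer (M : Set G) := by
    rw [Subgroup.le_normalizer_iff_commutator_le_right, Subgroup.commutator_le]
    intro x hx m hm
    obtain ⟨c, hc, v, hv, rfl⟩ : ∃ c ∈ C, ∃ v ∈ V, c * v = m := mem_sup_of_comm hVC hm
    have h1 : Commute x c := commute_of_bot hAC hx hc
    rw [show ⁅x, c * v⁆ = (x * c * x⁻¹ * c⁻¹) * (c * ⁅x, v⁆ * c⁻¹) by
      simp [commutatorElement_def]; group, h1.eq, mul_inv_cancel_right, mul_inv_cancel, one_mul]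
    exact mul_mem (mul_mem (Subgroup.mem_sup_left hc)
      (Subgroup.mem_sup_left (hfix ▸ Subgroup.commutator_mem_commutator hx hv)))
      (inv_mem (Subgroup.mem_sup_left hc))
  have hnormB : B ≤ Subgroup.normalizer (M : Set G) := by
    rw [Subgroup.le_normalizer_iff_commutator_le_right, Subgroup.commutator_le]
    intro x hx m hm
    obtain ⟨c, hc, v, hv, rfl⟩ : ∃ c ∈ C, ∃ v ∈ V, c * v = m := mem_sup_of_comm hVC hm
    have h1 : Commute x v := (commCase_central_left hBC hv hx).symm
    rw [show ⁅x, c * v⁆ = ⁅x, c⁆ * (c * (x * v * x⁻¹ * v⁻¹) * c⁻¹) by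
      simp [commutatorElement_def]; group, h1.eq, mul_inv_cancel_right, mul_inv_cancel, mul_one,
      mul_inv_cancel, mul_one]
    exact Subgroup.mem_sup_right (Subgroup.commutator_mem_commutator hx hc)
  have hnorm : ∀ (x : X) (m : M), (x : G) * (m : G) * (x : G)⁻¹ ∈ M := fun x m =>
    (Subgroup.mem_normalizer_iff.mp ((sup_le hnormA hnormB : X ≤ _) x.2) m).mp m.2
  letI : CommGroup M :=
    { (inferInstance : Group M) with mul_comm := fun x y => Subtype.ext (hMcomm x x.2 y y.2) }
  letI : DistribMulAction X (Additive M) :=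
    { smul := fun x m => Additive.ofMul ⟨(x : G) * (Additive.toMul m : M) * (x : G)⁻¹, hnorm x _⟩
      one_smul := fun m => by
        apply Additive.toMul.injective; apply Subtype.ext
        show (1 : G) * _ * (1 : G)⁻¹ = _
        simp
      mul_smul := fun x y m => by
        apply Additive.toMul.injective; apply Subtype.ext
        show ((x : G) * y) * _ * ((x : G) * y)⁻¹ = (x : G) * ((y : G) * _ * (y : G)⁻¹) * (x : G)⁻¹
        group
      smul_zero := fun x => by
        apply Additive.toMul.injective; apply Subtype.ext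
        show (x : G) * (1 : G) * (x : G)⁻¹ = 1
        simp
      smul_add := fun x m n => by
        apply Additive.toMul.injective; apply Subtype.ext
        show (x : G) * (((Additive.toMul m : M) : G) * ((Additive.toMul n : M) : G)) * (x : G)⁻¹ =
          ((x : G) * _ * (x : G)⁻¹) * ((x : G) * _ * (x : G)⁻¹)
        group }
  have hsmul : ∀ (x : X) (m : Additive M),
      ((Additive.toMul (x • m - m) : M) : G) = ⁅(x : G), ((Additive.toMul m : M) : G)⁆ := by
    intro x m
    rw [toMul_sub, Subgroup.coe_div, div_eq_mul_inv, commutatorElement_def]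
    rfl
  have hsup : A.subgroupOf X ⊔ B.subgroupOf X = ⊤ := by
    rw [← Subgroup.subgroupOf_sup le_sup_left le_sup_right, Subgroup.subgroupOf_self]
  have hp' := rankOnePair_subgroupOf (K := X) le_sup_left le_sup_right hp
  have hq : ∀ x ∈ A.subgroupOf X, ∀ y ∈ A.subgroupOf X, ∀ n : Additive M,
      y • (x • n - n) = x • n - n := by
    intro x hx y hy n
    obtain ⟨c, hc, v, hv, hn⟩ := mem_sup_of_comm hVC (Additive.toMul n : M).2
    have hval : ((Additive.toMul (x • n - n) : M) : G) ∈ C := by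
      rw [hsmul, ← hn, show ⁅(x : G), c * v⁆ =
        ((x : G) * c * (x : G)⁻¹ * c⁻¹) * (c * ⁅(x : G), v⁆ * c⁻¹) by
          simp [commutatorElement_def]; group, commute_of_bot hAC (show (x : G) ∈ A from hx) hc, mul_inv_cancel_right,
        mul_inv_cancel, one_mul]
      exact mul_mem (mul_mem hc (hfix ▸ Subgroup.commutator_mem_commutator hx hv)) (inv_mem hc)
    apply Additive.toMul.injective; apply Subtype.ext
    show (y : G) * _ * (y : G)⁻¹ = _
    rw [commute_of_bot hAC (show (y : G) ∈ A from hy) hval, mul_inv_cancel_right]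
  have hnot : ∃ x y : X, ∃ n : Additive M, y • (x • n - n) ≠ x • n - n := by
    obtain ⟨c, hc, -, hne⟩ := CommCase.exists_ne_one_right hBC hS hb hb1
    refine ⟨⟨b, Subgroup.mem_sup_right hb⟩, ⟨a, Subgroup.mem_sup_left ha⟩,
      Additive.ofMul ⟨c, Subgroup.mem_sup_left hc⟩, fun h => ?_⟩
    have h' := congrArg (fun t : Additive M => ((Additive.toMul t : M) : G)) h
    change a * _ * a⁻¹ = _ at h'
    rw [hsmul] at h'
    refine CommCase.ne_one hAV hS hA hB hp ha ha1 (Subgroup.commutator_mem_commutator hb hc) hne ?_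
    rw [commutatorElement_def]
    exact mul_inv_eq_one.mpr h'
  have := Quadratic.special_of_quadratic hsup hp' hq hnot
    (a := ⟨a, Subgroup.mem_sup_left ha⟩) (b := ⟨b, Subgroup.mem_sup_right hb⟩) ha hb (by
      rw [conjBy_subgroupOf, conjBy_subgroupOf]
      simp only [Subgroup.coe_inv]
      rw [he])
  exact congrArg Subtype.val this

end Cfsg.Agent.RootSub
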