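import Cfsg.Agent.RootSub.Calculus
import Cfsg.Agent.RootSub.Transfer

/-!
# The natural module of a rank one pair spanned by a line

If ⁅A, B⁆ = C and ⁅D, C⁆ = A then B, D form a rank one pair acting on A C, permuting the conjugates
of A, which partition A C.
-/

namespace Cfsg.Agent.RootSub

open Cfsg
open scoped commutatorElement

variable {G : Type*} [Group G] {S : Set (Subgroup G)} {A B C D : Subgroup G}

/-- The data of a natural module. -/
structure NatModule (S : Set (Subgroup G)) (A B C D : Subgroup G) : Prop where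
  root : IsRootSubgroupSet S
  hA : A ∈ S
  hB : B ∈ S
  hC : C ∈ S
  hD : D ∈ S
  hAB : ⁅A, B⁆ = C
  hDC : ⁅D, C⁆ = A

namespace NatModule

variable (h : NatModule S A B C D)
include h

theorem symm : NatModule S C D A B :=
  ⟨h.root, h.hC, h.hD, h.hA, h.hB, (Subgroup.commutator_comm C D).trans h.hDC,
    (Subgroup.commutator_comm B A).trans h.hAB⟩

theorem commAB : RootCommutatorCase S A B :=
  commCase_of_mem h.root h.hA h.hB (h.hAB.symm ▸ h.hC)

theorem commDC : RootCommutatorCase S D C :=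
  commCase_of_mem h.root h.hD h.hC (h.hDC.symm ▸ h.hA)

theorem botCA : ⁅C, A⁆ = ⊥ := h.hAB ▸ CommCase.value_bot_left h.commAB

theorem botCB : ⁅C, B⁆ = ⊥ := h.hAB ▸ CommCase.value_bot_right h.commAB

theorem botAD : ⁅A, D⁆ = ⊥ := h.hDC ▸ CommCase.value_bot_left h.commDC

theorem comm_mem {x y : G} (hx : x ∈ A ⊔ C) (hy : y ∈ A ⊔ C) : x * y = y * x := by
  refine sup_le_centralizer (z := x) (fun a ha => ?_) (fun c hc => ?_) y hy
  · exact (sup_le_centralizer (z := a) (fun a' ha' => IsRootSubgroupSet.commute_self h.root h.hA ha ha')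
      (fun c hc => (commute_of_bot h.botCA hc ha).symm) x hx).symm
  · exact (sup_le_centralizer (z := c) (fun a ha => commute_of_bot h.botCA hc ha)
      (fun c' hc' => IsRootSubgroupSet.commute_self h.root h.hC hc hc') x hx).symm

theorem split {x : G} (hx : x ∈ A ⊔ C) : ∃ a ∈ A, ∃ c ∈ C, a * c = x := by
  have hn : A ≤ Subgroup.normalizer (C : Set G) := by
    rw [Subgroup.le_normalizer_iff_commutator_le_left, h.botCA]
    exact bot_le
  rw [← SetLike.mem_coe, Subgroup.coe_mul_of_left_le_normalizer_right A C hn] at hx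
  exact hx

theorem conjB_le {b : G} (hb : b ∈ B) : conjBy (A ⊔ C) b ≤ A ⊔ C := by
  rw [conjBy_sup, fix_of_bot (bot_comm h.botCB) hb]
  refine sup_le (fun x hx => ?_) le_sup_right
  have hx' := mem_conjBy.mp hx
  rw [show x = ⁅b, b⁻¹ * x * b⁆ * (b⁻¹ * x * b) by simp [commutatorElement_def]; group]
  refine mul_mem (Subgroup.mem_sup_right ?_) (Subgroup.mem_sup_left hx')
  rw [← h.hAB, Subgroup.commutator_comm]
  exact Subgroup.commutator_mem_commutator hb hx'

theorem conj_mem_module {g x : G} (hg : g ∈ B ⊔ D) (hx : x ∈ A ⊔ C) :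
    g * x * g⁻¹ ∈ A ⊔ C := by
  have hle : B ⊔ D ≤ Subgroup.normalizer ((A ⊔ C : Subgroup G) : Set G) := by
    refine sup_le (fun b hb => ?_) (fun d hd => ?_) <;> rw [← conjBy_eq_self_iff]
    · refine le_antisymm (h.conjB_le hb) ?_
      calc A ⊔ C = conjBy (conjBy (A ⊔ C) b⁻¹) b := (conjBy_cancel_inv _ _).symm
        _ ≤ conjBy (A ⊔ C) b := conjBy_mono (h.conjB_le (inv_mem hb)) b
    · rw [sup_comm A C]
      refine le_antisymm (h.symm.conjB_le hd) ?_
      calc C ⊔ A = conjBy (conjBy (C ⊔ A) d⁻¹) d := (conjBy_cancel_inv _ _).symm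
        _ ≤ conjBy (C ⊔ A) d := conjBy_mono (h.symm.conjB_le (inv_mem hd)) d
  exact (Subgroup.mem_normalizer_iff.mp (hle hg) x).mp hx

/-- The fixed points of B on the module lie in C. -/
theorem fixed_le {x : G} (hx : x ∈ A ⊔ C) (hfix : ∀ b ∈ B, x * b = b * x) : x ∈ C := by
  obtain ⟨a, ha, c, hc, rfl⟩ := h.split hx
  by_cases ha1 : a = 1
  · rwa [ha1, one_mul]
  exfalso
  obtain ⟨b, hb, -, hne⟩ := CommCase.exists_ne_one_right h.commAB h.root ha ha1
  refine hne (commutatorElement_eq_one_iff_mul_comm.mpr ?_)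
  have h1 : c * b = b * c := commute_of_bot h.botCB hc hb
  apply mul_right_cancel (b := c)
  calc a * b * c = a * c * b := by rw [mul_assoc, ← h1, mul_assoc]
    _ = b * (a * c) := hfix b hb
    _ = b * a * c := by rw [mul_assoc]

/-- B and D form a rank one pair. -/
theorem pair : IsRankOnePair B D := by
  suffices hno : ∀ b ∈ B, b ≠ 1 → ∀ d ∈ D, d ≠ 1 → b * (d * b * d⁻¹) = (d * b * d⁻¹) * b → False by
    obtain ⟨b, hb, hb1⟩ := ne_one_of_mem_ne_bot (h.root.ne_bot B h.hB)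
    obtain ⟨d, hd, hd1⟩ := ne_one_of_mem_ne_bot (h.root.ne_bot D h.hD)
    rcases h.root.pair B h.hB D h.hD with hbot | hr | hc
    · exfalso
      refine hno b hb hb1 d hd hd1 ?_
      rw [← commute_of_bot hbot hb hd, mul_inv_cancel_right]
    · exact hr
    · exfalso
      refine hno b hb hb1 d hd hd1 ?_
      have hw : ⁅d, b⁆ ∈ ⁅B, D⁆ := by
        rw [Subgroup.commutator_comm]; exact Subgroup.commutator_mem_commutator hd hb
      have h1 : Commute b ⁅d, b⁆ := (commCase_central_left hc hw hb).symm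
      rw [show d * b * d⁻¹ = ⁅d, b⁆ * b by simp [commutatorElement_def]]
      exact (h1.mul_right (Commute.refl b)).eq
  intro b hb hb1 d hd hd1 hcomm
  set b' := d * b * d⁻¹ with hb'def
  have hC2 : ∀ a ∈ A, ∃ x ∈ C, x = ⁅b, a⁆ := fun a ha => ⟨_, by
    rw [← h.hAB, Subgroup.commutator_comm]; exact Subgroup.commutator_mem_commutator hb ha, rfl⟩
  have hA2 : ∀ c ∈ C, ⁅d, c⁆ ∈ A := fun c hc =>
    h.hDC ▸ Subgroup.commutator_mem_commutator hd hc
  -- two steps of the alternating product land in C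
  have hkey : ∀ a ∈ A, ⁅d, ⁅b, ⁅d, ⁅b, a⁆⁆⁆⁆ ∈ C := by
    intro a ha
    set c := ⁅b, a⁆
    set a₁ := ⁅d, c⁆
    set c₂ := ⁅b, a₁⁆
    set a₂ := ⁅d, c₂⁆
    have hc : c ∈ C := by obtain ⟨x, hx, rfl⟩ := hC2 a ha; exact hx
    have ha₁ : a₁ ∈ A := hA2 c hc
    have hc₂ : c₂ ∈ C := by obtain ⟨x, hx, rfl⟩ := hC2 a₁ ha₁; exact hx
    have ha₂ : a₂ ∈ A := hA2 c₂ hc₂
    have hdA : ∀ y ∈ A, d * y * d⁻¹ = y := fun y hy => by
      rw [← commute_of_bot h.botAD hy hd, mul_inv_cancel_right]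
    have hbC : ∀ y ∈ C, b * y * b⁻¹ = y := fun y hy => by
      rw [← commute_of_bot h.botCB hy hb, mul_inv_cancel_right]
    have e1 : b * a * b⁻¹ = c * a := by simp [c, commutatorElement_def]
    have e2 : d * c * d⁻¹ = a₁ * c := by simp [a₁, commutatorElement_def]
    have e3 : b * a₁ * b⁻¹ = c₂ * a₁ := by simp [c₂, commutatorElement_def]
    have e4 : d * c₂ * d⁻¹ = a₂ * c₂ := by simp [a₂, commutatorElement_def]
    have hb'a : b' * a * b'⁻¹ = a₁ * c * a := by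
      calc b' * a * b'⁻¹ = d * (b * (d⁻¹ * a * d⁻¹⁻¹) * b⁻¹) * d⁻¹ := by rw [hb'def]; group
        _ = d * (b * a * b⁻¹) * d⁻¹ := by
          rw [show d⁻¹ * a * d⁻¹⁻¹ = a by
            conv_lhs => arg 1; arg 2; rw [← hdA a ha]
            group]
        _ = (d * c * d⁻¹) * (d * a * d⁻¹) := by rw [e1]; group
        _ = _ := by rw [e2, hdA a ha]
    have hdc : d⁻¹ * c * d = a₁⁻¹ * c := by
      have := congrArg (fun t => d⁻¹ * (a₁⁻¹ * t) * d) e2
      simp only [inv_mul_cancel_left] at this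
      rw [← this, show d⁻¹ * (a₁⁻¹ * (d * c * d⁻¹)) * d = (d⁻¹ * a₁⁻¹ * d) * c by group]
      congr 1
      rw [show d⁻¹ * a₁⁻¹ * d = d⁻¹ * (d * a₁ * d⁻¹)⁻¹ * d by rw [hdA a₁ ha₁]]
      group
    have hb'c : b' * c * b'⁻¹ = a₁⁻¹ * (a₂⁻¹ * c₂⁻¹) * (a₁ * c) := by
      calc b' * c * b'⁻¹ = d * (b * (d⁻¹ * c * d) * b⁻¹) * d⁻¹ := by rw [hb'def]; group
        _ = d * ((b * a₁ * b⁻¹)⁻¹ * (b * c * b⁻¹)) * d⁻¹ := by rw [hdc]; group
        _ = (d * a₁ * d⁻¹)⁻¹ * (d * c₂ * d⁻¹)⁻¹ * (d * c * d⁻¹) := by rw [e3, hbC c hc]; group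
        _ = a₁⁻¹ * (c₂⁻¹ * a₂⁻¹) * (a₁ * c) := by rw [hdA a₁ ha₁, e4, e2]; group
        _ = _ := by
          rw [h.comm_mem (Subgroup.mem_sup_right (inv_mem hc₂)) (Subgroup.mem_sup_left (inv_mem ha₂))]
    have heq : b * (b' * a * b'⁻¹) * b⁻¹ = b' * (b * a * b⁻¹) * b'⁻¹ := by
      calc b * (b' * a * b'⁻¹) * b⁻¹ = (b * b') * a * (b * b')⁻¹ := by group
        _ = (b' * b) * a * (b' * b)⁻¹ := by rw [hcomm]
        _ = _ := by group
    have hL : b * (b' * a * b'⁻¹) * b⁻¹ = c₂ * (a₁ * c * c * a) := by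
      calc b * (b' * a * b'⁻¹) * b⁻¹ = (b * a₁ * b⁻¹) * (b * c * b⁻¹) * (b * a * b⁻¹) := by
            rw [hb'a]; group
        _ = _ := by rw [e3, hbC c hc, e1]; group
    have hR : b' * (b * a * b⁻¹) * b'⁻¹ = a₂⁻¹ * c₂⁻¹ * (a₁ * c * c * a) := by
      have h1 : a₁⁻¹ * (a₂⁻¹ * c₂⁻¹) = (a₂⁻¹ * c₂⁻¹) * a₁⁻¹ :=
        h.comm_mem (Subgroup.mem_sup_left (inv_mem ha₁))
          (mul_mem (Subgroup.mem_sup_left (inv_mem ha₂)) (Subgroup.mem_sup_right (inv_mem hc₂)))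
      have h2 : c * a₁ = a₁ * c := commute_of_bot h.botCA hc ha₁
      calc b' * (b * a * b⁻¹) * b'⁻¹ = (b' * c * b'⁻¹) * (b' * a * b'⁻¹) := by rw [e1]; group
        _ = a₂⁻¹ * c₂⁻¹ * a₁⁻¹ * (a₁ * c) * (a₁ * c * a) := by rw [hb'c, hb'a, h1]
        _ = a₂⁻¹ * c₂⁻¹ * (c * a₁) * c * a := by group
        _ = _ := by rw [h2]; group
    rw [hL, hR] at heq
    have h3 := mul_right_cancel heq
    rw [show a₂ = c₂⁻¹ * c₂⁻¹ by
      calc a₂ = c₂⁻¹ * (a₂⁻¹ * c₂⁻¹)⁻¹ := by group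
        _ = _ := by rw [← h3]]
    exact mul_mem (inv_mem hc₂) (inv_mem hc₂)
  -- every element of A is such a product
  obtain ⟨c₀, hc₀, hc₀1⟩ := ne_one_of_mem_ne_bot (h.root.ne_bot C h.hC)
  have hBA : RootCommutatorCase S B A := commCase_symm h.commAB
  have hBAv : ⁅B, A⁆ = C := (Subgroup.commutator_comm B A).trans h.hAB
  obtain ⟨a₃, ha₃, he₃⟩ := CommCase.exists_right hBA hb hb1 (hBAv.symm ▸ hc₀)
  obtain ⟨c₂, hc₂, he₂⟩ := CommCase.exists_right h.commDC hd hd1 (h.hDC.symm ▸ ha₃)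
  obtain ⟨a₁, ha₁, he₁⟩ := CommCase.exists_right hBA hb hb1 (hBAv.symm ▸ hc₂)
  obtain ⟨c, hc, he⟩ := CommCase.exists_right h.commDC hd hd1 (h.hDC.symm ▸ ha₁)
  obtain ⟨a, ha, he'⟩ := CommCase.exists_right hBA hb hb1 (hBAv.symm ▸ hc)
  have hmem := hkey a ha
  rw [he', he, he₁, he₂] at hmem
  refine hc₀1 ?_
  rw [← he₃, commutatorElement_eq_one_iff_mul_comm]
  exact (commute_of_bot h.botCB hmem hb).symm

/-- Conjugates of A depend only on the conjugate of D. -/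
theorem conjA_eq {x y : G} (hx : x ∈ B ⊔ D) (hy : y ∈ B ⊔ D) (he : conjBy D x = conjBy D y) :
    conjBy A x = conjBy A y := by
  have key : ∀ z ∈ B ⊔ D, conjBy D z = D → conjBy A z ≤ A := by
    intro z hz hzD w hw
    have hw' := mem_conjBy.mp hw
    refine h.symm.fixed_le (by
      rw [sup_comm]
      have := h.conj_mem_module hz (Subgroup.mem_sup_left hw')
      simpa [mul_assoc] using this) fun d hd => ?_
    exact commute_of_bot ((conjBy_bot_iff z).mpr h.botAD) hw (hzD.symm ▸ hd)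
  have hz : y⁻¹ * x ∈ B ⊔ D := mul_mem (inv_mem hy) hx
  have hzD : conjBy D (y⁻¹ * x) = D := by rw [← conjBy_conjBy, he, conjBy_inv_cancel]
  have hzD' : conjBy D (y⁻¹ * x)⁻¹ = D := by
    conv_lhs => rw [← hzD]
    rw [conjBy_inv_cancel]
  have : conjBy A (y⁻¹ * x) = A := le_antisymm (key _ hz hzD) (by
    have := conjBy_mono (key _ (inv_mem hz) hzD') (y⁻¹ * x)
    rwa [conjBy_cancel_inv] at this)
  calc conjBy A x = conjBy (conjBy A (y⁻¹ * x)) y := by rw [conjBy_conjBy, mul_inv_cancel_left]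
    _ = conjBy A y := by rw [this]

/-- C is a conjugate of A. -/
theorem exists_conj : ∃ x ∈ B ⊔ D, conjBy A x = C ∧ conjBy D x = B := by
  have hp := h.pair
  obtain ⟨x, hx, he⟩ := RankOne.right_eq_conj (RankOnePair_symm hp)
  rw [sup_comm] at hx
  refine ⟨x, hx, le_antisymm (fun w hw => ?_) (fun w hw => ?_), he.symm⟩
  · refine h.fixed_le (by
      have := h.conj_mem_module hx (Subgroup.mem_sup_left (mem_conjBy.mp hw))
      simpa [mul_assoc] using this) fun b hb => ?_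
    exact commute_of_bot ((conjBy_bot_iff x).mpr h.botAD) hw (he ▸ hb)
  · rw [mem_conjBy]
    refine h.symm.fixed_le (by
      rw [sup_comm]
      have := h.conj_mem_module (inv_mem hx) (Subgroup.mem_sup_right (S := A) hw)
      simpa using this) fun d hd => ?_
    have hb : x * d * x⁻¹ ∈ B := he ▸ conjBy_mem hd x
    calc x⁻¹ * w * x * d = x⁻¹ * (w * (x * d * x⁻¹)) * x := by group
      _ = x⁻¹ * ((x * d * x⁻¹) * w) * x := by rw [commute_of_bot h.botCB hw hb]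
      _ = d * (x⁻¹ * w * x) := by group

theorem orbit_eq : {E | ∃ x ∈ B ⊔ D, E = conjBy A x} =
    (fun b : G => conjBy A b) '' (B : Set G) ∪ {C} := by
  obtain ⟨x₀, hx₀, hA₀, hD₀⟩ := h.exists_conj
  ext E
  constructor
  · rintro ⟨x, hx, rfl⟩
    have hmem : conjBy D x ∈ unipotentSubgroups B D := by
      rw [← RankOne.unipotent_symm h.pair]
      exact ⟨x, sup_comm B D ▸ hx, rfl⟩
    rcases RankOne.cases_of_mem h.pair hmem with he | ⟨b, hb, he⟩
    · exact Or.inr ((h.conjA_eq hx hx₀ (he.trans hD₀.symm)).trans hA₀)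
    · exact Or.inl ⟨b, hb, (h.conjA_eq hx (Subgroup.mem_sup_left hb) he).symm⟩
  · rintro (⟨b, hb, rfl⟩ | rfl)
    · exact ⟨b, Subgroup.mem_sup_left hb, rfl⟩
    · exact ⟨x₀, hx₀, hA₀.symm⟩

theorem orbit_symm : {E | ∃ x ∈ B ⊔ D, E = conjBy A x} = {E | ∃ x ∈ B ⊔ D, E = conjBy C x} := by
  obtain ⟨x₀, hx₀, hA₀, -⟩ := h.exists_conj
  ext E
  constructor
  · rintro ⟨x, hx, rfl⟩
    exact ⟨x * x₀⁻¹, mul_mem hx (inv_mem hx₀), by rw [← hA₀, conjBy_conjBy, inv_mul_cancel_right]⟩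
  · rintro ⟨x, hx, rfl⟩
    exact ⟨x * x₀, mul_mem hx hx₀, by rw [← hA₀, conjBy_conjBy]⟩

theorem orbit_eq' : {E | ∃ x ∈ B ⊔ D, E = conjBy A x} =
    (fun d : G => conjBy C d) '' (D : Set G) ∪ {A} := by
  rw [h.orbit_symm, sup_comm B D]
  exact h.symm.orbit_eq

theorem inf_bot : A ⊓ C = ⊥ := by
  rw [eq_bot_iff]
  rintro z ⟨hzA, hzC⟩
  rw [Subgroup.mem_bot]
  by_contra hne
  obtain ⟨b, hb, -, hne'⟩ := CommCase.exists_ne_one_right h.commAB h.root hzA hne
  exact hne' (commutatorElement_eq_one_iff_mul_comm.mpr (commute_of_bot h.botCB hzC hb))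

theorem partition : IsSubgroupPartition (A ⊔ C) {E | ∃ x ∈ B ⊔ D, E = conjBy A x} := by
  refine ⟨?_, ?_, ?_⟩
  · rintro E ⟨x, hx, rfl⟩ w hw
    have := h.conj_mem_module hx (Subgroup.mem_sup_left (T := C) (mem_conjBy.mp hw))
    simpa [mul_assoc] using this
  · intro x hx hx1
    rw [h.orbit_eq]
    obtain ⟨a, ha, c, hc, rfl⟩ := h.split hx
    by_cases ha1 : a = 1
    · exact ⟨C, Or.inr rfl, by rw [ha1, one_mul]; exact hc⟩
    obtain ⟨b, hb, he⟩ := CommCase.exists_right h.commAB ha ha1 (h.hAB.symm ▸ inv_mem hc)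
    refine ⟨conjBy A b, Or.inl ⟨b, hb, rfl⟩, ?_⟩
    have : a * c = b * a * b⁻¹ := by
      rw [← commute_of_bot h.botCA hc ha, show c = ⁅a, b⁆⁻¹ by rw [he, inv_inv]]
      simp [commutatorElement_def]
      group
    rw [this]
    exact conjBy_mem ha b
  · rintro E ⟨x, hx, rfl⟩ F ⟨y, hy, rfl⟩ hne
    have hmem : conjBy A (x⁻¹ * y) ∈ {E | ∃ z ∈ B ⊔ D, E = conjBy A z} :=
      ⟨_, mul_mem (inv_mem hx) hy, rfl⟩
    rw [h.orbit_eq'] at hmem
    have hbot : A ⊓ conjBy A (x⁻¹ * y) = ⊥ := by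
      rcases hmem with ⟨d, hd, he⟩ | he
      · simp only at he
        rw [← he, ← fix_of_bot (bot_comm h.botAD) hd, ← Subgroup.map_inf_eq _ _ _
          (MulAut.conj d).injective, h.inf_bot, Subgroup.map_bot]
      · refine absurd ?_ hne
        calc conjBy A x = conjBy (conjBy A (x⁻¹ * y)) x := by rw [Set.mem_singleton_iff.mp he]
          _ = conjBy A y := by rw [conjBy_conjBy, mul_inv_cancel_left]
    calc conjBy A x ⊓ conjBy A y = conjBy (A ⊓ conjBy A (x⁻¹ * y)) x := by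
          conv_rhs => rw [show conjBy (A ⊓ conjBy A (x⁻¹ * y)) x =
            conjBy A x ⊓ conjBy (conjBy A (x⁻¹ * y)) x from
              Subgroup.map_inf_eq _ _ _ (MulAut.conj x).injective]
          rw [conjBy_conjBy, mul_inv_cancel_left]
      _ = ⊥ := by rw [hbot]; exact Subgroup.map_bot _

theorem centralizer_central :
    ∀ x ∈ (B ⊔ D) ⊓ Subgroup.centralizer ((A ⊔ C : Subgroup G) : Set G), ∀ y ∈ B ⊔ D,
      x * y = y * x := by
  have hfixD : ∀ k ∈ B ⊔ D, (∀ n ∈ A ⊔ C, k * n = n * k) → conjBy D k = D := by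
    intro k hk hcen
    have hkA : conjBy A k = A := fix_of_commute fun a ha => hcen a (Subgroup.mem_sup_left ha)
    have hmem : conjBy D k ∈ unipotentSubgroups B D := by
      rw [← RankOne.unipotent_symm h.pair]
      exact ⟨k, sup_comm B D ▸ hk, rfl⟩
    rcases RankOne.cases_of_mem h.pair hmem with he | ⟨b, hb, he⟩
    · exfalso
      obtain ⟨x₀, hx₀, hA₀, hD₀⟩ := h.exists_conj
      have hAC : A = C := by rw [← hkA, h.conjA_eq hk hx₀ (he.trans hD₀.symm), hA₀]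
      obtain ⟨c, hc, hc1⟩ := ne_one_of_mem_ne_bot (h.root.ne_bot C h.hC)
      exact hc1 (Subgroup.mem_bot.mp (h.inf_bot ▸ ⟨hAC.symm ▸ hc, hc⟩))
    · by_cases hb1 : b = 1
      · rw [he, hb1, conjBy_one]
      exfalso
      have hbA : conjBy A b = A := by
        rw [← h.conjA_eq hk (Subgroup.mem_sup_left hb) he, hkA]
      obtain ⟨a, ha, -, hne⟩ := CommCase.exists_ne_one_left h.commAB h.root hb hb1
      refine hne (Subgroup.mem_bot.mp (h.inf_bot ▸ ⟨?_, h.hAB ▸ Subgroup.commutator_mem_commutator ha hb⟩))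
      rw [commutatorElement_def, show a * b * a⁻¹ * b⁻¹ = a * (b * a⁻¹ * b⁻¹) by group]
      exact mul_mem ha (by simpa [hbA] using conjBy_mem (inv_mem ha) b)
  intro x ⟨hx, hxc⟩ y hy
  have hxc' : ∀ n ∈ A ⊔ C, x * n = n * x := fun n hn =>
    (Subgroup.mem_centralizer_iff.mp hxc n hn).symm
  set X := B ⊔ D
  have hsup : B.subgroupOf X ⊔ D.subgroupOf X = ⊤ := by
    rw [← Subgroup.subgroupOf_sup le_sup_left le_sup_right, Subgroup.subgroupOf_self]
  have hp' := rankOnePair_subgroupOf (K := X) le_sup_left le_sup_right h.pair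
  have hall : ∀ E ∈ unipotentSubgroups (B.subgroupOf X) (D.subgroupOf X),
      conjBy E (⟨x, hx⟩ : X) = E := by
    rw [← RankOne.unipotent_symm hp']
    rintro E ⟨z, -, rfl⟩
    have hk : (z : G)⁻¹ * x * z ∈ X := mul_mem (mul_mem (inv_mem z.2) hx) z.2
    have hfix := hfixD _ hk fun n hn => by
      have hn' := h.conj_mem_module z.2 hn
      calc (z : G)⁻¹ * x * z * n = (z : G)⁻¹ * (x * ((z : G) * n * (z : G)⁻¹)) * z := by group
        _ = (z : G)⁻¹ * ((z : G) * n * (z : G)⁻¹ * x) * z := by rw [hxc' _ hn']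
        _ = n * ((z : G)⁻¹ * x * z) := by group
    rw [conjBy_conjBy, conjBy_subgroupOf, conjBy_subgroupOf]
    congr 1
    show conjBy D (x * (z : G)) = conjBy D (z : G)
    conv_rhs => rw [← hfix]
    rw [conjBy_conjBy]
    group
  exact congrArg Subtype.val (Subgroup.mem_center_iff.mp
    (RankOne.mem_center_of_fix_all hsup hp' hall) ⟨y, hy⟩).symm

end NatModule

end Cfsg.Agent.RootSub
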