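import Cfsg.Agent.RootSub.LineTransitive
import Cfsg.Agent.RootSub.NaturalModule

/-!
# The line graph of a non-degenerate class: connectedness, generation, weak TI subsets
-/

namespace Cfsg.Agent.RootSub

open Cfsg Relation
open scoped commutatorElement

variable {G : Type*} [Group G] {S : Set (Subgroup G)} {A B C D E F P : Subgroup G}

theorem line_symm (hA : A ∈ S) (h : B ∈ linePartners S A) : A ∈ linePartners S B :=
  ⟨⟨hA, h.1.2.1.symm, bot_comm h.1.2.2⟩, sup_comm A B ▸ h.2⟩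

theorem line_conj (hS : IsRootSubgroupSet S) (g : G) (h : B ∈ linePartners S A) :
    conjBy B g ∈ linePartners S (conjBy A g) := by
  refine ⟨⟨hS.conj_mem B h.1.1 g, fun he => h.1.2.1 (conjBy_injective g he),
    (conjBy_bot_iff g).mpr h.1.2.2⟩, ?_, ?_, ?_⟩
  · rintro X ⟨-, hX⟩
    exact hX
  · intro x hx hx1
    rw [← conjBy_sup] at hx ⊢
    obtain ⟨X, hX, hm⟩ := h.2.2.1 (g⁻¹ * x * g) (mem_conjBy.mp hx)
      (fun he => hx1 (conj_eq_one_iff.mp (show g⁻¹ * x * g⁻¹⁻¹ = 1 by rwa [inv_inv])))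
    exact ⟨conjBy X g, ⟨hS.conj_mem X hX.1 g, conjBy_mono hX.2 g⟩, mem_conjBy.mpr hm⟩
  · rintro X ⟨hX, hXle⟩ Y ⟨hY, hYle⟩ hne
    rw [← conjBy_sup] at hXle hYle
    have hX' : conjBy X g⁻¹ ∈ membersIn S (A ⊔ B) :=
      ⟨hS.conj_mem X hX _, (conjBy_mono hXle _).trans (conjBy_inv_cancel _ g).le⟩
    have hY' : conjBy Y g⁻¹ ∈ membersIn S (A ⊔ B) :=
      ⟨hS.conj_mem Y hY _, (conjBy_mono hYle _).trans (conjBy_inv_cancel _ g).le⟩
    have h0 := h.2.2.2 _ hX' _ hY' fun he => hne (conjBy_injective g⁻¹ he)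
    rw [eq_bot_iff]
    intro x hx
    have h1 : g⁻¹ * x * g ∈ conjBy X g⁻¹ ⊓ conjBy Y g⁻¹ :=
      ⟨by simpa using conjBy_mem hx.1 g⁻¹, by simpa using conjBy_mem hx.2 g⁻¹⟩
    rw [h0, Subgroup.mem_bot] at h1
    rw [Subgroup.mem_bot]
    calc x = g * (g⁻¹ * x * g) * g⁻¹ := by group
      _ = 1 := by rw [h1]; group

theorem exists_line (hS : IsRootSubgroupClass S) (hnd : IsNondegenerateRootSet S)
    (hA : A ∈ S) (hB : B ∈ rankOnePartners S A) : ∃ C, C ∈ linePartners S A :=
  let ⟨⟨C, hC, _⟩, _⟩ := nondegenerate_partner hS hnd hA hB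
  ⟨C, hC⟩

/-- Rank one partners are joined by a path of lines. -/
theorem ereach_of_rankOne (hS : IsRootSubgroupSet S) (hpart : ∀ A ∈ S, ∃ P ∈ S, IsRankOnePair A P)
    (hA : A ∈ S) (hB : B ∈ S) (hp : IsRankOnePair A B) (hC : C ∈ linePartners S A) :
    ReflTransGen (EAdj S S) A B := by
  obtain ⟨F, hF, D, hD, hFA, hBF, hDdef, hAD, hval, -⟩ := line_structure hS hpart hA hB hp hC
  obtain ⟨Q, hQ, hDQ⟩ := hpart D hD
  obtain ⟨Q', hQ', hBQ'⟩ := hpart B hB
  have h1 : A ∈ linePartners S F := by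
    obtain ⟨P, hP, hAP⟩ := hpart A hA
    have := (line_of_commCase hS hA hP hAP hD hAD).2.2
    rwa [hval] at this
  have h2 : D ∈ linePartners S F := by
    have := (line_of_commCase hS hD hQ hDQ hA (commCase_symm hAD)).2.2
    rwa [Subgroup.commutator_comm, hval] at this
  have h3 : B ∈ linePartners S D := by
    have := (line_of_commCase hS hB hQ' hBQ' hF hBF).2.2
    rwa [← hDdef] at this
  exact ((ReflTransGen.single ⟨hA, hF, line_symm hF h1⟩).tail ⟨hF, hD, h2⟩).tail ⟨hD, hB, h3⟩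

theorem edge_connected (hS : IsRootSubgroupClass S) (hnd : IsNondegenerateRootSet S) :
    IsConnectedFamily (EAdj S S) S := by
  obtain ⟨A₀, hA₀, B₀, hB₀, hp⟩ := hnd.2.1
  have hpart := partners_of_class hS hA₀ hB₀ hp
  have h2 : ∃ A ∈ S, ∃ B ∈ S, A ≠ B := ⟨A₀, hA₀, B₀, hB₀, hp.ne⟩
  have hF := (connected_iff hS.1 h2).mpr ⟨hS.2, A₀, hA₀,
    (not_isolated_iff hA₀).mpr ⟨B₀, hB₀, hp⟩⟩
  intro A hA B hB
  have hr := hF A hA B hB
  clear hB
  induction hr with
  | refl => exact .refl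
  | @tail P Q _ hPQ ih =>
      obtain ⟨hP, hQ, hq⟩ := hPQ
      obtain ⟨C, hC⟩ := exists_line hS hnd hP ⟨hQ, hq⟩
      exact ih.trans (ereach_of_rankOne hS.1 hpart hP hQ hq hC)

/-- The line partners of A and one rank one partner generate. -/
theorem generated_by_line (hS : IsRootSubgroupClass S) (hnd : IsNondegenerateRootSet S)
    (hA : A ∈ S) (hB : B ∈ rankOnePartners S A) :
    (⨆ C ∈ linePartners S A, C) ⊔ B = ⊤ := by
  have hpart := partners_of_class hS hA hB.1 hB.2
  set N := ⨆ C ∈ linePartners S A, C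
  set M := N ⊔ B
  have hNle : ∀ C ∈ linePartners S A, C ≤ M := fun C hC =>
    (le_iSup₂ (f := fun (C : Subgroup G) (_ : C ∈ linePartners S A) => C) C hC).trans le_sup_left
  -- along a line through A the group M is transitive
  have hline : ∀ C ∈ linePartners S A, ∃ x ∈ M, conjBy A x = C := by
    intro C hC
    obtain ⟨F, hF, V, hV, hFA, hBF, hVdef, hAV, hval, hAF⟩ :=
      line_structure hS.1 hpart hA hB.1 hB.2 hC
    obtain ⟨P, hP, hp⟩ := hpart A hA
    obtain ⟨Q, hQ, hFQ⟩ := hpart F hF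
    have cF := lineCentre_of_commCase hS.1 hA hP hp hV hAV
    rw [hval, hAF] at cF
    have hAline : A ∈ linePartners S F := by
      have := (line_of_commCase hS.1 hA hP hp hV hAV).2.2
      rwa [hval] at this
    have hFline : F ∈ linePartners S A := line_symm hF hAline
    have hVM : V ≤ M := by
      rw [hVdef, Subgroup.commutator_le]
      intro b hb f hf
      have hb' : b ∈ M := Subgroup.mem_sup_right hb
      have hf' : f ∈ M := hNle F hFline hf
      rw [commutatorElement_def]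
      exact mul_mem (mul_mem (mul_mem hb' hf') (inv_mem hb')) (inv_mem hf')
    have hAmem : A ∈ membersIn S (A ⊔ C) := ⟨hA, le_sup_left⟩
    by_cases hCF : C = F
    · -- reach F through a third point
      obtain ⟨Q', hQ', hq'⟩ := hpart F hF
      obtain ⟨A', hA', D, hD, hA'F, -, -, hFD, hvalD, hFA'⟩ :=
        line_structure hS.1 hpart hF hQ' hq' hAline
      -- move the second centre to A
      have c₂ := lineCentre_of_commCase hS.1 hF hQ hFQ hD hFD
      rw [hvalD, hFA', sup_comm, hAF] at c₂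
      obtain ⟨x, hx, hxA', -⟩ := line_two_transitive hS.1 hpart hA hC A' c₂.mem F cF.mem
        A hAmem F cF.mem hA'F hFA.symm
      obtain ⟨a, ha, ha1⟩ := RankOne.exists_ne_one hp
      obtain ⟨v, hv, hv1⟩ := ne_one_of_mem_ne_bot (hS.1.ne_bot V hV)
      have hT : conjBy A v ∈ membersIn S (A ⊔ C) := by
        rw [← hAF, ← hval]
        exact ⟨hS.1.conj_mem A hA v, CommCase.conj_le hAV hv⟩
      have hTA : conjBy A v ≠ A := fun he => by
        have h1 := CommCase.sup_conj hAV hS.1 hv hv1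
        rw [he, sup_idem] at h1
        obtain ⟨f, hf, hf1⟩ := ne_one_of_mem_ne_bot (hS.1.ne_bot F hF)
        exact hf1 (Subgroup.mem_bot.mp (line_disjoint hA hFline ▸
          ⟨h1 ▸ Subgroup.mem_sup_right (hval.symm ▸ hf), hf⟩))
      have hxn : x ∈ Subgroup.normalizer ((A ⊔ C : Subgroup G) : Set G) :=
        (iSup₂_le fun X hX => hX.2 : (⨆ X ∈ normalizingMembers S (A ⊔ C), X) ≤ _) hx
      have hperm : ∀ X ∈ membersIn S (A ⊔ C), conjBy X x⁻¹ ∈ membersIn S (A ⊔ C) := fun X hX =>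
        ⟨hS.1.conj_mem X hX.1 _, (conjBy_mono hX.2 _).trans
          (conjBy_eq_self_iff.mpr (inv_mem hxn)).le⟩
      have hne' : ∀ X : Subgroup G, X ≠ A → conjBy X x⁻¹ ≠ A' := fun X hX he => hX (by
        rw [← hxA', ← he, conjBy_cancel_inv])
      obtain ⟨d₀, hd₀, hd₀e⟩ := c₂.trans _ (hperm F cF.mem) _ (hperm _ hT) (hne' F hFA)
        (hne' _ hTA)
      -- the moved member is a line partner of A
      have hcD : RootCommutatorCase S (conjBy D x) (conjBy F x) :=
        commCase_conj hS.1 hD hF (commCase_symm hFD) x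
      have hDval : ⁅conjBy D x, conjBy F x⁆ = A := by
        rw [← conjBy_commutator, Subgroup.commutator_comm, hvalD, hxA']
      obtain ⟨R, hR, hDR⟩ := hpart _ (hS.1.conj_mem D hD x)
      have hDline := (line_of_commCase hS.1 (hS.1.conj_mem D hD x) hR hDR
        (hS.1.conj_mem F hF x) hcD).2.2
      rw [hDval] at hDline
      refine ⟨(x * d₀ * x⁻¹)⁻¹ * v, mul_mem (inv_mem (hNle _ hDline (conjBy_mem hd₀ x)))
        (hVM hv), ?_⟩
      rw [hCF, ← conjBy_conjBy]
      have h2 : conjBy F (x * d₀ * x⁻¹) = conjBy A v := by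
        rw [← conjBy_conjBy, ← conjBy_conjBy, hd₀e, conjBy_cancel_inv]
      rw [← h2, conjBy_inv_cancel]
    · obtain ⟨v, hv, he⟩ := cF.trans A hAmem C ⟨hC.1.1, le_sup_right⟩ hFA.symm hCF
      exact ⟨v, hVM hv, he⟩
  -- hence M is transitive on S
  have horbit : ∀ E ∈ S, ∃ x ∈ M, conjBy A x = E := by
    intro E hE
    have hr := edge_connected hS hnd A hA E hE
    clear hE
    induction hr with
    | refl => exact ⟨1, one_mem _, conjBy_one A⟩
    | @tail P Q _ hPQ ih =>
        obtain ⟨x, hx, rfl⟩ := ih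
        have h1 := line_conj hS.1 x⁻¹ hPQ.2.2
        rw [conjBy_inv_cancel] at h1
        obtain ⟨y, hy, he⟩ := hline _ h1
        exact ⟨x * y, mul_mem hx hy, by rw [← conjBy_conjBy, he, conjBy_cancel_inv]⟩
  obtain ⟨F, hF⟩ := exists_line hS hnd hA hB
  obtain ⟨x, hx, hxF⟩ := hline F hF
  have hAM : A ≤ M := by
    rw [show A = conjBy F x⁻¹ by rw [← hxF, conjBy_inv_cancel]]
    exact conjBy_le_of_mem (hNle F hF) (inv_mem hx)
  rw [eq_top_iff, ← hS.1.generates]
  refine iSup₂_le fun E hE => ?_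
  obtain ⟨y, hy, rfl⟩ := horbit E hE
  exact conjBy_le_of_mem hAM hy

/-- Weak TI subsets of a non-degenerate class are abelian. -/
theorem weakTI_abelian (hS : IsRootSubgroupClass S) (hnd : IsNondegenerateRootSet S)
    {Δ : Set (Subgroup G)} (hΔ : IsWeakTISubset S Δ) : IsAbelianFamily Δ := by
  obtain ⟨hsub, -, hneS, hTI⟩ := hΔ
  let K : Subgroup G :=
    { carrier := {g | (fun X => conjBy X g) '' Δ = Δ}
      one_mem' := by simp [conjBy_one]
      mul_mem' := fun {x y} hx hy => by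
        show (fun X => conjBy X (x * y)) '' Δ = Δ
        conv_rhs => rw [← show (fun X => conjBy X x) '' Δ = Δ from hx,
          ← show (fun X => conjBy X y) '' Δ = Δ from hy, Set.image_image]
        exact Set.image_congr fun X _ => (conjBy_conjBy X x y).symm
      inv_mem' := fun {x} hx => by
        show (fun X => conjBy X x⁻¹) '' Δ = Δ
        conv_lhs => rw [← show (fun X => conjBy X x) '' Δ = Δ from hx, Set.image_image]
        simp [conjBy_inv_cancel] }
  -- a member commuting with a member of Δ stabilises Δ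
  have hfix : ∀ X ∈ Δ, ∀ E ∈ S, ⁅X, E⁆ = ⊥ → E ≤ K := by
    intro X hX E hE hbot e he
    by_cases he1 : e = 1
    · rw [he1]; exact one_mem K
    refine (hTI e ⟨he1, E, hE, he⟩).resolve_right fun hdis => ?_
    have hmem : X ∈ (fun X => conjBy X e) '' Δ :=
      ⟨X, hX, fix_of_bot (bot_comm hbot) he⟩
    exact Set.disjoint_left.mp hdis hmem hX
  -- so no rank one pair generates with stabilising lines
  have hkey : ∀ X ∈ Δ, ∀ B ∈ rankOnePartners S X, B ≤ K → False := by
    intro X hX B hB hBK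
    have hgen := generated_by_line hS hnd (hsub hX) hB
    have htop : K = ⊤ := top_le_iff.mp (hgen ▸ sup_le
      (iSup₂_le fun C hC => hfix X hX C hC.1.1 hC.1.2.2) hBK)
    refine hneS (Set.Subset.antisymm hsub fun E hE => ?_)
    obtain ⟨g, rfl⟩ := hS.2.2 X (hsub hX) E hE
    have hg : g ∈ K := htop ▸ Subgroup.mem_top g
    exact (show (fun X => conjBy X g) '' Δ = Δ from hg) ▸ ⟨X, hX, rfl⟩
  intro X hX Y hY a ha b hb
  rcases hS.1.pair X (hsub hX) Y (hsub hY) with h | h | h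
  · exact commute_of_bot h ha hb
  · exact (hkey X hX Y ⟨hsub hY, h⟩ (hfix Y hY Y (hsub hY) (bot_self hS.1 (hsub hY)))).elim
  · exfalso
    -- find a line partner of Y opposite to X
    obtain ⟨A₀, hA₀, B₀, hB₀, hp⟩ := hnd.2.1
    have hpart := partners_of_class hS hA₀ hB₀ hp
    have hc := commCase_symm h
    obtain ⟨Q, hQ, hYQ⟩ := hpart Y (hsub hY)
    set Z := ⁅Y, X⁆ with hZdef
    have hZ : Z ∈ S := hc.1
    obtain ⟨-, -, hYline⟩ := line_of_commCase hS.1 (hsub hY) hQ hYQ (hsub hX) hc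
    rw [← hZdef] at hYline
    have hline := line_symm hZ hYline
    obtain ⟨F, hF, D₀, hD₀, hFY, -, -, hYD, hval, hYF⟩ :=
      line_structure hS.1 hpart (hsub hY) hQ hYQ hline
    obtain ⟨g, -, hgF, hgY⟩ := line_two_transitive hS.1 hpart (hsub hY) hline
      F ⟨hF, hYF ▸ le_sup_right⟩ Y ⟨hsub hY, le_sup_left⟩
      Y ⟨hsub hY, le_sup_left⟩ Z ⟨hZ, le_sup_right⟩ hFY hline.1.2.1.symm
    set D := conjBy D₀ g
    have hD : D ∈ S := hS.1.conj_mem D₀ hD₀ g
    have hDZ : ⁅D, Z⁆ = Y := by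
      rw [← hgY, ← conjBy_commutator, Subgroup.commutator_comm, hval, hgF]
    have hN : NatModule S Y X Z D := ⟨hS.1, hsub hY, hsub hX, hZ, hD, hZdef.symm, hDZ⟩
    exact hkey X hX D ⟨hD, hN.pair⟩ (hfix Y hY D hD hN.botAD)

end Cfsg.Agent.RootSub
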