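import Cfsg.Agent.RootSub.Component

/-!
# The normalising members act doubly transitively on a line
-/

namespace Cfsg.Agent.RootSub

open Cfsg
open scoped commutatorElement

variable {G : Type*} [Group G] {S : Set (Subgroup G)} {A B D F P : Subgroup G}

/-- A member D normalising L that fixes F and moves the other members of L transitively. -/
structure LineCentre (S : Set (Subgroup G)) (L : Subgroup G) (F D : Subgroup G) : Prop where
  mem : F ∈ membersIn S L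
  norm : D ∈ normalizingMembers S L
  fix : ∀ d ∈ D, conjBy F d = F
  trans : ∀ X ∈ membersIn S L, ∀ Y ∈ membersIn S L, X ≠ F → Y ≠ F → ∃ d ∈ D, conjBy X d = Y

theorem lineCentre_of_commCase (hS : IsRootSubgroupSet S) (hA : A ∈ S) (hP : P ∈ S)
    (hp : IsRankOnePair A P) (hD : D ∈ S) (h : RootCommutatorCase S A D) :
    LineCentre S (A ⊔ ⁅A, D⁆) ⁅A, D⁆ D := by
  obtain ⟨heq, -, -⟩ := line_of_commCase hS hA hP hp hD h
  have hfix : ∀ d ∈ D, conjBy ⁅A, D⁆ d = ⁅A, D⁆ := fun d hd =>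
    fix_of_bot (bot_comm (CommCase.value_bot_right h)) hd
  have hle : ∀ d ∈ D, conjBy (A ⊔ ⁅A, D⁆) d ≤ A ⊔ ⁅A, D⁆ := fun d hd => by
    rw [conjBy_sup, hfix d hd]
    exact sup_le (CommCase.conj_le h hd) le_sup_right
  refine ⟨⟨h.1, le_sup_right⟩, ⟨hD, fun d hd => ?_⟩, hfix, ?_⟩
  · rw [← conjBy_eq_self_iff]
    refine le_antisymm (hle d hd) ?_
    calc A ⊔ ⁅A, D⁆ = conjBy (conjBy (A ⊔ ⁅A, D⁆) d⁻¹) d := (conjBy_cancel_inv _ _).symm
      _ ≤ conjBy (A ⊔ ⁅A, D⁆) d := conjBy_mono (hle _ (inv_mem hd)) d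
  · intro X hX Y hY hXF hYF
    rw [heq] at hX hY
    rcases hX with ⟨b, hb, rfl⟩ | hX
    · rcases hY with ⟨b', hb', rfl⟩ | hY
      · exact ⟨b' * b⁻¹, mul_mem hb' (inv_mem hb), by rw [conjBy_conjBy, inv_mul_cancel_right]⟩
      · exact absurd hY hYF
    · exact absurd hX hXF

theorem line_two_transitive (hS : IsRootSubgroupSet S)
    (hpart : ∀ A ∈ S, ∃ P ∈ S, IsRankOnePair A P) (hA : A ∈ S) (hB : B ∈ linePartners S A) :
    ∀ C₁ ∈ membersIn S (A ⊔ B), ∀ C₂ ∈ membersIn S (A ⊔ B), ∀ D₁ ∈ membersIn S (A ⊔ B),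
      ∀ D₂ ∈ membersIn S (A ⊔ B), C₁ ≠ C₂ → D₁ ≠ D₂ →
        ∃ x ∈ ⨆ E ∈ normalizingMembers S (A ⊔ B), E, conjBy C₁ x = D₁ ∧ conjBy C₂ x = D₂ := by
  obtain ⟨P, hP, hp⟩ := hpart A hA
  obtain ⟨F, hF, D, hD, hFA, -, -, hAD, hval, hAF⟩ := line_structure hS hpart hA hP hp hB
  obtain ⟨Q, hQ, hFQ⟩ := hpart F hF
  obtain ⟨-, -, hFline⟩ := line_of_commCase hS hA hP hp hD hAD
  rw [hval] at hFline
  obtain ⟨F', hF', D', hD', hF'F, -, -, hFD', hval', hFF'⟩ :=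
    line_structure hS hpart hF hQ hFQ hFline
  have c₁ := lineCentre_of_commCase hS hA hP hp hD hAD
  rw [hval, hAF] at c₁
  have c₂ := lineCentre_of_commCase hS hF hQ hFQ hD' hFD'
  rw [hval', hFF', sup_comm, hAF] at c₂
  set L := A ⊔ B
  set K := ⨆ E ∈ normalizingMembers S L, E
  have hKD : ∀ {F D : Subgroup G}, LineCentre S L F D → D ≤ K := fun {F D} c =>
    le_iSup₂ (f := fun (E : Subgroup G) (_ : E ∈ normalizingMembers S L) => E) D c.norm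
  have hKN : K ≤ Subgroup.normalizer (L : Set G) := iSup₂_le fun E hE => hE.2
  have hperm : ∀ k ∈ K, ∀ X ∈ membersIn S L, conjBy X k ∈ membersIn S L := fun k hk X hX =>
    ⟨hS.conj_mem X hX.1 k, (conjBy_mono hX.2 k).trans (conjBy_eq_self_iff.mpr (hKN hk)).le⟩
  -- a third member
  obtain ⟨d, hd, hd1⟩ := ne_one_of_mem_ne_bot (hS.ne_bot D hD)
  have hdA : conjBy A d ≠ A := fun he => by
    obtain ⟨f, hf, hf1⟩ := ne_one_of_mem_ne_bot (hS.ne_bot F hF)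
    have hfA : f ∈ A := by
      have : f ∈ A ⊔ ⁅A, D⁆ := Subgroup.mem_sup_right (hval.symm ▸ hf)
      rwa [← CommCase.sup_conj hAD hS hd hd1, he, sup_idem] at this
    exact hf1 (Subgroup.mem_bot.mp (inf_eq_bot_of_partner hS hP hF hp hFA.symm ▸ ⟨hfA, hf⟩))
  have hdF : conjBy A d ≠ F := fun he => hFA (by
    have := congrArg (fun X : Subgroup G => conjBy X d⁻¹) he
    simp only [conjBy_inv_cancel] at this
    rw [this, fix_of_bot (bot_comm (hval ▸ CommCase.value_bot_right hAD)) (inv_mem hd)])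
  have hAmem : A ∈ membersIn S L := ⟨hA, le_sup_left⟩
  have hAdmem : conjBy A d ∈ membersIn S L := hperm d (hKD c₁ hd) A hAmem
  obtain ⟨T, hT, hTF, hTF'⟩ : ∃ T ∈ membersIn S L, T ≠ F ∧ T ≠ F' := by
    by_cases h : A = F'
    · exact ⟨_, hAdmem, hdF, h ▸ hdA⟩
    · exact ⟨A, hAmem, hFA.symm, h⟩
  -- transitivity
  have htrans : ∀ X ∈ membersIn S L, ∃ k ∈ K, conjBy F k = X := by
    intro X hX
    obtain ⟨k, hk, hkT⟩ := c₂.trans F c₁.mem T hT (Ne.symm hF'F) hTF'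
    by_cases hXF : X = F
    · exact ⟨1, one_mem _, by rw [conjBy_one, hXF]⟩
    obtain ⟨e, he, heX⟩ := c₁.trans T hT X hX hTF hXF
    exact ⟨e * k, mul_mem (hKD c₁ he) (hKD c₂ hk), by rw [← conjBy_conjBy, hkT, heX]⟩
  intro C₁ hC₁ C₂ hC₂ D₁ hD₁ D₂ hD₂ hC hD₁₂
  obtain ⟨k₁, hk₁, h₁⟩ := htrans C₁ hC₁
  obtain ⟨k₂, hk₂, h₂⟩ := htrans D₁ hD₁
  -- pull both pairs to F
  have hX : conjBy C₂ k₁⁻¹ ≠ F := fun he => hC (by
    rw [← h₁, ← he, conjBy_cancel_inv])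
  have hY : conjBy D₂ k₂⁻¹ ≠ F := fun he => hD₁₂ (by
    rw [← h₂, ← he, conjBy_cancel_inv])
  obtain ⟨e, he, heq⟩ := c₁.trans _ (hperm _ (inv_mem hk₁) C₂ hC₂) _
    (hperm _ (inv_mem hk₂) D₂ hD₂) hX hY
  refine ⟨k₂ * e * k₁⁻¹, mul_mem (mul_mem hk₂ (hKD c₁ he)) (inv_mem hk₁), ?_, ?_⟩
  · rw [← conjBy_conjBy, ← h₁, conjBy_inv_cancel, ← conjBy_conjBy, c₁.fix e he, h₂]
  · rw [← conjBy_conjBy, ← conjBy_conjBy, heq, conjBy_cancel_inv]

end Cfsg.Agent.RootSub
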