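import Cfsg.Agent.RootSub.Line

/-!
# The members inside A ⁅A, B⁆, lines, components of the rank one graph
-/

namespace Cfsg.Agent.RootSub

open Cfsg
open scoped commutatorElement

variable {G : Type*} [Group G] {S : Set (Subgroup G)} {A B C D E F P : Subgroup G}

theorem commCase_conj (hS : IsRootSubgroupSet S) (hA : A ∈ S) (hB : B ∈ S)
    (h : RootCommutatorCase S A B) (g : G) :
    RootCommutatorCase S (conjBy A g) (conjBy B g) :=
  commCase_of_mem hS (hS.conj_mem A hA g) (hS.conj_mem B hB g)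
    (by rw [← conjBy_commutator]; exact hS.conj_mem _ h.1 g)

namespace CommCase

variable (h : RootCommutatorCase S A B)
include h

theorem mem_sup_cases {x : G} (hx : x ∈ A ⊔ ⁅A, B⁆) : ∃ a ∈ A, ∃ c ∈ ⁅A, B⁆, a * c = x :=
  mem_sup_of_comm (fun c hc a ha => commCase_central_left h hc ha) hx

theorem conj_le {b : G} (hb : b ∈ B) : conjBy A b ≤ A ⊔ ⁅A, B⁆ := by
  intro x hx
  have hx' := mem_conjBy.mp hx
  rw [show x = ⁅b, b⁻¹ * x * b⁆ * (b⁻¹ * x * b) by simp [commutatorElement_def]; group]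
  refine mul_mem (Subgroup.mem_sup_right ?_) (Subgroup.mem_sup_left hx')
  rw [Subgroup.commutator_comm]
  exact Subgroup.commutator_mem_commutator hb hx'

theorem cover (hS : IsRootSubgroupSet S) {x : G} (hx : x ∈ A ⊔ ⁅A, B⁆) :
    x ∈ ⁅A, B⁆ ∨ ∃ b ∈ B, x ∈ conjBy A b := by
  obtain ⟨a, ha, c, hc, rfl⟩ := mem_sup_cases h hx
  by_cases ha1 : a = 1
  · left; rw [ha1, one_mul]; exact hc
  right
  obtain ⟨b, hb, he⟩ := exists_right h ha ha1 (inv_mem hc)
  refine ⟨b, hb, ?_⟩
  have : a * c = b * a * b⁻¹ := by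
    rw [commCase_central_left h hc ha |>.symm, show c = ⁅a, b⁆⁻¹ by rw [he, inv_inv]]
    simp [commutatorElement_def]
    group
  rw [this]
  exact conjBy_mem ha b

theorem sup_conj (hS : IsRootSubgroupSet S) {b : G} (hb : b ∈ B) (hb1 : b ≠ 1) :
    A ⊔ conjBy A b = A ⊔ ⁅A, B⁆ := by
  refine le_antisymm (sup_le le_sup_left (conj_le h hb)) (sup_le le_sup_left ?_)
  rw [← h.2.2.2 b hb hb1, Subgroup.closure_le]
  rintro _ ⟨a, ha, rfl⟩
  show a * b * a⁻¹ * b⁻¹ ∈ _
  rw [show a * b * a⁻¹ * b⁻¹ = a * (b * a⁻¹ * b⁻¹) by group]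
  exact mul_mem (Subgroup.mem_sup_left ha) (Subgroup.mem_sup_right (conjBy_mem (inv_mem ha) b))

end CommCase

/-- The members inside A ⁅A, B⁆, when A has a rank one partner. -/
theorem line_of_commCase (hS : IsRootSubgroupSet S) (hA : A ∈ S) (hP : P ∈ S)
    (hp : IsRankOnePair A P) (hB : B ∈ S) (h : RootCommutatorCase S A B) :
    membersIn S (A ⊔ ⁅A, B⁆) = (fun b : G => conjBy A b) '' (B : Set G) ∪ {⁅A, B⁆} ∧
    IsSubgroupPartition (A ⊔ ⁅A, B⁆) (membersIn S (A ⊔ ⁅A, B⁆)) ∧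
    A ∈ linePartners S ⁅A, B⁆ := by
  set C := ⁅A, B⁆ with hCdef
  have hpb : ∀ b : G, IsRankOnePair (conjBy A b) (conjBy P b) := RankOne.conj_pair hp
  have hmem : ∀ E ∈ membersIn S (A ⊔ C), E = C ∨ ∃ b ∈ B, E = conjBy A b := by
    rintro E ⟨hE, hle⟩
    by_contra hcon
    push Not at hcon
    have hinC : E ≤ C := by
      intro e he
      rcases CommCase.cover h hS (hle he) with hc | ⟨b, hb, hm⟩
      · exact hc
      · by_contra hne
        have he1 : e ≠ 1 := fun h' => hne (h' ▸ one_mem _)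
        have hi := inf_eq_bot_of_partner hS (hS.conj_mem P hP b) hE (hpb b)
          (Ne.symm (hcon.2 b hb))
        exact he1 (Subgroup.mem_bot.mp (hi ▸ ⟨hm, he⟩))
    -- P is in the commutator case with C and with E, with the same value
    obtain ⟨e, he, he1⟩ := ne_one_of_mem_ne_bot (hS.ne_bot E hE)
    have hnotz : ¬ ∀ y ∈ P, e * y = y * e := by
      intro hey
      obtain ⟨a, ha, ha1⟩ := RankOne.exists_ne_one hp
      obtain ⟨b, hb, hab⟩ := CommCase.exists_right h ha ha1 (inv_mem (hinC he))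
      refine mul_not_mem_rootElements hS hP hp (z := e)
        (fun x hx => commCase_central_left h (hinC he) hx) hey he1 ha ha1 ?_
      have : e * a = b * a * b⁻¹ := by
        rw [show e = ⁅a, b⁆⁻¹ by rw [hab, inv_inv]]
        simp [commutatorElement_def]
        group
      rw [this]
      exact ⟨fun h' => ha1 (conj_eq_one_iff.mp h'), conjBy A b, hS.conj_mem A hA b, conjBy_mem ha b⟩
    have hEC : ⁅C, A⁆ = ⊥ := CommCase.value_bot_left h
    rcases hS.pair C h.1 P hP with hb' | hr | hc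
    · exact hnotz fun y hy => commute_of_bot hb' (hinC he) hy
    · have hi := inf_eq_bot_of_partner hS hP hE hr (Ne.symm hcon.1)
      exact he1 (Subgroup.mem_bot.mp (hi ▸ ⟨hinC he, he⟩))
    · rcases hS.pair E hE P hP with hb' | hr' | hc'
      · exact hnotz fun y hy => commute_of_bot hb' he hy
      · have hi := inf_eq_bot_of_partner hS hP h.1 hr' hcon.1
        exact he1 (Subgroup.mem_bot.mp (hi ▸ ⟨he, hinC he⟩))
      · -- no element of C commutes with an element of P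
        have hinj : ∀ c ∈ C, c ≠ 1 → ∀ p ∈ P, p ≠ 1 → ⁅c, p⁆ ≠ 1 := by
          intro c hcC hc1 p hpP hp1 he'
          have hcp : ∀ z ∈ A ⊔ P, c * z = z * c := by
            have hcA : ∀ z ∈ A, c * z = z * c := fun z hz => commute_of_bot hEC hcC hz
            refine RankOne.centralize_of_two hp (self_mem_unipotent A P)
              (C := A) (D := conjBy A p) (conjBy_mem_unipotent (Subgroup.mem_sup_right hpP)
                (self_mem_unipotent A P)) (fun h' => hp1
                  (RankOne.eq_one_of_fix (RankOnePair_symm hp) hpP h'.symm)) hcA ?_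
            intro z hz
            have h1 : Commute c p := commutatorElement_eq_one_iff_mul_comm.mp he'
            have h2 : Commute c (p⁻¹ * z * p) := hcA _ (mem_conjBy.mp hz)
            have := (h1.mul_right h2).mul_right h1.inv_right
            simpa [mul_assoc] using this.eq
          obtain ⟨p', hp', -, hne⟩ := CommCase.exists_ne_one_right hc hS hcC hc1
          exact hne (commutatorElement_eq_one_iff_mul_comm.mpr
            (hcp p' (Subgroup.mem_sup_right hp')))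
        obtain ⟨p, hpP, hp1⟩ := RankOne.exists_ne_one (RankOnePair_symm hp)
        obtain ⟨c₀, hc₀, hne0⟩ : ∃ c₀ ∈ C, c₀ ∉ E := by
          by_contra hall
          push Not at hall
          exact hcon.1 (le_antisymm hinC hall)
        have hK : ⁅E, P⁆ = ⁅C, P⁆ := by
          refine le_antisymm (Subgroup.commutator_mono hinC le_rfl) ?_
          rw [← hc.2.2.1 e (hinC he) he1, ← hc'.2.2.1 e he he1]
        obtain ⟨e', he', hee⟩ := CommCase.exists_left hc' hpP hp1
          (hK.symm ▸ Subgroup.commutator_mem_commutator hc₀ hpP)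
        refine hne0 ?_
        suffices e'⁻¹ * c₀ = 1 by rw [← inv_mul_eq_one.mp this]; exact he'
        by_contra hne
        refine hinj _ (mul_mem (inv_mem (hinC he')) hc₀) hne p hpP hp1 ?_
        have h1 := CommCase.mul_left hc (inv_mem (hinC he')) hc₀ hpP
        have h2 : ⁅e'⁻¹, p⁆ = ⁅e', p⁆⁻¹ := by
          refine eq_inv_of_mul_eq_one_right ?_
          rw [← CommCase.mul_left hc (inv_mem (hinC he')) (hinC he') hpP, inv_mul_cancel,
            commutatorElement_one_left]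
        rw [h1, h2, hee, mul_inv_cancel]
  have heq : membersIn S (A ⊔ C) = (fun b : G => conjBy A b) '' (B : Set G) ∪ {C} := by
    ext E
    constructor
    · intro hE
      rcases hmem E hE with rfl | ⟨b, hb, rfl⟩
      · exact Or.inr rfl
      · exact Or.inl ⟨b, hb, rfl⟩
    · rintro (⟨b, hb, rfl⟩ | rfl)
      · exact ⟨hS.conj_mem A hA b, CommCase.conj_le h hb⟩
      · exact ⟨h.1, le_sup_right⟩
  have hpart : IsSubgroupPartition (A ⊔ C) (membersIn S (A ⊔ C)) := by
    refine ⟨fun E hE => hE.2, fun x hx _ => ?_, fun E hE F hF hne => ?_⟩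
    · rcases CommCase.cover h hS hx with hc | ⟨b, hb, hm⟩
      · exact ⟨C, ⟨h.1, le_sup_right⟩, hc⟩
      · exact ⟨conjBy A b, ⟨hS.conj_mem A hA b, CommCase.conj_le h hb⟩, hm⟩
    · rcases hmem E hE with rfl | ⟨b, -, rfl⟩
      · rcases hmem F hF with rfl | ⟨b, -, rfl⟩
        · exact absurd rfl hne
        · rw [inf_comm]
          exact inf_eq_bot_of_partner hS (hS.conj_mem P hP b) h.1 (hpb b) hne.symm
      · exact inf_eq_bot_of_partner hS (hS.conj_mem P hP b) hF.1 (hpb b) hne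
  refine ⟨heq, hpart, ⟨⟨hA, CommCase.left_ne_value h hS, CommCase.value_bot_left h⟩, ?_⟩⟩
  rw [sup_comm]
  exact hpart

/-! ### Lines -/

/-- Elements of a line are root elements. -/
theorem line_root (hB : B ∈ linePartners S A) {x : G} (hx : x ∈ A ⊔ B) (hx1 : x ≠ 1) :
    ∃ E ∈ membersIn S (A ⊔ B), x ∈ E := hB.2.2.1 x hx hx1

theorem line_disjoint (hA : A ∈ S) (hB : B ∈ linePartners S A) : A ⊓ B = ⊥ :=
  hB.2.2.2 A ⟨hA, le_sup_left⟩ B ⟨hB.1.1, le_sup_right⟩ hB.1.2.1.symm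

theorem line_comm (hS : IsRootSubgroupSet S) (hA : A ∈ S) (hB : B ∈ linePartners S A) :
    ∀ x ∈ A ⊔ B, ∀ y ∈ A ⊔ B, x * y = y * x := by
  intro x hx
  refine sup_le_centralizer (z := x) (fun a ha => ?_) (fun b hb => ?_)
  · exact (sup_le_centralizer (z := a) (fun a' ha' => IsRootSubgroupSet.commute_self hS hA ha ha')
      (fun b hb => commute_of_bot hB.1.2.2 ha hb) x hx).symm
  · exact (sup_le_centralizer (z := b) (fun a ha => (commute_of_bot hB.1.2.2 ha hb).symm)
      (fun b' hb' => IsRootSubgroupSet.commute_self hS hB.1.1 hb hb') x hx).symm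

/-- A line partner of A does not commute with a rank one partner of A. -/
theorem line_not_bot (hS : IsRootSubgroupSet S) (hA : A ∈ S) (hP : P ∈ S)
    (hp : IsRankOnePair A P) (hB : B ∈ linePartners S A) : ⁅B, P⁆ ≠ ⊥ := by
  intro hbot
  obtain ⟨b, hb, hb1⟩ := ne_one_of_mem_ne_bot (hS.ne_bot B hB.1.1)
  obtain ⟨a, ha, ha1⟩ := RankOne.exists_ne_one hp
  have hne : b * a ≠ 1 := by
    intro he
    have : a ∈ B := by rw [eq_inv_of_mul_eq_one_right he]; exact inv_mem hb
    exact ha1 (Subgroup.mem_bot.mp (line_disjoint hA hB ▸ ⟨ha, this⟩))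
  obtain ⟨E, hE, hmem⟩ := line_root hB (mul_mem (Subgroup.mem_sup_right hb)
    (Subgroup.mem_sup_left ha)) hne
  exact mul_not_mem_rootElements hS hP hp (z := b)
    (fun x hx => (commute_of_bot hB.1.2.2 hx hb).symm) (fun x hx => commute_of_bot hbot hb hx)
    hb1 ha ha1 ⟨hne, E, hE.1, hmem⟩

/-- Every line through A is of commutator type, for every rank one partner of A. -/
theorem line_structure (hS : IsRootSubgroupSet S) (hpart : ∀ A ∈ S, ∃ P ∈ S, IsRankOnePair A P)
    (hA : A ∈ S) (hP : P ∈ S) (hp : IsRankOnePair A P) (hB : B ∈ linePartners S A) :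
    ∃ F ∈ S, ∃ D ∈ S, F ≠ A ∧ RootCommutatorCase S P F ∧ D = ⁅P, F⁆ ∧
      RootCommutatorCase S A D ∧ ⁅A, D⁆ = F ∧ A ⊔ F = A ⊔ B := by
  obtain ⟨F, hF, hFle, hPF⟩ :
      ∃ F ∈ S, F ≤ A ⊔ B ∧ RootCommutatorCase S P F := by
    rcases hS.pair B hB.1.1 P hP with h | h | h
    · exact absurd h (line_not_bot hS hA hP hp hB)
    · obtain ⟨a, ha, ha1, c, hc, hc1, F, hF, hf, hFP⟩ := exists_sum_commCase hS hA hP hB.1.1 hp
        hB.1.2.2 h (fun a ha ha1 c hc _ => by
          have hne : a * c ≠ 1 := fun he => ha1 (Subgroup.mem_bot.mp (line_disjoint hA hB ▸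
            ⟨ha, (eq_inv_of_mul_eq_one_left he).symm ▸ Subgroup.inv_mem _ hc⟩))
          obtain ⟨E, hE, hm⟩ := line_root hB (mul_mem (Subgroup.mem_sup_left ha)
            (Subgroup.mem_sup_right hc)) hne
          exact ⟨hne, E, hE.1, hm⟩)
      have hf1 : a * c ≠ 1 := fun he => ha1 (Subgroup.mem_bot.mp (line_disjoint hA hB ▸
        ⟨ha, (eq_inv_of_mul_eq_one_left he).symm ▸ Subgroup.inv_mem _ hc⟩))
      obtain ⟨E, hE, hm⟩ := line_root hB (mul_mem (Subgroup.mem_sup_left ha)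
        (Subgroup.mem_sup_right hc)) hf1
      obtain ⟨Q, hQ, hFQ⟩ := hpart F hF
      refine ⟨F, hF, ?_, commCase_symm hFP⟩
      by_contra hle
      have hne : F ≠ E := fun he => hle (he ▸ hE.2)
      exact hf1 (Subgroup.mem_bot.mp (inf_eq_bot_of_partner hS hQ hE.1 hFQ hne ▸ ⟨hf, hm⟩))
    · exact ⟨B, hB.1.1, le_sup_right, commCase_symm h⟩
  have hFA : F ≠ A := fun he => not_commCase_of_rankOne (RankOnePair_symm hp) (he ▸ hPF)
  have hAF : ⁅A, F⁆ = ⊥ := bot_of_commute fun x hx y hy =>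
    line_comm hS hA hB x (Subgroup.mem_sup_left hx) y (hFle hy)
  have hdis : A ⊓ F = ⊥ := inf_eq_bot_of_partner hS hP hF hp hFA.symm
  obtain ⟨a₀, ha₀, ha₀1⟩ := RankOne.exists_ne_one hp
  obtain ⟨hAD, hval⟩ := value_fix hS hpart hA hP hF hp hAF hPF (fun c hc _ => by
    have hne : a₀ * c ≠ 1 := fun he => ha₀1 (Subgroup.mem_bot.mp (hdis ▸
      ⟨ha₀, (eq_inv_of_mul_eq_one_left he).symm ▸ Subgroup.inv_mem _ hc⟩))
    obtain ⟨E, hE, hm⟩ := line_root hB (mul_mem (Subgroup.mem_sup_left ha₀) (hFle hc)) hne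
    exact ⟨a₀, ha₀, ha₀1, hne, E, hE.1, hm⟩)
  refine ⟨F, hF, ⁅P, F⁆, hPF.1, hFA, hPF, rfl, hAD, hval, ?_⟩
  refine le_antisymm (sup_le le_sup_left hFle) (sup_le le_sup_left ?_)
  obtain ⟨heq, hpar, -⟩ := line_of_commCase hS hA hP hp hPF.1 hAD
  rw [hval] at heq hpar
  -- a non-identity element of B lies in A F
  obtain ⟨E, hE, hEne⟩ : ∃ E ∈ membersIn S (A ⊔ F), ∃ x ∈ B, x ∈ E ∧ x ≠ 1 := by
    obtain ⟨f, hf, hf1⟩ := ne_one_of_mem_ne_bot (hS.ne_bot F hF)
    obtain ⟨a, ha, c, hc, he⟩ := mem_sup_of_comm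
      (fun v hv u hu => (commute_of_bot hB.1.2.2 hu hv).symm) (hFle hf)
    have hc1 : c ≠ 1 := fun h => hf1 (Subgroup.mem_bot.mp (hdis ▸
      ⟨by rw [← he, h, mul_one]; exact ha, hf⟩))
    have hcmem : c ∈ A ⊔ F := by
      rw [show c = a⁻¹ * f by rw [← he, inv_mul_cancel_left]]
      exact mul_mem (Subgroup.mem_sup_left (inv_mem ha)) (Subgroup.mem_sup_right hf)
    obtain ⟨E, hE, hm⟩ := hpar.2.1 c hcmem hc1
    exact ⟨E, hE, c, hc, hm, hc1⟩
  obtain ⟨x, hxB, hxE, hx1⟩ := hEne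
  obtain ⟨Q, hQ, hEQ⟩ := hpart E hE.1
  have : E = B := by
    by_contra hne
    exact hx1 (Subgroup.mem_bot.mp (inf_eq_bot_of_partner hS hQ hB.1.1 hEQ hne ▸ ⟨hxE, hxB⟩))
  exact this ▸ hE.2

end Cfsg.Agent.RootSub
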