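import Cfsg.Agent.RootSub.Basic

/-!
# Unipotent groups of linear maps, and a theorem of Baer type

A conjugation closed family of subgroups of GL(M), any two of which generate a group acting
unipotently, generates a group acting unipotently (M of finite dimension).
-/

namespace Cfsg.Agent.RootSub

open Cfsg
open LinearMap (GeneralLinearGroup)

variable {k : Type*} [Field k] {M : Type*} [AddCommGroup M] [Module k M]

/-- The subspace spanned by the g - 1, g in H. -/
def augSpan (H : Subgroup (GeneralLinearGroup k M)) : Submodule k (Module.End k M) :=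
  Submodule.span k ((fun g : GeneralLinearGroup k M => (g : Module.End k M) - 1) '' (H : Set (GeneralLinearGroup k M)))

theorem sub_one_mem_augSpan {H : Subgroup (GeneralLinearGroup k M)} {g : GeneralLinearGroup k M}
    (hg : g ∈ H) : (g : Module.End k M) - 1 ∈ augSpan H :=
  Submodule.subset_span ⟨g, hg, rfl⟩

theorem augSpan_mono {H K : Subgroup (GeneralLinearGroup k M)} (h : H ≤ K) :
    augSpan H ≤ augSpan K :=
  Submodule.span_mono (Set.image_mono h)

theorem augSpan_mul {H : Subgroup (GeneralLinearGroup k M)} {a b : Module.End k M}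
    (ha : a ∈ augSpan H) (hb : b ∈ augSpan H) : a * b ∈ augSpan H := by
  induction ha using Submodule.span_induction with
  | mem x hx =>
    obtain ⟨g, hg, rfl⟩ := hx
    induction hb using Submodule.span_induction with
    | mem y hy =>
      obtain ⟨h, hh, rfl⟩ := hy
      have e : ((g : Module.End k M) - 1) * ((h : Module.End k M) - 1) =
          ((g * h : GeneralLinearGroup k M) : Module.End k M) - 1 - ((g : Module.End k M) - 1)
            - ((h : Module.End k M) - 1) := by
        rw [Units.val_mul]; noncomm_ring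
      simp only [e]
      exact Submodule.sub_mem _ (Submodule.sub_mem _ (sub_one_mem_augSpan (mul_mem hg hh))
        (sub_one_mem_augSpan hg)) (sub_one_mem_augSpan hh)
    | zero => rw [mul_zero]; exact Submodule.zero_mem _
    | add y z _ _ hy hz => rw [mul_add]; exact Submodule.add_mem _ hy hz
    | smul c y _ hy => rw [mul_smul_comm]; exact Submodule.smul_mem _ c hy
  | zero => rw [zero_mul]; exact Submodule.zero_mem _
  | add y z _ _ hy hz => rw [add_mul]; exact Submodule.add_mem _ hy hz
  | smul c y _ hy => rw [smul_mul_assoc]; exact Submodule.smul_mem _ c hy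

theorem isUnipotentOn_iff {H : Subgroup (GeneralLinearGroup k M)} :
    IsUnipotentOn H ↔ ∃ n : ℕ, ∀ l : List (GeneralLinearGroup k M), (∀ g ∈ l, g ∈ H) →
      l.length = n → (l.map fun g : GeneralLinearGroup k M => (g : Module.End k M) - 1).prod = 0 := by
  simp [IsUnipotentOn, List.map_eq_flatMap, List.flatMap_assoc]

/-- The descending series V, SV, S²V, … -/
def augSeries (S : Submodule k (Module.End k M)) : ℕ → Submodule k M
  | 0 => ⊤
  | n + 1 => ⨆ s ∈ S, (augSeries S n).map s

theorem map_le_augSeries {S : Submodule k (Module.End k M)} {s : Module.End k M} (hs : s ∈ S)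
    (n : ℕ) : (augSeries S n).map s ≤ augSeries S (n + 1) :=
  le_iSup₂ (f := fun s (_ : s ∈ S) => (augSeries S n).map s) s hs

theorem apply_mem_augSeries {S : Submodule k (Module.End k M)} {s : Module.End k M} (hs : s ∈ S)
    {n : ℕ} {v : M} (hv : v ∈ augSeries S n) : s v ∈ augSeries S (n + 1) :=
  map_le_augSeries hs n ⟨v, hv, rfl⟩

theorem augSeries_succ_le (S : Submodule k (Module.End k M)) :
    ∀ n, augSeries S (n + 1) ≤ augSeries S n
  | 0 => le_top
  | n + 1 => iSup₂_mono fun _ _ => Submodule.map_mono (augSeries_succ_le S n)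

theorem augSeries_antitone (S : Submodule k (Module.End k M)) : Antitone (augSeries S) :=
  antitone_nat_of_succ_le (augSeries_succ_le S)

theorem augSeries_mono {S T : Submodule k (Module.End k M)} (h : S ≤ T) :
    ∀ n, augSeries S n ≤ augSeries T n
  | 0 => le_rfl
  | n + 1 => iSup₂_le fun s hs =>
      (Submodule.map_mono (augSeries_mono h n)).trans (map_le_augSeries (h hs) n)

theorem prod_apply_mem {S : Submodule k (Module.End k M)} :
    ∀ (l : List (Module.End k M)), (∀ x ∈ l, x ∈ S) → ∀ v, l.prod v ∈ augSeries S l.length := by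
  intro l
  induction l with
  | nil => intro _ v; exact Submodule.mem_top
  | cons a l ih =>
    intro h v
    rw [List.prod_cons, Module.End.mul_apply]
    exact apply_mem_augSeries (h a List.mem_cons_self)
      (ih (fun x hx => h x (List.mem_cons_of_mem a hx)) v)

theorem isUnipotentOn_of_series {H : Subgroup (GeneralLinearGroup k M)}
    {S : Submodule k (Module.End k M)} (hHS : augSpan H ≤ S) {n : ℕ} (hn : augSeries S n = ⊥) :
    IsUnipotentOn H := by
  refine isUnipotentOn_iff.mpr ⟨n, fun l hl hlen => LinearMap.ext fun v => ?_⟩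
  have h1 := prod_apply_mem (S := S) (l.map fun g : GeneralLinearGroup k M => (g : Module.End k M) - 1) (by
    intro x hx
    obtain ⟨g, hg, rfl⟩ := List.mem_map.mp hx
    exact hHS (sub_one_mem_augSpan (hl g hg))) v
  rw [List.length_map, hlen, hn, Submodule.mem_bot] at h1
  exact h1

theorem augSeries_le_lists (H : Subgroup (GeneralLinearGroup k M)) :
    ∀ n, augSeries (augSpan H) n ≤ ⨆ l : List (GeneralLinearGroup k M),
      ⨆ (_ : (∀ g ∈ l, g ∈ H) ∧ l.length = n),
        LinearMap.range ((l.map fun g : GeneralLinearGroup k M => (g : Module.End k M) - 1).prod) := by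
  intro n
  induction n with
  | zero =>
    refine le_iSup_of_le [] (le_iSup_of_le ⟨by simp, rfl⟩ ?_)
    simp [Module.End.one_eq_id, augSeries]
  | succ n ih =>
    refine iSup₂_le fun s hs => ?_
    rintro _ ⟨v, hv, rfl⟩
    induction hs using Submodule.span_induction generalizing v with
    | mem x hx =>
      obtain ⟨g, hg, rfl⟩ := hx
      have hv' := ih hv
      clear hv
      induction hv' using Submodule.iSup_induction' with
      | mem l w hw =>
        by_cases hl : (∀ g ∈ l, g ∈ H) ∧ l.length = n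
        · rw [iSup_pos hl] at hw
          obtain ⟨m, rfl⟩ := hw
          refine Submodule.mem_iSup_of_mem (g :: l) (Submodule.mem_iSup_of_mem ⟨?_, ?_⟩ ⟨m, ?_⟩)
          · exact List.forall_mem_cons.mpr ⟨hg, hl.1⟩
          · simp [hl.2]
          · simp [List.prod_cons]
        · rw [iSup_neg hl, Submodule.mem_bot] at hw
          subst hw; simp
      | zero => simp
      | add x y _ _ hx hy => rw [map_add]; exact Submodule.add_mem _ hx hy
    | zero => simp
    | add x y _ _ hx hy => rw [LinearMap.add_apply]; exact Submodule.add_mem _ (hx v hv) (hy v hv)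
    | smul c x _ hx => rw [LinearMap.smul_apply]; exact Submodule.smul_mem _ c (hx v hv)

theorem exists_series_eq_bot {H : Subgroup (GeneralLinearGroup k M)} (h : IsUnipotentOn H) :
    ∃ n, augSeries (augSpan H) n = ⊥ := by
  obtain ⟨n, hn⟩ := isUnipotentOn_iff.mp h
  refine ⟨n, eq_bot_iff.mpr ((augSeries_le_lists H n).trans (iSup₂_le fun l hl => ?_))⟩
  rw [show ((l.map fun g : GeneralLinearGroup k M => (g : Module.End k M) - 1).prod) = 0 from hn l hl.1 hl.2,
    LinearMap.range_zero]

theorem isUnipotentOn_mono {H K : Subgroup (GeneralLinearGroup k M)} (hle : H ≤ K)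
    (h : IsUnipotentOn K) : IsUnipotentOn H := by
  obtain ⟨n, hn⟩ := exists_series_eq_bot h
  exact isUnipotentOn_of_series (augSpan_mono hle) hn

variable [FiniteDimensional k M]

/-- The units g with g - 1 in a multiplicatively closed subspace. -/
def oneAdd (S : Submodule k (Module.End k M)) (hS : ∀ a ∈ S, ∀ b ∈ S, a * b ∈ S) :
    Subgroup (GeneralLinearGroup k M) where
  carrier := {g | (g : Module.End k M) - 1 ∈ S}
  one_mem' := by simp
  mul_mem' {g h} hg hh := by
    have e : ((g * h : GeneralLinearGroup k M) : Module.End k M) - 1 =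
        ((g : Module.End k M) - 1) * ((h : Module.End k M) - 1) + ((g : Module.End k M) - 1)
          + ((h : Module.End k M) - 1) := by rw [Units.val_mul]; noncomm_ring
    rw [Set.mem_setOf_eq, e]
    exact S.add_mem (S.add_mem (hS _ hg _ hh) hg) hh
  inv_mem' {g} hg := by
    let L : S →ₗ[k] S :=
      { toFun := fun s => ⟨(g : Module.End k M) * s, by
          have := S.add_mem (hS _ hg _ s.2) s.2
          rwa [sub_mul, one_mul, sub_add_cancel] at this⟩
        map_add' := fun s t => Subtype.ext (by simp [mul_add])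
        map_smul' := fun c s => Subtype.ext (by simp) }
    have hL : Function.Injective L := fun s t h => by
      have h' : (g : Module.End k M) * (s : Module.End k M) = g * t := congrArg Subtype.val h
      exact Subtype.ext ((Units.mul_right_inj g).mp h')
    obtain ⟨s, hs⟩ := LinearMap.injective_iff_surjective.mp hL ⟨_, S.neg_mem hg⟩
    have hs' : (g : Module.End k M) * s = -((g : Module.End k M) - 1) := congrArg Subtype.val hs
    have h1 : ((g⁻¹ : GeneralLinearGroup k M) : Module.End k M) = 1 + (s : Module.End k M) := by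
      refine Units.inv_eq_of_mul_eq_one_right ?_
      rw [mul_add, hs']; simp
    rw [Set.mem_setOf_eq, h1, add_sub_cancel_left]
    exact s.2

theorem le_oneAdd_augSpan (H : Subgroup (GeneralLinearGroup k M)) :
    H ≤ oneAdd (augSpan H) (fun _ ha _ hb => augSpan_mul ha hb) :=
  fun _ hg => sub_one_mem_augSpan hg

theorem isUnipotentOn_oneAdd {H : Subgroup (GeneralLinearGroup k M)} (h : IsUnipotentOn H) :
    IsUnipotentOn (oneAdd (augSpan H) (fun _ ha _ hb => augSpan_mul ha hb)) := by
  obtain ⟨n, hn⟩ := exists_series_eq_bot h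
  refine isUnipotentOn_of_series (Submodule.span_le.mpr ?_) hn
  rintro _ ⟨g, hg, rfl⟩
  exact hg

theorem map_eq_of_apply_mem (g : GeneralLinearGroup k M) (W : Submodule k M)
    (h : ∀ v ∈ W, (g : Module.End k M) v ∈ W) {v : M} (hv : v ∈ W) :
    ((g⁻¹ : GeneralLinearGroup k M) : Module.End k M) v ∈ W := by
  have hinj : Function.Injective ((g : Module.End k M).restrict h) := fun a b e => by
    have e' : (g : Module.End k M) a = (g : Module.End k M) b := congrArg Subtype.val e
    have := congrArg (fun x => ((g⁻¹ : GeneralLinearGroup k M) : Module.End k M) x) e'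
    simp only [← Module.End.mul_apply, Units.inv_mul] at this
    exact Subtype.ext this
  obtain ⟨w, hw⟩ := LinearMap.injective_iff_surjective.mp hinj ⟨v, hv⟩
  have hw' : (g : Module.End k M) w = v := congrArg Subtype.val hw
  rw [← hw', ← Module.End.mul_apply, Units.inv_mul]
  exact w.2

/-- The congruence subgroups of the flag of S. -/
def flagGroup (S : Submodule k (Module.End k M)) (i : ℕ) : Subgroup (GeneralLinearGroup k M) where
  carrier := {g | ∀ j, ∀ v ∈ augSeries S j, ((g : Module.End k M) - 1) v ∈ augSeries S (j + i)}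
  one_mem' := by intro j v _; simp
  mul_mem' {g h} hg hh := by
    intro j v hv
    have h1 := hh j v hv
    have e : (((g * h : GeneralLinearGroup k M) : Module.End k M) - 1) v =
        ((g : Module.End k M) - 1) (((h : Module.End k M) - 1) v) +
          (((g : Module.End k M) - 1) v + ((h : Module.End k M) - 1) v) := by
      rw [Units.val_mul, ← Module.End.mul_apply, ← LinearMap.add_apply, ← LinearMap.add_apply]
      congr 1
      noncomm_ring
    rw [e]
    exact Submodule.add_mem _
      (augSeries_antitone S (by omega) (hg (j + i) _ h1)) (Submodule.add_mem _ (hg j v hv) h1)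
  inv_mem' {g} hg := by
    intro j v hv
    have hstab : ∀ m, ∀ w ∈ augSeries S m, (g : Module.End k M) w ∈ augSeries S m := by
      intro m w hw
      have := Submodule.add_mem _ (augSeries_antitone S (Nat.le_add_right m i) (hg m w hw)) hw
      simpa using this
    have e : (((g⁻¹ : GeneralLinearGroup k M) : Module.End k M) - 1) v =
        -((g : Module.End k M) - 1) (((g⁻¹ : GeneralLinearGroup k M) : Module.End k M) v) := by
      simp only [LinearMap.sub_apply, Module.End.one_apply]
      rw [← Module.End.mul_apply (g : Module.End k M), Units.mul_inv]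
      simp
    rw [e]
    exact Submodule.neg_mem _ (hg j _ (map_eq_of_apply_mem g _ (hstab j) hv))

theorem flagGroup_commutator {S : Submodule k (Module.End k M)} {i : ℕ}
    {x y : GeneralLinearGroup k M} (hx : x ∈ flagGroup S i) (hy : y ∈ flagGroup S 1) :
    x * y * x⁻¹ * y⁻¹ ∈ flagGroup S (i + 1) := by
  intro j v hv
  set w := ((x⁻¹ * y⁻¹ : GeneralLinearGroup k M) : Module.End k M) v with hw
  have hwm : w ∈ augSeries S j := by
    have : ∀ (z : GeneralLinearGroup k M) (m : ℕ), z ∈ flagGroup S m → ∀ u ∈ augSeries S j,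
        (z : Module.End k M) u ∈ augSeries S j := by
      intro z m hz u hu
      have := Submodule.add_mem _ (augSeries_antitone S (Nat.le_add_right j m) (hz j u hu)) hu
      simpa using this
    rw [hw, Units.val_mul, Module.End.mul_apply]
    exact this _ i (inv_mem hx) _ (this _ 1 (inv_mem hy) v hv)
  have e : ((x * y * x⁻¹ * y⁻¹ : GeneralLinearGroup k M) : Module.End k M) - 1 =
      (((x : Module.End k M) - 1) * ((y : Module.End k M) - 1) -
        ((y : Module.End k M) - 1) * ((x : Module.End k M) - 1)) *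
        ((x⁻¹ * y⁻¹ : GeneralLinearGroup k M) : Module.End k M) := by
    have e2 : (y * x * (x⁻¹ * y⁻¹) : GeneralLinearGroup k M) = 1 := by group
    rw [show ((x : Module.End k M) - 1) * ((y : Module.End k M) - 1) -
        ((y : Module.End k M) - 1) * ((x : Module.End k M) - 1) =
        (x : Module.End k M) * (y : Module.End k M) - (y : Module.End k M) * (x : Module.End k M)
        by noncomm_ring, sub_mul, ← Units.val_mul, ← Units.val_mul, ← Units.val_mul,
      ← Units.val_mul, e2, Units.val_one, mul_assoc (x * y)]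
  rw [e, Module.End.mul_apply, ← hw, LinearMap.sub_apply, Module.End.mul_apply,
    Module.End.mul_apply]
  refine Submodule.sub_mem _ ?_ ?_
  · have := hx (j + 1) _ (hy j w hwm)
    rwa [show j + 1 + i = j + (i + 1) by omega] at this
  · have := hy (j + i) _ (hx j w hwm)
    rwa [show j + i + 1 = j + (i + 1) by omega] at this

theorem le_flagGroup_one {H : Subgroup (GeneralLinearGroup k M)} :
    H ≤ flagGroup (augSpan H) 1 :=
  fun _ hg _ _ hv => apply_mem_augSeries (sub_one_mem_augSpan hg) hv

/-- Two unipotent groups, the second normalising the first, generate a unipotent group. -/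
theorem isUnipotentOn_sup {K U : Subgroup (GeneralLinearGroup k M)} (hK : IsUnipotentOn K)
    (hU : IsUnipotentOn U) (hn : U ≤ Subgroup.normalizer (K : Set (GeneralLinearGroup k M))) :
    IsUnipotentOn (K ⊔ U) := by
  obtain ⟨n, hn'⟩ := exists_series_eq_bot hK
  obtain ⟨m, hm⟩ := isUnipotentOn_iff.mp hU
  set V := augSeries (augSpan K) with hV
  have hinv : ∀ u ∈ U, ∀ j, ∀ v ∈ V j, (u : Module.End k M) v ∈ V j := by
    intro u hu j
    induction j with
    | zero => intros; exact Submodule.mem_top
    | succ j ih =>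
      intro v hv
      have hle : V (j + 1) ≤ (V (j + 1)).comap (u : Module.End k M) := by
        refine iSup₂_le fun s hs => ?_
        rintro _ ⟨w, hw, rfl⟩
        rw [Submodule.mem_comap]
        induction hs using Submodule.span_induction with
        | mem x hx =>
          obtain ⟨g, hg, rfl⟩ := hx
          have hg' : u * g * u⁻¹ ∈ K := (Subgroup.mem_normalizer_iff.mp (hn hu) g).mp hg
          have := apply_mem_augSeries (sub_one_mem_augSpan hg') (ih w hw)
          have e : (((u * g * u⁻¹ : GeneralLinearGroup k M) : Module.End k M) - 1) *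
              (u : Module.End k M) = (u : Module.End k M) * ((g : Module.End k M) - 1) := by
            rw [sub_mul, mul_sub, one_mul, mul_one, ← Units.val_mul, ← Units.val_mul,
              inv_mul_cancel_right]
          rw [← Module.End.mul_apply, e] at this
          exact this
        | zero => simp
        | add x y _ _ hx hy => rw [LinearMap.add_apply, map_add]; exact Submodule.add_mem _ hx hy
        | smul c x _ hx => rw [LinearMap.smul_apply, map_smul]; exact Submodule.smul_mem _ c hx
      exact hle hv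
  have hdec : ∀ g ∈ K ⊔ U, ∃ u ∈ U, ∀ j, ∀ v ∈ V j,
      ((g : Module.End k M) - 1) v - ((u : Module.End k M) - 1) v ∈ V (j + 1) := by
    intro g hg
    obtain ⟨a, ha, u, hu, rfl⟩ : ∃ a ∈ K, ∃ u ∈ U, g = a * u := by
      rw [← SetLike.mem_coe, Subgroup.coe_mul_of_right_le_normalizer_left _ _ hn] at hg
      obtain ⟨a, ha, u, hu, rfl⟩ := hg
      exact ⟨a, ha, u, hu, rfl⟩
    refine ⟨u, hu, fun j v hv => ?_⟩
    have := apply_mem_augSeries (sub_one_mem_augSpan ha) (hinv u hu j v hv)
    simpa [sub_sub_sub_cancel_right, LinearMap.sub_apply] using this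
  have hstab : ∀ g ∈ K ⊔ U, ∀ j, ∀ v ∈ V j, ((g : Module.End k M) - 1) v ∈ V j := by
    intro g hg j v hv
    obtain ⟨u, hu, h⟩ := hdec g hg
    have h2 : ((u : Module.End k M) - 1) v ∈ V j :=
      Submodule.sub_mem _ (hinv u hu j v hv) hv
    have := Submodule.add_mem _ (augSeries_succ_le _ j (h j v hv)) h2
    simpa using this
  have hlist : ∀ l : List (GeneralLinearGroup k M), (∀ g ∈ l, g ∈ K ⊔ U) → ∀ j,
      ∃ l' : List (GeneralLinearGroup k M), (∀ g ∈ l', g ∈ U) ∧ l'.length = l.length ∧ ∀ v ∈ V j,
        (l.map fun g : GeneralLinearGroup k M => (g : Module.End k M) - 1).prod v ∈ V j ∧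
        (l.map fun g : GeneralLinearGroup k M => (g : Module.End k M) - 1).prod v -
          (l'.map fun g : GeneralLinearGroup k M => (g : Module.End k M) - 1).prod v ∈ V (j + 1) := by
    intro l
    induction l with
    | nil => intro _ j; exact ⟨[], by simp, rfl, fun v hv => by simp [hv]⟩
    | cons g l ih =>
      intro hl j
      obtain ⟨hg, hl⟩ := List.forall_mem_cons.mp hl
      obtain ⟨l', hl', hlen, h⟩ := ih hl j
      obtain ⟨u, hu, hu'⟩ := hdec g hg
      refine ⟨u :: l', List.forall_mem_cons.mpr ⟨hu, hl'⟩, by simp [hlen], fun v hv => ?_⟩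
      obtain ⟨h1, h2⟩ := h v hv
      simp only [List.map_cons, List.prod_cons, Module.End.mul_apply]
      refine ⟨hstab g hg j _ h1, ?_⟩
      set a := (l.map fun g : GeneralLinearGroup k M => (g : Module.End k M) - 1).prod v
      set b := (l'.map fun g : GeneralLinearGroup k M => (g : Module.End k M) - 1).prod v
      have h3 : ((u : Module.End k M) - 1) (a - b) ∈ V (j + 1) :=
        Submodule.sub_mem _ (hinv u hu _ _ h2) h2
      have := Submodule.add_mem _ (hu' j a h1) h3
      rw [map_sub, sub_add_sub_cancel] at this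
      exact this
  refine isUnipotentOn_iff.mpr ⟨n * m, fun l hl hlen => LinearMap.ext fun v => ?_⟩
  suffices ∀ t, t ≤ n → ∀ l : List (GeneralLinearGroup k M), (∀ g ∈ l, g ∈ K ⊔ U) →
      l.length = t * m → ∀ v, (l.map fun g : GeneralLinearGroup k M => (g : Module.End k M) - 1).prod v ∈ V t by
    have := this n le_rfl l hl hlen v
    rwa [hn', Submodule.mem_bot] at this
  intro t
  induction t with
  | zero => intros; exact Submodule.mem_top
  | succ t ih =>
    intro ht l hl hlen v
    have hsplit : l = l.take m ++ l.drop m := (List.take_append_drop m l).symm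
    have hm' : m ≤ l.length := by rw [hlen]; nlinarith
    have h2 := ih (by omega) (l.drop m) (fun g hg => hl g (List.mem_of_mem_drop hg))
      (by rw [List.length_drop, hlen, Nat.succ_mul]; omega) v
    obtain ⟨l', hl', hlen', h⟩ := hlist (l.take m) (fun g hg => hl g (List.mem_of_mem_take hg)) t
    have h3 := (h _ h2).2
    rw [show ((l'.map fun g : GeneralLinearGroup k M => (g : Module.End k M) - 1).prod) = 0 from
      hm l' hl' (by rw [hlen', List.length_take]; omega), LinearMap.zero_apply, sub_zero] at h3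
    rw [hsplit, List.map_append, List.prod_append, Module.End.mul_apply]
    exact h3

/-- Baer type theorem. -/
theorem isUnipotentOn_iSup {W : Set (Subgroup (GeneralLinearGroup k M))}
    (hWW : ∀ A ∈ W, ∀ B ∈ W, IsUnipotentOn (A ⊔ B))
    (hconj : ∀ A ∈ W, ∀ B ∈ W, ∀ g ∈ B, conjBy A g ∈ W) :
    IsUnipotentOn (⨆ A ∈ W, A) := by
  classical
  let J : Set (Subgroup (GeneralLinearGroup k M)) → Subgroup (GeneralLinearGroup k M) :=
    fun X => ⨆ A ∈ X, A
  let E : Set (Subgroup (GeneralLinearGroup k M)) → Set (Subgroup (GeneralLinearGroup k M)) :=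
    fun X => {A | A ∈ W ∧ ∀ a ∈ A, (a : Module.End k M) - 1 ∈ augSpan (J X)}
  let Good : Set (Subgroup (GeneralLinearGroup k M)) → Prop :=
    fun X => X ⊆ W ∧ IsUnipotentOn (J X)
  let Max : Set (Subgroup (GeneralLinearGroup k M)) → Prop :=
    fun X => Good X ∧ E X = X ∧ ∀ Y, Good Y → X ⊆ Y → Y = X
  have hJmono : ∀ {X Y : Set (Subgroup (GeneralLinearGroup k M))}, X ⊆ Y → J X ≤ J Y :=
    fun h => biSup_mono h
  have hle : ∀ {X : Set (Subgroup (GeneralLinearGroup k M))} {A}, A ∈ X → A ≤ J X :=
    fun hA => le_iSup₂_of_le _ hA le_rfl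
  have hsubE : ∀ X, X ⊆ W → X ⊆ E X := fun X hX A hA =>
    ⟨hX hA, fun a ha => sub_one_mem_augSpan (hle hA ha)⟩
  have hEgood : ∀ X, Good X → Good (E X) := by
    intro X hX
    refine ⟨fun A hA => hA.1, isUnipotentOn_mono ?_ (isUnipotentOn_oneAdd hX.2)⟩
    exact iSup₂_le fun A hA a ha => hA.2 a ha
  -- every good set is in a maximal one
  have hext : ∀ X, Good X → ∃ Y, Max Y ∧ X ⊆ Y := by
    intro X hX
    let D : Set ℕ := {d | ∃ Y, Good Y ∧ X ⊆ Y ∧ Module.finrank k (augSpan (J Y)) = d}
    have hD : D.Nonempty := ⟨_, X, hX, subset_rfl, rfl⟩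
    have hbdd : BddAbove D := ⟨Module.finrank k (Module.End k M), by
      rintro d ⟨Y, -, -, rfl⟩; exact Submodule.finrank_le _⟩
    obtain ⟨Y, hY, hXY, hYd⟩ := Nat.sSup_mem hD hbdd
    have key : ∀ Z, Good Z → E Y ⊆ Z → augSpan (J Z) = augSpan (J Y) := by
      intro Z hZ hYZ
      refine (Submodule.eq_of_le_of_finrank_le
        (augSpan_mono (hJmono ((hsubE Y hY.1).trans hYZ))) ?_).symm
      rw [hYd]
      exact le_csSup hbdd ⟨Z, hZ, hXY.trans ((hsubE Y hY.1).trans hYZ), rfl⟩
    have hmax : ∀ Z, Good Z → E Y ⊆ Z → Z = E Y := fun Z hZ hYZ =>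
      Set.Subset.antisymm (fun A hA => ⟨hZ.1 hA, fun a ha =>
        key Z hZ hYZ ▸ sub_one_mem_augSpan (hle hA ha)⟩) hYZ
    refine ⟨E Y, ⟨hEgood Y hY, ?_, hmax⟩, hXY.trans (hsubE Y hY.1)⟩
    exact hmax _ (hEgood _ (hEgood Y hY)) (hsubE _ (fun A hA => hA.1))
  -- members inside the join of a maximal set
  have hmem : ∀ X, Max X → ∀ A ∈ W, A ≤ J X → A ∈ X := by
    intro X hX A hA hAX
    rw [← hX.2.1]
    exact ⟨hA, fun a ha => sub_one_mem_augSpan (hAX ha)⟩
  by_cases hW : W.Nonempty
  swap
  · rw [Set.not_nonempty_iff_eq_empty] at hW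
    refine isUnipotentOn_iff.mpr ⟨1, fun l hl hlen => ?_⟩
    obtain ⟨g, rfl⟩ := List.length_eq_one_iff.mp hlen
    have hg := hl g List.mem_cons_self
    have hbot : (⨆ A ∈ W, A) = (⊥ : Subgroup (GeneralLinearGroup k M)) := by simp [hW]
    rw [hbot, Subgroup.mem_bot] at hg
    subst hg
    simp
  have hsingle : ∀ A ∈ W, Good {A} := fun A hA =>
    ⟨Set.singleton_subset_iff.mpr hA,
      isUnipotentOn_mono (iSup₂_le fun B hB => by rw [Set.mem_singleton_iff.mp hB]; exact le_sup_left)
        (hWW A hA A hA)⟩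
  by_cases hall : ∃ X, Max X ∧ X = W
  · obtain ⟨X, hX, rfl⟩ := hall
    exact hX.1.2
  push Not at hall
  exfalso
  obtain ⟨A₀, hA₀⟩ := hW
  obtain ⟨X₁, hX₁, -⟩ := hext _ (hsingle A₀ hA₀)
  obtain ⟨B, hB, hBX⟩ : ∃ B ∈ W, B ∉ X₁ := by
    by_contra hc
    push Not at hc
    exact hall X₁ hX₁ (Set.Subset.antisymm hX₁.1.1 hc)
  obtain ⟨X₂, hX₂, hBX₂⟩ := hext _ (hsingle B hB)
  have hne : X₁ ≠ X₂ := fun h => hBX (h ▸ hBX₂ rfl)
  let P : Set ℕ := {d | ∃ Y Z, Max Y ∧ Max Z ∧ Y ≠ Z ∧
    Module.finrank k (augSpan (J (Y ∩ Z))) = d}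
  have hPb : BddAbove P := ⟨Module.finrank k (Module.End k M), by
    rintro d ⟨Y, Z, -, -, -, rfl⟩; exact Submodule.finrank_le _⟩
  obtain ⟨Y₁, Y₂, hY₁, hY₂, hY, hYd⟩ :=
    Nat.sSup_mem (s := P) ⟨_, X₁, X₂, hX₁, hX₂, hne, rfl⟩ hPb
  set K := J (Y₁ ∩ Y₂) with hK
  have hKg : ∀ A ∈ W, (∀ a ∈ A, (a : Module.End k M) - 1 ∈ augSpan K) → A ∈ Y₁ ∩ Y₂ := by
    intro A hA h
    constructor
    · rw [← hY₁.2.1]; exact ⟨hA, fun a ha => augSpan_mono (hJmono Set.inter_subset_left) (h a ha)⟩
    · rw [← hY₂.2.1]; exact ⟨hA, fun a ha => augSpan_mono (hJmono Set.inter_subset_right) (h a ha)⟩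
  have hext1 : ∀ Y, Max Y → Y₁ ∩ Y₂ ⊆ Y → ¬ Y ⊆ Y₁ ∩ Y₂ →
      ∃ A ∈ Y, A ∉ Y₁ ∩ Y₂ ∧ A ≤ Subgroup.normalizer (K : Set (GeneralLinearGroup k M)) := by
    intro Y hYm hsub hnsub
    set H := J Y with hH
    obtain ⟨n, hn⟩ := exists_series_eq_bot hYm.1.2
    let L : ℕ → Subgroup (GeneralLinearGroup k M) := fun i => K ⊔ (flagGroup (augSpan H) i ⊓ H)
    have hKH : K ≤ H := hJmono hsub
    have hLn : L n = K := by
      refine sup_eq_left.mpr fun g hg => ?_
      have he : (g : Module.End k M) - 1 = 0 := LinearMap.ext fun v => by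
        have := hg.1 0 v Submodule.mem_top
        rw [zero_add, hn, Submodule.mem_bot] at this
        exact this
      rw [sub_eq_zero] at he
      rw [show g = 1 from Units.ext he]
      exact one_mem K
    have hL1 : ∀ A ∈ Y, A ≤ L 1 := fun A hA a ha =>
      Subgroup.mem_sup_right ⟨le_flagGroup_one (hle hA ha), hle hA ha⟩
    have hex : ∃ i, ∀ A ∈ W, A ≤ L i → A ∈ Y₁ ∩ Y₂ := ⟨n, fun A hA h => by
      rw [hLn] at h; exact hKg A hA fun a ha => sub_one_mem_augSpan (h ha)⟩
    -- the least i from which on no new member occurs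
    have hanti : ∀ i j, 1 ≤ i → i ≤ j → L j ≤ L i := by
      intro i j _ hij
      refine sup_le_sup le_rfl (inf_le_inf_right _ ?_)
      intro g hg m v hv
      exact augSeries_antitone _ (by omega) (hg m v hv)
    let i := Nat.find hex
    have hi : 2 ≤ i := by
      by_contra hlt
      obtain ⟨A, hA, hA'⟩ := Set.not_subset.mp hnsub
      refine hA' (Nat.find_spec hex A (hYm.1.1 hA) ((hL1 A hA).trans ?_))
      rcases Nat.lt_succ_iff.mp (Nat.lt_of_not_le hlt) |>.eq_or_lt with h1 | h1
      · exact (show L 1 = L i by rw [show i = 1 from h1]).le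
      · refine sup_le_sup le_rfl (inf_le_inf_right _ ?_)
        rw [show Nat.find hex = 0 by omega]
        intro g hg m v hv
        exact augSeries_antitone _ (by omega) (hg m v hv)
    obtain ⟨A, hA, hAL, hAn⟩ : ∃ A ∈ W, A ≤ L (i - 1) ∧ A ∉ Y₁ ∩ Y₂ := by
      have := Nat.find_min hex (show i - 1 < Nat.find hex by show i - 1 < i; omega)
      push Not at this
      exact this
    have hLH : L (i - 1) ≤ H := sup_le hKH inf_le_right
    refine ⟨A, hmem Y hYm A hA (hAL.trans hLH), hAn, ?_⟩
    -- L (i-1) normalises L i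
    have hnorm : L (i - 1) ≤ Subgroup.normalizer (L i : Set (GeneralLinearGroup k M)) := by
      have hcomm : ∀ x ∈ L (i - 1), conjBy (L i) x ≤ L i := by
        intro x hx
        have hgen : ∀ x ∈ L (i - 1), conjBy (L i) x ≤ L i := by
          intro x hx
          have hx' : x ∈ Subgroup.closure ((K : Set (GeneralLinearGroup k M)) ∪
              ((flagGroup (augSpan H) (i - 1) ⊓ H : Subgroup _) : Set (GeneralLinearGroup k M))) := by
            rw [← Subgroup.sup_eq_closure]; exact hx
          have hgen' : ∀ y, (y ∈ K ∨ y ∈ flagGroup (augSpan H) (i - 1) ⊓ H) →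
              conjBy (L i) y ≤ L i := by
            rintro y (hy | hy)
            · exact conjBy_le_of_mem le_rfl (Subgroup.mem_sup_left hy)
            · rw [conjBy_sup]
              refine sup_le ?_ ?_
              · intro z hz
                rw [mem_conjBy] at hz
                have hz2 := flagGroup_commutator hy.1 (le_flagGroup_one (hKH hz))
                rw [show i - 1 + 1 = i by omega] at hz2
                have hz3 : y * (y⁻¹ * z * y) * y⁻¹ * (y⁻¹ * z * y)⁻¹ ∈ H :=
                  mul_mem (mul_mem (mul_mem hy.2 (hKH hz)) (inv_mem hy.2)) (inv_mem (hKH hz))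
                have : z = (y * (y⁻¹ * z * y) * y⁻¹ * (y⁻¹ * z * y)⁻¹) * (y⁻¹ * z * y) := by group
                rw [this]
                exact mul_mem (Subgroup.mem_sup_right ⟨hz2, hz3⟩) (Subgroup.mem_sup_left hz)
              · intro z hz
                rw [mem_conjBy] at hz
                refine Subgroup.mem_sup_right (Subgroup.mem_inf.mpr ⟨?_, ?_⟩)
                · have hz2 := flagGroup_commutator hz.1 (le_flagGroup_one hy.2)
                  have hz4 : (y⁻¹ * z * y) * y * (y⁻¹ * z * y)⁻¹ * y⁻¹ ∈ flagGroup (augSpan H) i :=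
                    fun m v hv => augSeries_antitone _ (by omega) (hz2 m v hv)
                  have : z = ((y⁻¹ * z * y) * y * (y⁻¹ * z * y)⁻¹ * y⁻¹)⁻¹ * (y⁻¹ * z * y) := by
                    group
                  rw [this]
                  exact mul_mem (inv_mem hz4) hz.1
                · have : z = y * (y⁻¹ * z * y) * y⁻¹ := by group
                  rw [this]
                  exact mul_mem (mul_mem hy.2 hz.2) (inv_mem hy.2)
          induction hx' using Subgroup.closure_induction'' with
          | one => rw [conjBy_one]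
          | mem y hy => exact hgen' y hy
          | inv_mem y hy =>
            rcases hy with hy | hy
            · exact hgen' _ (Or.inl (Subgroup.inv_mem K hy))
            · exact hgen' _ (Or.inr (Subgroup.inv_mem (flagGroup (augSpan H) (i - 1) ⊓ H) hy))
          | mul a b ha hb iha ihb =>
            rw [← conjBy_conjBy]
            exact (conjBy_mono (ihb (by rw [← Subgroup.sup_eq_closure] at hb; exact hb)) a).trans
              (iha (by rw [← Subgroup.sup_eq_closure] at ha; exact ha))
        exact hgen x hx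
      intro x hx
      rw [← conjBy_eq_self_iff]
      refine le_antisymm (hcomm x hx) ?_
      have := conjBy_mono (hcomm x⁻¹ (inv_mem hx)) x
      rwa [conjBy_cancel_inv] at this
    have hperm : ∀ a ∈ A, conjBy K a ≤ K := by
      intro a ha
      show conjBy (⨆ B ∈ Y₁ ∩ Y₂, B) a ≤ K
      simp only [Cfsg.conjBy, Subgroup.map_iSup]
      refine iSup₂_le fun B hB => ?_
      have hBW : B ∈ W := hY₁.1.1 hB.1
      have hBi : conjBy B a ≤ L i := by
        have h1 : conjBy (L i) a = L i := conjBy_eq_self_iff.mpr (hnorm (hAL ha))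
        exact h1 ▸ conjBy_mono ((hle hB).trans le_sup_left) a
      exact hle (X := Y₁ ∩ Y₂) (Nat.find_spec hex _ (hconj B hBW A hA a ha) hBi)
    intro a ha
    rw [← conjBy_eq_self_iff]
    refine le_antisymm (hperm a ha) ?_
    have := conjBy_mono (hperm a⁻¹ (inv_mem ha)) a
    rwa [conjBy_cancel_inv] at this
  have hn1 : ¬ Y₁ ⊆ Y₁ ∩ Y₂ := fun h => hY
    (hY₁.2.2 Y₂ hY₂.1 (fun A hA => (h hA).2)).symm
  have hn2 : ¬ Y₂ ⊆ Y₁ ∩ Y₂ := fun h => hY (hY₂.2.2 Y₁ hY₁.1 (fun A hA => (h hA).1))
  obtain ⟨A₁, hA₁, hA₁n, hA₁K⟩ := hext1 Y₁ hY₁ Set.inter_subset_left hn1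
  obtain ⟨A₂, hA₂, hA₂n, hA₂K⟩ := hext1 Y₂ hY₂ Set.inter_subset_right hn2
  have hgood : Good (Y₁ ∩ Y₂ ∪ {A₁, A₂}) := by
    refine ⟨Set.union_subset (fun A hA => hY₁.1.1 hA.1) ?_, ?_⟩
    · rintro A (rfl | rfl)
      exacts [hY₁.1.1 hA₁, hY₂.1.1 hA₂]
    · refine isUnipotentOn_mono (iSup₂_le fun A hA => ?_)
        (isUnipotentOn_sup (isUnipotentOn_mono (hJmono Set.inter_subset_left) hY₁.1.2)
          (hWW A₁ (hY₁.1.1 hA₁) A₂ (hY₂.1.1 hA₂)) (sup_le hA₁K hA₂K))
      rcases hA with hA | hA | hA
      · exact le_sup_of_le_left (hle hA)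
      · rw [hA]; exact le_sup_of_le_right le_sup_left
      · rw [Set.mem_singleton_iff.mp hA]; exact le_sup_of_le_right le_sup_right
  obtain ⟨Y₃, hY₃, hsub⟩ := hext _ hgood
  have h31 : Y₃ = Y₁ := by
    by_contra hne'
    have hle' : augSpan K ≤ augSpan (J (Y₃ ∩ Y₁)) :=
      augSpan_mono (hJmono fun A hA => ⟨hsub (Or.inl hA), hA.1⟩)
    have heq : augSpan K = augSpan (J (Y₃ ∩ Y₁)) :=
      Submodule.eq_of_le_of_finrank_le hle' (by
        rw [hYd]; exact le_csSup hPb ⟨Y₃, Y₁, hY₃, hY₁, hne', rfl⟩)
    refine hA₁n (hKg A₁ (hY₁.1.1 hA₁) fun a ha => heq ▸ sub_one_mem_augSpan ?_)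
    exact hle (show A₁ ∈ Y₃ ∩ Y₁ from ⟨hsub (Or.inr (Or.inl rfl)), hA₁⟩) ha
  exact hA₂n ⟨h31 ▸ hsub (Or.inr (Or.inr rfl)), hA₂⟩

end Cfsg.Agent.RootSub
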