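import Cfsg.Agent.RootSub.Basic

/-!
# Sets of abstract root subgroups: the trichotomy and first consequences
-/

namespace Cfsg.Agent.RootSub

open Cfsg

variable {G : Type*} [Group G]

theorem commute_of_bot {A B : Subgroup G} (h : ⁅A, B⁆ = ⊥) {a b : G} (ha : a ∈ A) (hb : b ∈ B) :
    a * b = b * a := by
  rw [← commutatorElement_eq_one_iff_mul_comm, ← Subgroup.mem_bot, ← h]
  exact Subgroup.commutator_mem_commutator ha hb

theorem bot_of_commute {A B : Subgroup G} (h : ∀ a ∈ A, ∀ b ∈ B, a * b = b * a) : ⁅A, B⁆ = ⊥ := by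
  rw [eq_bot_iff, Subgroup.commutator_le]
  intro a ha b hb
  rw [Subgroup.mem_bot, commutatorElement_eq_one_iff_mul_comm]
  exact h a ha b hb

theorem fix_of_bot {A B : Subgroup G} (h : ⁅A, B⁆ = ⊥) {a : G} (ha : a ∈ A) : conjBy B a = B := by
  ext x
  rw [mem_conjBy]
  constructor
  · intro hx
    have h1 := commute_of_bot h ha hx
    have h2 : x = a⁻¹ * x * a := mul_right_cancel (b := a) (by rw [← h1]; group)
    rwa [h2]
  · intro hx
    rwa [mul_assoc, ← commute_of_bot h ha hx, inv_mul_cancel_left]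

theorem fix_of_commute {B : Subgroup G} {a : G} (h : ∀ b ∈ B, a * b = b * a) :
    conjBy B a = B := by
  have : ⁅Subgroup.zpowers a, B⁆ = ⊥ := bot_of_commute fun x hx b hb => by
    obtain ⟨n, rfl⟩ := Subgroup.mem_zpowers_iff.mp hx
    exact ((Commute.zpow_left (h b hb) n)).eq
  exact fix_of_bot this (Subgroup.mem_zpowers a)

theorem ne_one_of_mem_ne_bot {A : Subgroup G} (h : A ≠ ⊥) : ∃ a ∈ A, a ≠ 1 := by
  obtain ⟨⟨a, ha⟩, ha1⟩ := A.ne_bot_iff_exists_ne_one.mp h
  exact ⟨a, ha, fun he => ha1 (Subtype.ext he)⟩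

variable {S : Set (Subgroup G)}

theorem commCase_symm {A B : Subgroup G} (h : RootCommutatorCase S A B) :
    RootCommutatorCase S B A := by
  obtain ⟨hm, hc, hl, hr⟩ := h
  have hcomm : ⁅B, A⁆ = ⁅A, B⁆ := Subgroup.commutator_comm B A
  have key : ∀ (C : Subgroup G) (x : G),
      Subgroup.closure ((fun y : G => x * y * x⁻¹ * y⁻¹) '' (C : Set G)) =
        Subgroup.closure ((fun y : G => y * x * y⁻¹ * x⁻¹) '' (C : Set G)) := by
    intro C x
    rw [← Subgroup.closure_inv ((fun y : G => y * x * y⁻¹ * x⁻¹) '' (C : Set G))]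
    congr 1
    ext z
    simp only [Set.mem_inv, Set.mem_image]
    constructor
    · rintro ⟨y, hy, rfl⟩; exact ⟨y, hy, by group⟩
    · rintro ⟨y, hy, he⟩; exact ⟨y, hy, by rw [← inv_inj, ← he]; group⟩
  refine ⟨hcomm ▸ hm, ?_, ?_, ?_⟩
  · rw [hcomm, sup_comm]; exact hc
  · intro b hb hb1; rw [hcomm, key, hr b hb hb1]
  · intro a ha ha1; rw [hcomm, ← key, hl a ha ha1]

theorem commCase_central_left {A B : Subgroup G} (h : RootCommutatorCase S A B) {c : G}
    (hc : c ∈ ⁅A, B⁆) {a : G} (ha : a ∈ A) : c * a = a * c :=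
  h.2.1 c hc a (Subgroup.mem_sup_left ha)

theorem commCase_central_right {A B : Subgroup G} (h : RootCommutatorCase S A B) {c : G}
    (hc : c ∈ ⁅A, B⁆) {b : G} (hb : b ∈ B) : c * b = b * c :=
  h.2.1 c hc b (Subgroup.mem_sup_right hb)

theorem commCase_ne_bot (hS : IsRootSubgroupSet S) {A B : Subgroup G}
    (h : RootCommutatorCase S A B) : ⁅A, B⁆ ≠ ⊥ :=
  hS.ne_bot _ h.1

theorem commCase_fix_left {A B : Subgroup G} (h : RootCommutatorCase S A B) {a b : G}
    (ha : a ∈ A) (hb : b ∈ B) : conjBy A (a * b * a⁻¹ * b⁻¹) = A :=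
  fix_of_commute fun x hx => commCase_central_left h (Subgroup.commutator_mem_commutator ha hb) hx

/-- A rank one pair is never in the commutator case. -/
theorem not_commCase_of_rankOne {A B : Subgroup G} (h : IsRankOnePair A B) :
    ¬ RootCommutatorCase S A B := by
  intro hc
  obtain ⟨a, ha, ha1⟩ := RankOne.exists_ne_one h
  obtain ⟨b, hb, hb1⟩ := RankOne.exists_ne_one (RankOnePair_symm h)
  exact RankOne.commutator_not_fix h ha ha1 hb hb1 (commCase_fix_left hc ha hb)

theorem rankOne_conj_iff {A B : Subgroup G} (g : G) :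
    IsRankOnePair (conjBy A g) (conjBy B g) ↔ IsRankOnePair A B := by
  refine ⟨fun h => ?_, fun h => RankOne.conj_pair h g⟩
  simpa [conjBy_inv_cancel] using RankOne.conj_pair h g⁻¹

theorem unipotent_mem (hS : IsRootSubgroupSet S) {A B C : Subgroup G} (hA : A ∈ S)
    (hC : C ∈ unipotentSubgroups A B) : C ∈ S := by
  obtain ⟨x, -, rfl⟩ := hC
  exact hS.conj_mem A hA x

/-- A member of `S` inside a rank one group generated by two members is either one of its
unipotent subgroups or centralises it. -/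
theorem mem_or_centralize (hS : IsRootSubgroupSet S) {A B E : Subgroup G} (hA : A ∈ S)
    (h : IsRankOnePair A B) (hE : E ∈ S) (hle : E ≤ A ⊔ B) :
    E ∈ unipotentSubgroups A B ∨ (⁅E, A⁆ = ⊥ ∧ ⁅E, B⁆ = ⊥) := by
  by_cases hmem : E ∈ unipotentSubgroups A B
  · exact Or.inl hmem
  refine Or.inr ?_
  have hfix : ∀ C ∈ unipotentSubgroups A B, ∀ e ∈ E, conjBy C e = C := by
    intro C hC e he
    by_cases he1 : e = 1
    · rw [he1, conjBy_one]
    rcases hS.pair E hE C (unipotent_mem hS hA hC) with hb | hr | hc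
    · exact fix_of_bot hb he
    · exfalso
      obtain ⟨c, hc, -, heq⟩ := hr.cond_left e he he1
      apply hmem
      have h1 := conjBy_mem_unipotent (inv_mem (hle he)) hC
      rw [← heq] at h1
      have h2 := conjBy_mem_unipotent (unipotent_le hC hc) h1
      rwa [conjBy_cancel_inv] at h2
    · by_cases hC1 : C = ⊥
      · exact absurd hC1 (hS.ne_bot C (unipotent_mem hS hA hC))
      obtain ⟨c, hc', hc1⟩ := ne_one_of_mem_ne_bot hC1
      have hk : conjBy C (e * c * e⁻¹ * c⁻¹) = C := fix_of_commute fun x hx =>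
        commCase_central_right hc (Subgroup.commutator_mem_commutator he hc') hx
      have h1 : conjBy C (e * c * e⁻¹) = C := by
        rw [show e * c * e⁻¹ = e * c * e⁻¹ * c⁻¹ * c by group, ← conjBy_conjBy,
          conjBy_mem_self hc', hk]
      have h2 : conjBy (conjBy C e⁻¹) c = conjBy C e⁻¹ := by
        have := congrArg (fun D : Subgroup G => conjBy D e⁻¹) h1
        simp only [conjBy_conjBy] at this ⊢
        simpa [mul_assoc] using this
      have h3 := RankOne.eq_of_fix_mem h hC (conjBy_mem_unipotent (inv_mem (hle he)) hC) hc' hc1 h2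
      calc conjBy C e = conjBy (conjBy C e⁻¹) e := by rw [h3]
        _ = C := conjBy_cancel_inv C e
  have key : ∀ {C D : Subgroup G}, IsRankOnePair C D → C ∈ unipotentSubgroups A B →
      D ∈ unipotentSubgroups A B → ∀ e ∈ E, ∀ a ∈ C, e * a = a * e := by
    intro C D hp hC hD e he a ha
    have hc : e * a * e⁻¹ * a⁻¹ ∈ C :=
      mul_mem (by simpa [hfix C hC e he] using conjBy_mem ha e) (inv_mem ha)
    have hDfix : conjBy D (e * a * e⁻¹ * a⁻¹) = D := by
      have h1 : conjBy (conjBy D a⁻¹) e⁻¹ = conjBy D a⁻¹ :=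
        hfix _ (conjBy_mem_unipotent (inv_mem (unipotent_le hC ha)) hD) _ (inv_mem he)
      rw [show e * a * e⁻¹ * a⁻¹ = e * (a * (e⁻¹ * a⁻¹)) by group, ← conjBy_conjBy,
        ← conjBy_conjBy, ← conjBy_conjBy, h1, conjBy_cancel_inv, hfix D hD e he]
    have h6 : e * a * e⁻¹ = a := mul_inv_eq_one.mp (RankOne.eq_one_of_fix hp hc hDfix)
    conv_rhs => rw [← h6]
    group
  exact ⟨bot_of_commute (key h (self_mem_unipotent A B) (RankOne.right_mem h)),
    bot_of_commute (key (RankOnePair_symm h) (RankOne.right_mem h) (self_mem_unipotent A B))⟩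

/-- A non-identity element centralising a rank one group times a non-identity element of one of
its unipotent subgroups is not a root element. -/
theorem mul_not_mem_rootElements (hS : IsRootSubgroupSet S) {A B : Subgroup G} (hB : B ∈ S)
    (h : IsRankOnePair A B) {z : G} (hzA : ∀ x ∈ A, z * x = x * z) (hzB : ∀ x ∈ B, z * x = x * z)
    (hz1 : z ≠ 1) {a : G} (ha : a ∈ A) (ha1 : a ≠ 1) : z * a ∉ rootElements S := by
  rintro ⟨hne, E, hE, hza⟩
  have hfix : ∀ C ∈ unipotentSubgroups A B, conjBy C z = C := by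
    rintro C ⟨x, hx, rfl⟩
    have hzx : z * x = x * z := by
      have hle : A ⊔ B ≤ Subgroup.centralizer ({z} : Set G) := by
        refine sup_le (fun y hy => ?_) (fun y hy => ?_) <;>
          rw [Subgroup.mem_centralizer_singleton_iff]
        exacts [(hzA y hy).symm, (hzB y hy).symm]
      exact (Subgroup.mem_centralizer_singleton_iff.mp (hle hx)).symm
    rw [conjBy_conjBy, hzx, ← conjBy_conjBy, fix_of_commute hzA]
  rcases hS.pair E hE B hB with hb | hr | hc
  · obtain ⟨b, hb', hb1⟩ := RankOne.exists_ne_one (RankOnePair_symm h)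
    apply RankOne.not_commute h ha ha1 hb' hb1
    have h1 := commute_of_bot hb hza hb'
    have h2 : z * (a * b) = z * (b * a) := by
      rw [← mul_assoc, h1, ← mul_assoc, ← hzB b hb', mul_assoc]
    exact mul_left_cancel h2
  · obtain ⟨b, hb', -, heq⟩ := hr.cond_left _ hza hne
    have hB' : conjBy B (z * a)⁻¹ ∈ unipotentSubgroups A B := by
      rw [mul_inv_rev, ← conjBy_conjBy]
      have hzfix : conjBy B z⁻¹ = B := by
        conv_lhs => rw [← fix_of_commute hzB]
        rw [conjBy_inv_cancel]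
      rw [hzfix]
      exact conjBy_mem_unipotent (inv_mem (Subgroup.mem_sup_left ha)) (RankOne.right_mem h)
    rw [← heq] at hB'
    have hEΩ : E ∈ unipotentSubgroups A B := by
      have := conjBy_mem_unipotent (Subgroup.mem_sup_right (S := A) hb') hB'
      rwa [conjBy_cancel_inv] at this
    have hfixA : conjBy A (z * a) = A := by
      rw [← conjBy_conjBy, conjBy_mem_self ha, fix_of_commute hzA]
    have hEA : A = E :=
      RankOne.eq_of_fix_mem h hEΩ (self_mem_unipotent A B) hza hne hfixA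
    have hzmem : z ∈ A := by
      rw [show z = z * a * a⁻¹ by group]; exact mul_mem (hEA ▸ hza) (inv_mem ha)
    exact hz1 (RankOne.eq_one_of_fix h hzmem (fix_of_commute hzB))
  · obtain ⟨b, hb', hb1⟩ := RankOne.exists_ne_one (RankOnePair_symm h)
    have hm : z * a * b * (z * a)⁻¹ * b⁻¹ ∈ ⁅E, B⁆ := Subgroup.commutator_mem_commutator hza hb'
    have hc' : a * b * a⁻¹ * b⁻¹ = z * a * b * (z * a)⁻¹ * b⁻¹ := by
      have hab : z * (a * b * a⁻¹) = (a * b * a⁻¹) * z := by
        have h1 : Commute z a := hzA a ha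
        have h2 : Commute z b := hzB b hb'
        exact ((h1.mul_right h2).mul_right h1.inv_right).eq
      rw [show z * a * b * (z * a)⁻¹ * b⁻¹ = z * (a * b * a⁻¹) * z⁻¹ * b⁻¹ by group, hab]
      group
    rw [← hc'] at hm
    have hcB : conjBy B (a * b * a⁻¹ * b⁻¹) = B :=
      fix_of_commute fun x hx => commCase_central_right hc hm hx
    apply RankOne.commutator_not_fix (RankOnePair_symm h) hb' hb1 ha ha1
    have := congrArg (fun C : Subgroup G => conjBy C (a * b * a⁻¹ * b⁻¹)⁻¹) hcB
    simp only [conjBy_inv_cancel] at this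
    rw [show b * a * b⁻¹ * a⁻¹ = (a * b * a⁻¹ * b⁻¹)⁻¹ by group]
    exact this.symm

/-- If `A` has a rank one partner, it meets every other member trivially. -/
theorem inf_eq_bot_of_partner (hS : IsRootSubgroupSet S) {A C B : Subgroup G}
    (hC : C ∈ S) (hB : B ∈ S) (h : IsRankOnePair A C) (hne : A ≠ B) : A ⊓ B = ⊥ := by
  rw [eq_bot_iff]
  rintro x ⟨hxA, hxB⟩
  rw [Subgroup.mem_bot]
  by_contra hx1
  rcases hS.pair B hB C hC with hb | hr | hc
  · exact hx1 (RankOne.eq_one_of_fix h hxA (fix_of_bot hb hxB))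
  · have hne2 : C ≠ conjBy C x := fun he => hx1 (RankOne.eq_one_of_fix h hxA he.symm)
    have h1 : conjBy C x ∈ unipotentSubgroups A C :=
      conjBy_mem_unipotent (Subgroup.mem_sup_left hxA) (RankOne.right_mem h)
    have h2 : conjBy C x ∈ unipotentSubgroups B C :=
      conjBy_mem_unipotent (Subgroup.mem_sup_left hxB) (RankOne.right_mem hr)
    have e1 := RankOne.unipotent_congr h (RankOne.right_mem h) h1 hne2
    have e2 := RankOne.unipotent_congr hr (RankOne.right_mem hr) h2 hne2
    have hBm : B ∈ unipotentSubgroups A C := by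
      rw [← e1, e2]; exact self_mem_unipotent B C
    exact hne (RankOne.eq_of_mem_mem h (self_mem_unipotent A C) hBm hxA hxB hx1).symm
  · obtain ⟨c, hc', hc1⟩ := RankOne.exists_ne_one (RankOnePair_symm h)
    apply RankOne.commutator_not_fix (RankOnePair_symm h) hc' hc1 hxA hx1
    exact fix_of_commute fun y hy => commCase_central_left (commCase_symm hc)
      (Subgroup.commutator_mem_commutator hc' hxB) hy

theorem exists_partner_of_not_isolated {A : Subgroup G} (hA : ¬ IsIsolatedIn (FAdj S) S A)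
    (hAS : A ∈ S) : ∃ C ∈ S, IsRankOnePair A C := by
  by_contra hcon
  push Not at hcon
  exact hA ⟨hAS, fun C => ⟨fun ⟨_, hC, h⟩ => hcon C hC h,
    fun ⟨hC, _, h⟩ => hcon C hC (RankOnePair_symm h)⟩⟩

end Cfsg.Agent.RootSub
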