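import Cfsg.Agent.RootSub.Calculus

/-!
# Sums of commuting root elements and the fixed value of a commutator

If A, P form a rank one pair and C commutes with A and is in the commutator case with P, then a
member containing a sum a c is a rank one partner of P, and ⁅A, ⁅P, C⁆⁆ = C.
-/

namespace Cfsg.Agent.RootSub

open Cfsg
open scoped commutatorElement

variable {G : Type*} [Group G] {S : Set (Subgroup G)} {A B C D E F P W : Subgroup G}

/-- A member commuting with both members of a rank one pair is not in the commutator case with a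
member in it producing the other. -/
theorem not_rankOne_value (hS : IsRootSubgroupSet S) (hE : E ∈ S) (hW : W ∈ S) (hC : C ∈ S)
    (hc : RootCommutatorCase S P E) (hEC : ⁅E, C⁆ = ⊥) (hW' : W = ⁅P, E⁆) :
    ¬ IsRankOnePair W C := by
  intro hr
  obtain ⟨e, he, he1⟩ := ne_one_of_mem_ne_bot (hS.ne_bot E hE)
  obtain ⟨p, hp, -, hne⟩ := CommCase.exists_ne_one_left hc hS he he1
  have hwW : ⁅p, e⁆ ∈ W := hW' ▸ Subgroup.commutator_mem_commutator hp he
  refine mul_not_mem_rootElements hS hC hr (z := e)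
    (fun x hx => (commCase_central_right hc (hW' ▸ hx) he).symm)
    (fun x hx => commute_of_bot hEC he hx) he1 hwW hne ?_
  rw [← commCase_central_right hc (Subgroup.commutator_mem_commutator hp he) he,
    show ⁅p, e⁆ * e = p * e * p⁻¹ by simp [commutatorElement_def]]
  exact ⟨fun h => he1 (conj_eq_one_iff.mp h), conjBy E p, hS.conj_mem E hE p, conjBy_mem he p⟩

/-- A member containing a c is a rank one partner of P. -/
theorem rankOne_of_sum (hS : IsRootSubgroupSet S) (hC : C ∈ S) (hP : P ∈ S)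
    (hF : F ∈ S) (hp : IsRankOnePair A P) (hAC : ⁅A, C⁆ = ⊥) (hc : RootCommutatorCase S C P)
    {a c : G} (ha : a ∈ A) (ha1 : a ≠ 1) (hc' : c ∈ C) (hf : a * c ∈ F) :
    IsRankOnePair F P := by
  obtain ⟨p, hpP, hp1⟩ := RankOne.exists_ne_one (RankOnePair_symm hp)
  set K := ⁅C, P⁆ with hKdef
  rcases hS.pair F hF P hP with hb | hr | hcF
  · exfalso
    -- the commutator of a⁻¹ and p would lie in K
    set k := ⁅c, p⁆
    have hk : k ∈ K := Subgroup.commutator_mem_commutator hc' hpP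
    have he : a * c * p = p * (a * c) := commute_of_bot hb hf hpP
    have h1 : a * (k * p) * a⁻¹ = p := by
      have e1 : a * c * p * (a * c)⁻¹ = p := by rw [he, mul_inv_cancel_right]
      rw [show k * p = c * p * c⁻¹ by simp [k, commutatorElement_def],
        show a * (c * p * c⁻¹) * a⁻¹ = a * c * p * (a * c)⁻¹ by group, e1]
    have h2 : ⁅a⁻¹, p⁆ = k := by
      rw [commutatorElement_def, inv_inv]
      conv_lhs => arg 1; arg 1; arg 2; rw [← h1]
      group
    exact RankOne.commutator_not_commute_right hp (inv_mem ha) (inv_ne_one.mpr ha1) hpP hp1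
      fun y hy => h2 ▸ commCase_central_right hc hk hy
  · exact hr
  · exfalso
    set L := ⁅F, P⁆ with hLdef
    set k₁ := ⁅c⁻¹, p⁆ with hk₁def
    set l := ⁅a * c, p⁆ with hldef
    set k := ⁅c, p⁆ with hkdef
    have hk₁ : k₁ ∈ K := Subgroup.commutator_mem_commutator (inv_mem hc') hpP
    have hk : k ∈ K := Subgroup.commutator_mem_commutator hc' hpP
    have hl : l ∈ L := Subgroup.commutator_mem_commutator hf hpP
    -- no rank one pair between the two values
    have hnot : ¬ IsRankOnePair L K := by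
      intro hLK
      obtain ⟨c₀, hc₀, -, hne⟩ := CommCase.exists_ne_one_left hc hS hpP hp1
      have hk₀ : ⁅c₀, p⁆ ∈ K := Subgroup.commutator_mem_commutator hc₀ hpP
      refine mul_not_mem_rootElements hS hcF.1 (RankOnePair_symm hLK) (z := p)
        (fun x hx => (commCase_central_right hc hx hpP).symm)
        (fun x hx => (commCase_central_right hcF hx hpP).symm) hp1 hk₀ hne ?_
      rw [← commCase_central_right hc hk₀ hpP,
        show ⁅c₀, p⁆ * p = c₀ * p * c₀⁻¹ by simp [commutatorElement_def]]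
      exact ⟨fun h => hp1 (conj_eq_one_iff.mp h), conjBy P c₀, hS.conj_mem P hP c₀,
        conjBy_mem hpP c₀⟩
    set n := ⁅l, k⁆ with hndef
    have hnP : ∀ y ∈ P, n * y = y * n := fun y hy => by
      have h1 : Commute l y := commCase_central_right hcF hl hy
      have h2 : Commute k y := commCase_central_right hc hk hy
      rw [hndef, commutatorElement_def]
      exact (((h1.mul_left h2).mul_left h1.inv_left).mul_left h2.inv_left).eq
    have hnK : ∀ y ∈ K, n * y = y * n := by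
      intro y hy
      rcases hS.pair L hcF.1 K hc.1 with h | h | h
      · rw [hndef, commutatorElement_eq_one_iff_mul_comm.mpr (commute_of_bot h hl hk), one_mul,
          mul_one]
      · exact absurd h hnot
      · exact commCase_central_right h (Subgroup.commutator_mem_commutator hl hk) hy
    set n' := c⁻¹ * n * c with hn'def
    have hn'P : ∀ y ∈ P, n' * y = y * n' := by
      intro y hy
      have h1 : n * (c * y * c⁻¹) = (c * y * c⁻¹) * n := by
        rw [show c * y * c⁻¹ = ⁅c, y⁆ * y by simp [commutatorElement_def]]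
        exact ((show Commute n ⁅c, y⁆ from hnK _ (Subgroup.commutator_mem_commutator hc' hy)).mul_right
          (hnP y hy)).eq
      calc n' * y = c⁻¹ * (n * (c * y * c⁻¹)) * c := by rw [hn'def]; group
        _ = c⁻¹ * ((c * y * c⁻¹) * n) * c := by rw [h1]
        _ = y * n' := by rw [hn'def]; group
    set q := ⁅a, p⁆ with hqdef
    have hac : c⁻¹ * a * c = a := by
      rw [mul_assoc, commute_of_bot hAC ha hc', inv_mul_cancel_left]
    have hq : q = c⁻¹ * l * c * k₁ := by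
      rw [hqdef, hldef, hk₁def, commutatorElement_def, commutatorElement_def,
        commutatorElement_def]
      conv_lhs => rw [← hac]
      group
    have hk₁p : k₁ * p = p * k₁ := commCase_central_right hc hk₁ hpP
    have hqp : q * p * q⁻¹ = n' * p := by
      have h1 : c * p * c⁻¹ = k * p := by simp [hkdef, commutatorElement_def]
      have h2 : l * p = p * l := commCase_central_right hcF hl hpP
      have h3 : l * (k * p) * l⁻¹ = n * (k * p) := by
        rw [show l * (k * p) * l⁻¹ = (l * k * l⁻¹) * (l * p * l⁻¹) by group, h2,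
          mul_inv_cancel_right, show l * k * l⁻¹ = n * k by simp [hndef, commutatorElement_def],
          mul_assoc]
      calc q * p * q⁻¹ = c⁻¹ * l * c * (k₁ * p * k₁⁻¹) * c⁻¹ * l⁻¹ * c := by rw [hq]; group
        _ = c⁻¹ * (l * (c * p * c⁻¹) * l⁻¹) * c := by rw [hk₁p, mul_inv_cancel_right]; group
        _ = c⁻¹ * (n * (c * p * c⁻¹)) * c := by rw [h1, h3]
        _ = n' * p := by rw [hn'def]; group
    have hne : conjBy P q ≠ P := RankOne.commutator_not_fix_right hp ha ha1 hpP hp1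
    have hΩ : conjBy P q ∈ unipotentSubgroups A P :=
      conjBy_mem_unipotent (by
        rw [hqdef, commutatorElement_def]
        exact mul_mem (mul_mem (mul_mem (Subgroup.mem_sup_left ha) (Subgroup.mem_sup_right hpP))
          (inv_mem (Subgroup.mem_sup_left ha))) (inv_mem (Subgroup.mem_sup_right hpP)))
        (RankOne.right_mem hp)
    obtain ⟨hpair, -⟩ := RankOne.pair_of_ne hp (RankOne.right_mem hp) hΩ (Ne.symm hne)
    refine RankOne.not_commute hpair hpP hp1 (conjBy_mem hpP q)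
      (fun h => hp1 (conj_eq_one_iff.mp h)) ?_
    rw [hqp, ← mul_assoc, ← hn'P p hpP, mul_assoc]

/-- The value of a commutator case against a rank one pair returns to the member it came from. -/
theorem value_fix (hS : IsRootSubgroupSet S) (hpart : ∀ A ∈ S, ∃ P ∈ S, IsRankOnePair A P)
    (hA : A ∈ S) (hB : B ∈ S) (hC : C ∈ S) (hp : IsRankOnePair A B) (hAC : ⁅A, C⁆ = ⊥)
    (hc : RootCommutatorCase S B C)
    (hroot : ∀ c ∈ C, c ≠ 1 → ∃ a ∈ A, a ≠ 1 ∧ a * c ∈ rootElements S) :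
    RootCommutatorCase S A ⁅B, C⁆ ∧ ⁅A, ⁅B, C⁆⁆ = C := by
  set V := ⁅B, C⁆ with hVdef
  have hV : V ∈ S := hc.1
  have hVA : RootCommutatorCase S A V := by
    rcases hS.pair A hA V hV with h | h | h
    · exact absurd (bot_comm h) (value_not_bot hS hB hA hc (RankOnePair_symm hp))
    · exact absurd (RankOnePair_symm h) (not_rankOne_value hS hC hV hA hc (bot_comm hAC) hVdef)
    · exact h
  refine ⟨hVA, ?_⟩
  set C' := ⁅A, V⁆ with hC'def
  have hC' : C' ∈ S := hVA.1
  have hVB : ∀ v ∈ V, ∀ b ∈ B, v * b = b * v := fun v hv b hb => commCase_central_left hc hv hb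
  have hVC : ∀ v ∈ V, ∀ c ∈ C, v * c = c * v := fun v hv c hc' => commCase_central_right hc hv hc'
  have hC'C : ⁅C', C⁆ = ⊥ := Subgroup.commutator_commutator_eq_bot_of_rotate
    (by rw [bot_of_commute hVC]; simp) (by rw [bot_comm hAC]; simp)
  have hBC' : RootCommutatorCase S B C' := by
    rcases hS.pair B hB C' hC' with h | h | h
    · exact absurd (bot_comm h) (value_not_bot hS hA hB hVA hp)
    · exact absurd (RankOnePair_symm h) (not_rankOne_value hS hV hC' hB hVA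
        (bot_of_commute hVB) hC'def)
    · exact h
  -- the second value equals V
  have hV' : ⁅B, C'⁆ = V := by
    obtain ⟨b, hb, hb1⟩ := RankOne.exists_ne_one (RankOnePair_symm hp)
    obtain ⟨a', ha', -, heq⟩ := hp.cond_right b⁻¹ (inv_mem hb) (inv_ne_one.mpr hb1)
    rw [inv_inv] at heq
    obtain ⟨c, hc', hc1⟩ := ne_one_of_mem_ne_bot (hS.ne_bot C hC)
    obtain ⟨Q, hQ, hBQ⟩ := hpart B hB
    have hne := CommCase.ne_one hc hS hB hQ hBQ hb hb1 hc' hc1
    set v₀ := ⁅b, c⁆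
    have hv₀ : v₀ ∈ V := Subgroup.commutator_mem_commutator hb hc'
    set c'' := ⁅a', v₀⁆
    have hc''C : c'' ∈ C' := Subgroup.commutator_mem_commutator ha' hv₀
    have hbot : ⁅conjBy (conjBy C b) a', B⁆ = ⊥ := by
      have h := (conjBy_bot_iff a').mpr ((conjBy_bot_iff b).mpr (bot_comm hAC))
      rwa [← heq, conjBy_cancel_inv] at h
    have hy : (a' * (b * c * b⁻¹) * a'⁻¹) * b = b * (a' * (b * c * b⁻¹) * a'⁻¹) :=
      commute_of_bot hbot (conjBy_mem (conjBy_mem hc' b) a') hb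
    have hydef : a' * (b * c * b⁻¹) * a'⁻¹ = v₀ * (c'' * c) := by
      have h1 : a'⁻¹ * c = c * a'⁻¹ := commute_of_bot hAC (inv_mem ha') hc'
      have h2 : c'' * v₀ = v₀ * c'' := commCase_central_right hVA hc''C hv₀
      rw [← mul_assoc v₀, ← h2, show b * c * b⁻¹ = v₀ * c by simp [v₀, commutatorElement_def]]
      calc a' * (v₀ * c) * a'⁻¹ = a' * v₀ * (c * a'⁻¹) := by group
        _ = a' * v₀ * (a'⁻¹ * c) := by rw [h1]
        _ = c'' * v₀ * c := by simp [c'', commutatorElement_def]; group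
    rw [hydef] at hy
    have h1 : ⁅b, c''⁆ * ⁅b, c⁆ = 1 := by
      have h2 : b * (c'' * c) = (c'' * c) * b := by
        have h3 : v₀ * b = b * v₀ := hVB v₀ hv₀ b hb
        apply mul_left_cancel (a := v₀)
        rw [← mul_assoc, h3, mul_assoc, ← hy, mul_assoc]
      have h4 : ⁅b, c'' * c⁆ = 1 := commutatorElement_eq_one_iff_mul_comm.mpr h2
      rw [show ⁅b, c'' * c⁆ = ⁅b, c''⁆ * (c'' * ⁅b, c⁆ * c''⁻¹) by
        simp [commutatorElement_def]; group] at h4
      rwa [commCase_central_right hVA hc''C hv₀, mul_inv_cancel_right] at h4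
    by_contra hne'
    obtain ⟨R, hR, hVR⟩ := hpart V hV
    have hi := inf_eq_bot_of_partner hS hR hBC'.1 hVR (Ne.symm hne')
    refine hne (Subgroup.mem_bot.mp (hi ▸ ⟨hv₀, ?_⟩))
    rw [show v₀ = ⁅b, c''⁆⁻¹ from eq_inv_of_mul_eq_one_right h1]
    exact Subgroup.inv_mem _ (Subgroup.commutator_mem_commutator hb hc''C)
  -- a sum in a member
  obtain ⟨c, hcC, hc1⟩ := ne_one_of_mem_ne_bot (hS.ne_bot C hC)
  obtain ⟨a, ha, ha1, hf1, F, hF, hf⟩ := hroot c hcC hc1
  set f := a * c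
  have hcB : RootCommutatorCase S C B := commCase_symm hc
  have hFB : IsRankOnePair F B := rankOne_of_sum hS hC hB hF hp hAC hcB ha ha1 hcC hf
  obtain ⟨Q, hQ, hBQ⟩ := hpart B hB
  have hAV := fun {x y : G} (hx : x ∈ A) (hx1 : x ≠ 1) (hy : y ∈ V) (hy1 : y ≠ 1) =>
    CommCase.ne_one hVA hS hA hB hp hx hx1 hy hy1
  have hFA : ⁅F, A⁆ = ⊥ := by
    have hfa : f * a = a * f := by
      show a * c * a = a * (a * c)
      rw [mul_assoc, ← commute_of_bot hAC ha hcC]
    rcases hS.pair F hF A hA with h | h | h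
    · exact h
    · exact absurd hfa (RankOne.not_commute h hf hf1 ha ha1)
    · exact absurd (commutatorElement_eq_one_iff_mul_comm.mpr hfa.symm)
        (CommCase.ne_one (commCase_symm h) hS hA hB hp ha ha1 hf hf1)
  obtain ⟨β₁, hβ₁, hβ₁1, hβ⟩ := hFB.cond_left f⁻¹ (inv_mem hf) (inv_ne_one.mpr hf1)
  rw [inv_inv] at hβ
  set β := β₁⁻¹ with hβdef
  have hβB : β ∈ B := inv_mem hβ₁
  obtain ⟨γ₁, hγ₁, -, hγ⟩ := hp.cond_left a⁻¹ (inv_mem ha) (inv_ne_one.mpr ha1)
  rw [inv_inv] at hγ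
  set β' := γ₁⁻¹ with hβ'def
  have hβ'B : β' ∈ B := inv_mem hγ₁
  -- for every b, f b f⁻¹ decomposes
  have hdec : ∀ b ∈ B, f * b * f⁻¹ = ⁅a, ⁅c, b⁆⁆ * ⁅c, b⁆ * (a * b * a⁻¹) := fun b hb => by
    show a * c * b * (a * c)⁻¹ = _
    simp only [commutatorElement_def]
    group
  have hmemC' : ∀ b ∈ B, ⁅c, b⁆ ∈ V ∧ ⁅a, ⁅c, b⁆⁆ ∈ C' := fun b hb => by
    have h : ⁅c, b⁆ ∈ V := by
      rw [hVdef, Subgroup.commutator_comm]; exact Subgroup.commutator_mem_commutator hcC hb
    exact ⟨h, Subgroup.commutator_mem_commutator ha h⟩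
  -- the shape of the conjugate in F
  have hshape : ∀ b ∈ B, ∃ v₁ ∈ V, β⁻¹ * (f * b * f⁻¹) * β =
      v₁ * ⁅a, ⁅c, b⁆⁆ * (β⁻¹ * (a * b * a⁻¹) * β) := by
    intro b hb
    obtain ⟨hv, hu⟩ := hmemC' b hb
    set u := ⁅a, ⁅c, b⁆⁆
    have hw : ⁅β⁻¹, u⁆ ∈ V := hV' ▸ Subgroup.commutator_mem_commutator (inv_mem hβB) hu
    refine ⟨⁅β⁻¹, u⁆ * ⁅c, b⁆, mul_mem hw hv, ?_⟩
    have h1 : ⁅c, b⁆ * β = β * ⁅c, b⁆ := hVB _ hv β hβB
    have h2 : ⁅c, b⁆ * u = u * ⁅c, b⁆ := (commCase_central_right hVA hu hv).symm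
    rw [hdec b hb, show β⁻¹ * (u * ⁅c, b⁆ * (a * b * a⁻¹)) * β =
      β⁻¹ * u * (⁅c, b⁆ * β) * (β⁻¹ * (a * b * a⁻¹) * β) by group, h1,
      show ⁅β⁻¹, u⁆ * ⁅c, b⁆ * u = ⁅β⁻¹, u⁆ * u * ⁅c, b⁆ by rw [mul_assoc, h2, ← mul_assoc]]
    simp only [commutatorElement_def]
    group
  have hinF : ∀ b ∈ B, β⁻¹ * (f * b * f⁻¹) * β ∈ F := fun b hb => by
    have h := conjBy_mem hb f
    rw [← hβ, mem_conjBy] at h
    simpa [hβdef, mul_assoc] using h
  -- the two translations agree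
  have hββ' : β = β' := by
    by_contra hne
    set γ := β⁻¹ * β'
    have hγ1 : γ ≠ 1 := fun h => hne (inv_mul_eq_one.mp h)
    obtain ⟨b, hb, hb1⟩ := RankOne.exists_ne_one (RankOnePair_symm hp)
    obtain ⟨v₁, hv₁, he⟩ := hshape b hb
    obtain ⟨hv, hu⟩ := hmemC' b hb
    set x := β⁻¹ * (a * b * a⁻¹) * β
    have hxmem : x ∈ conjBy A γ := by
      have h : a * b * a⁻¹ ∈ conjBy A β' := by rw [hγ]; exact conjBy_mem hb a
      rw [mem_conjBy] at h ⊢
      show γ⁻¹ * (β⁻¹ * (a * b * a⁻¹) * β) * γ ∈ A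
      simpa [γ, mul_assoc] using h
    have hx1 : x ≠ 1 := fun h => hb1 (conj_eq_one_iff.mp
      (show a * b * a⁻¹ = 1 by
        have h2 := congrArg (fun g => β * g * β⁻¹) h
        simpa [x, mul_assoc] using h2))
    have hpair : IsRankOnePair A (conjBy A γ) := by
      refine (RankOne.pair_of_ne hp (self_mem_unipotent A B) ⟨γ, Subgroup.mem_sup_right
        (mul_mem (inv_mem hβB) hβ'B), rfl⟩ fun h => hγ1 ?_).1
      exact RankOne.eq_one_of_fix (RankOnePair_symm hp) (mul_mem (inv_mem hβB) hβ'B) h.symm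
    have ht : (v₁ * ⁅a, ⁅c, b⁆⁆ * x) * a = a * (v₁ * ⁅a, ⁅c, b⁆⁆ * x) :=
      commute_of_bot hFA (he ▸ hinF b hb) ha
    have hk : ⁅a, v₁⁆ ∈ C' := Subgroup.commutator_mem_commutator ha hv₁
    have hfixcomm : ∀ y ∈ A, ⁅a, x⁆ * y = y * ⁅a, x⁆ := by
      have e1 : ⁅a, x⁆ = (⁅a, ⁅c, b⁆⁆⁻¹ * v₁⁻¹) * ⁅a, v₁⁆⁻¹ * (v₁ * ⁅a, ⁅c, b⁆⁆) := by
        have h1 : a * ⁅a, ⁅c, b⁆⁆ = ⁅a, ⁅c, b⁆⁆ * a := (commCase_central_left hVA hu ha).symm
        rw [commutatorElement_def, commutatorElement_def a v₁]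
        calc a * x * a⁻¹ * x⁻¹
            = ⁅a, ⁅c, b⁆⁆⁻¹ * (⁅a, ⁅c, b⁆⁆ * a) * x * a⁻¹ * x⁻¹ := by group
          _ = ⁅a, ⁅c, b⁆⁆⁻¹ * v₁⁻¹ * (v₁ * a * v₁⁻¹ * a⁻¹) *
                (a * (v₁ * ⁅a, ⁅c, b⁆⁆ * x)) * a⁻¹ * x⁻¹ := by rw [← h1]; group
          _ = ⁅a, ⁅c, b⁆⁆⁻¹ * v₁⁻¹ * (v₁ * a * v₁⁻¹ * a⁻¹) *
                ((v₁ * ⁅a, ⁅c, b⁆⁆ * x) * a) * a⁻¹ * x⁻¹ := by rw [← ht]
          _ = _ := by group
      have e2 : ⁅a, x⁆ = ⁅a, v₁⁆⁻¹ := by
        have h2 : ⁅a, v₁⁆⁻¹ * (v₁ * ⁅a, ⁅c, b⁆⁆) = (v₁ * ⁅a, ⁅c, b⁆⁆) * ⁅a, v₁⁆⁻¹ :=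
          ((show Commute ⁅a, v₁⁆ v₁ from commCase_central_right hVA hk hv₁).mul_right
            (IsRootSubgroupSet.commute_self hS hC' hk hu)).inv_left.eq
        rw [e1, mul_assoc, h2]
        group
      intro y hy
      rw [e2]
      exact commCase_central_left hVA (inv_mem hk) hy
    have hAfix := fix_of_commute hfixcomm
    rw [commutatorElement_def] at hAfix
    exact RankOne.commutator_not_fix hpair ha ha1 hxmem hx1 hAfix
  -- choose b with translation a
  set b := a⁻¹ * (β * a * β⁻¹) * a with hbdef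
  have hb : b ∈ B := by
    have h : β * a * β⁻¹ ∈ conjBy B a := by
      rw [← hγ, ← hββ']; exact conjBy_mem ha β
    exact mem_conjBy.mp h
  have hb1 : b ≠ 1 := fun h => ha1 (conj_eq_one_iff.mp (show β * a * β⁻¹ = 1 by
    have h2 := congrArg (fun g => a * g * a⁻¹) h
    simpa [hbdef, mul_assoc] using h2))
  obtain ⟨v₁, hv₁, he⟩ := hshape b hb
  obtain ⟨hv, hu⟩ := hmemC' b hb
  have hab : β⁻¹ * (a * b * a⁻¹) * β = a := by rw [hbdef]; group
  rw [hab] at he
  set u := ⁅a, ⁅c, b⁆⁆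
  have hu1 : u ≠ 1 := by
    refine hAV ha ha1 hv fun h => ?_
    refine CommCase.ne_one hc hS hB hQ hBQ hb hb1 hcC hc1 ?_
    rw [← commutatorElement_inv, h, inv_one]
  have hv₁1 : v₁ = 1 := by
    by_contra hne
    refine hAV ha ha1 hv₁ hne (commutatorElement_eq_one_iff_mul_comm.mpr ?_)
    have h1 : (v₁ * u * a) * a = a * (v₁ * u * a) := commute_of_bot hFA (he ▸ hinF b hb) ha
    have h2 : u * a = a * u := commCase_central_left hVA hu ha
    have h3 : a * v₁ * (u * a) = v₁ * a * (u * a) := by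
      calc a * v₁ * (u * a) = a * (v₁ * u * a) := by group
        _ = (v₁ * u * a) * a := h1.symm
        _ = v₁ * (u * a) * a := by group
        _ = v₁ * (a * u) * a := by rw [h2]
        _ = v₁ * a * (u * a) := by group
    exact mul_right_cancel h3
  rw [hv₁1, one_mul] at he
  have hs : c⁻¹ * u ∈ F := by
    have h := mul_mem (inv_mem hf) (he ▸ hinF b hb)
    rwa [show f⁻¹ * (u * a) = c⁻¹ * u by
      show (a * c)⁻¹ * (u * a) = _
      rw [commCase_central_left hVA hu ha]; group] at h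
  have hcu : c = u := by
    by_contra hne
    obtain ⟨b₁, hb₁, hb₁1⟩ := RankOne.exists_ne_one (RankOnePair_symm hp)
    refine RankOne.commutator_not_commute_right hFB hs (fun h => hne (inv_mul_eq_one.mp h))
      hb₁ hb₁1 fun y hy => hVB _ ?_ y hy
    rw [show ⁅c⁻¹ * u, b₁⁆ = c⁻¹ * ⁅u, b₁⁆ * c * ⁅c⁻¹, b₁⁆ by
      simp [commutatorElement_def]; group]
    have h1 : ⁅u, b₁⁆ ∈ V := by
      rw [← hV', Subgroup.commutator_comm]; exact Subgroup.commutator_mem_commutator hu hb₁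
    have h2 : ⁅c⁻¹, b₁⁆ ∈ V := by
      rw [hVdef, Subgroup.commutator_comm]
      exact Subgroup.commutator_mem_commutator (inv_mem hcC) hb₁
    rw [mul_assoc c⁻¹, hVC _ h1 c hcC, inv_mul_cancel_left]
    exact mul_mem h1 h2
  by_contra hne
  obtain ⟨R, hR, hCR⟩ := hpart C hC
  have hi := inf_eq_bot_of_partner hS hR hC' hCR (Ne.symm hne)
  exact hc1 (Subgroup.mem_bot.mp (hi ▸ ⟨hcC, hcu ▸ hu⟩))

end Cfsg.Agent.RootSub
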