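import Cfsg.Agent.RootSub.TransSL
import Cfsg.Agent.Classical.HermGroup

/-!
# The transvection groups of the special unitary group

The groups attached to isotropic points, inside the subgroup they generate, form a class of root
subgroups over the fixed field.
-/

set_option autoImplicit false
set_option linter.unusedSectionVars false

open Module
open Cfsg.Agent.Classical

namespace Cfsg.Agent.RootSub.TransFam

/-- A type in the lowest universe with m elements. -/
def SmallField (m : ℕ) : Type := Fin m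

variable {F : Type*} [Field F] {n q : ℕ} {σ : F →+* F}

/-- SU acting on column vectors. -/
def suRep (n : ℕ) (F : Type*) [Field F] (q : ℕ) : Cfsg.SU n F q →* ((Fin n → F) ≃ₗ[F] (Fin n → F)) :=
  (slRep n F).comp (Cfsg.SU n F q).subtype

theorem suRep_injective : Function.Injective (suRep n F q) :=
  Matrix.SpecialLinearGroup.toLin'_injective.comp (Subgroup.subtype_injective _)

theorem suRep_apply (g : Cfsg.SU n F q) (x : Fin n → F) : suRep n F q g x = g.1.1.mulVec x := rfl

theorem suRep_herm (hσq : ∀ x, σ x = x ^ q) (g : Cfsg.SU n F q) (u v : Fin n → F) :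
    hermB n σ (suRep n F q g u) (suRep n F q g v) = hermB n σ u v :=
  (mem_SU_iff hσq g.1).1 g.2 u v

/-- The pair of a point: (p, ε h(·, p)). -/
def suPair (n : ℕ) (σ : F →+* F) (ε : F) (p : Fin n → F) : (Fin n → F) × Dual F (Fin n → F) :=
  (p, ε • hermB n σ p)

/-- The pairs of the isotropic points. -/
def suPairs (n : ℕ) (σ : F →+* F) (ε : F) : Set ((Fin n → F) × Dual F (Fin n → F)) :=
  {r | ∃ p, p ≠ 0 ∧ hermB n σ p p = 0 ∧ r = suPair n σ ε p}

/-- A group of transvections of the generated subgroup is one of the whole group. -/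
theorem rootGrp_subgroupOf {L : Type*} [Field L] [Algebra L F] {V : Type*} [AddCommGroup V] [Module F V]
    {G : Type*} [Group G] {ι : G →* (V ≃ₗ[F] V)} (K : Subgroup G) {r : V × Dual F V} (hr : r.2 r.1 = 0) :
    rootGrp L (ι.comp K.subtype) r = (rootGrp L ι r).subgroupOf K := by
  ext g
  rw [Subgroup.mem_subgroupOf, mem_rootGrp hr, mem_rootGrp hr]
  rfl

variable [Fintype F]

/-- A point of unit height. -/
theorem exists_dual_point (hσ : Herm.IsInvol σ) {p : Fin n → F} (hp : p ≠ 0) :
    ∃ z, hermB n σ p z = 1 := by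
  obtain ⟨y, hy⟩ : ∃ y, hermB n σ p y ≠ 0 := by
    by_contra h
    push Not at h
    exact hp ((hermB_isHerm hσ n).nondeg p h)
  exact ⟨(hermB n σ p y)⁻¹ • y, by rw [map_smul, smul_eq_mul, inv_mul_cancel₀ hy]⟩

/-- The transvection subgroup of a point is its group of ε-multiples of fixed elements. -/
theorem suRoot_eq (hσ : Herm.IsInvol σ) (hσq : ∀ x, σ x = x ^ q) {ε : F} (hε0 : ε ≠ 0)
    (hε : σ ε = -ε) {L : Type} [Field L] [Algebra L F]
    (hL : ∀ a : F, σ a = a ↔ ∃ c : L, algebraMap L F c = a) {p : Fin n → F} (hp : p ≠ 0)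
    (hiso : hermB n σ p p = 0) :
    Subgroup.closure {g : Cfsg.SU n F q |
        (∀ v : Fin n → F, ∃ c : F, Matrix.mulVec g.1.1 v = v + c • p) ∧
        ∀ v : Fin n → F, Cfsg.hermForm n F q v p = 0 → Matrix.mulVec g.1.1 v = v} =
      rootGrp L (suRep n F q) (suPair n σ ε p) := by
  refine congrArg Subgroup.closure (Set.ext fun g => ⟨?_, ?_⟩)
  · rintro ⟨h1, h2⟩
    obtain ⟨z, hz⟩ := exists_dual_point hσ hp
    obtain ⟨l, hl⟩ := h1 z
    have hzp : hermB n σ z p = 1 := by
      rw [← (hermB_isHerm hσ n).symm p z, hz, map_one]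
    have hfix : σ l = -l := by
      have h := suRep_herm hσq g z z
      rw [suRep_apply, hl] at h
      simp only [map_add, map_smulₛₗ, LinearMap.add_apply, LinearMap.smul_apply, smul_eq_mul,
        RingHom.id_apply, hz, hzp, hiso, mul_zero, mul_one, add_zero] at h
      linear_combination h
    obtain ⟨c, hc⟩ := (hL (l * ε⁻¹)).mp (by rw [map_mul, map_inv₀, hfix, hε, inv_neg, neg_mul_neg])
    refine ⟨c, fun x => ?_⟩
    have hx : Cfsg.hermForm n F q (x - hermB n σ p x • z) p = 0 := by
      rw [hermForm_eq hσq, map_sub, map_smul, smul_eq_mul, hz, mul_one, sub_self]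
    have h3 := h2 _ hx
    rw [← suRep_apply, map_sub, map_smul, suRep_apply g z, hl] at h3
    rw [sub_eq_iff_eq_add] at h3
    rw [h3, hc]
    show _ = x + (l * ε⁻¹ * (ε * hermB n σ p x)) • p
    rw [show l * ε⁻¹ * (ε * hermB n σ p x) = hermB n σ p x * l by field_simp, smul_add, smul_smul]
    abel
  · rintro ⟨c, hc⟩
    refine ⟨fun v => ⟨_, hc v⟩, fun v hv => ?_⟩
    rw [hermForm_eq hσq] at hv
    have := hc v
    rw [show (suPair n σ ε p).2 v = ε * hermB n σ p v from rfl, hv, mul_zero, mul_zero, zero_smul,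
      add_zero] at this
    exact this

theorem suFam (hσ : Herm.IsInvol σ) (hσq : ∀ x, σ x = x ^ q) (hn : 2 ≤ n) {ε : F} (hε0 : ε ≠ 0)
    (hε : σ ε = -ε) {L : Type} [Field L] [Algebra L F]
    (hL : ∀ a : F, σ a = a ↔ ∃ c : L, algebraMap L F c = a) (K : Subgroup (Cfsg.SU n F q))
    (hK : K = ⨆ r ∈ suPairs n σ ε, rootGrp L (suRep n F q) r) :
    Fam L ((suRep n F q).comp K.subtype) (suPairs n σ ε) := by
  have hH := hermB_isHerm hσ n
  have hroot : ∀ r ∈ suPairs n σ ε, r.1 ≠ 0 ∧ r.2 ≠ 0 ∧ r.2 r.1 = 0 := by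
    rintro _ ⟨p, hp, hiso, rfl⟩
    refine ⟨hp, fun h => hp (hH.nondeg p fun y => ?_), ?_⟩
    · have := congrArg (fun f : Dual F (Fin n → F) => f y) h
      simpa [suPair, hε0] using this
    · show ε * hermB n σ p p = 0
      rw [hiso, mul_zero]
  refine
    { inj := suRep_injective.comp (Subgroup.subtype_injective _)
      nonempty := ?_
      root := hroot
      full := ?_
      conj := ?_
      mu := ?_
      asym := ?_
      gen := ?_
      chain := ?_ }
  · obtain ⟨a, ha⟩ := Herm.exists_norm hσ (a := (-1 : F)) (by rw [map_neg, map_one])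
    refine ⟨_, Pi.single ⟨0, by omega⟩ 1 + a • Pi.single ⟨1, by omega⟩ 1, fun h => ?_, ?_, rfl⟩
    · simpa [Fin.ext_iff] using congrFun h ⟨0, by omega⟩
    · simp only [map_add, map_smulₛₗ, LinearMap.add_apply, LinearMap.smul_apply, smul_eq_mul,
        RingHom.id_apply, isON_single n _ _]
      simp [Fin.ext_iff]
      linear_combination ha
  · rintro _ ⟨p, hp, hiso, rfl⟩ c
    have hcfix : σ (algebraMap L F c) = algebraMap L F c := (hL _).mpr ⟨c, rfl⟩
    set a := algebraMap L F c with ha
    have hv : (a • (suPair n σ ε p).2) p = 0 := by simp [suPair, hiso]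
    have happ : ∀ x, (LinearMap.toMatrix' (LinearEquiv.transvection hv).toLinearMap).mulVec x =
        x + (a * (ε * hermB n σ p x)) • p := fun x => by
      rw [LinearMap.toMatrix'_mulVec]
      simp [LinearMap.transvection.apply, suPair]
    have hdet : (LinearMap.toMatrix' (LinearEquiv.transvection hv).toLinearMap).det = 1 := by
      rw [LinearMap.det_toMatrix']
      have := congrArg Units.val (LinearEquiv.transvection.det_eq_one hv)
      rwa [LinearEquiv.coe_det, Units.val_one] at this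
    have hmem : (⟨_, hdet⟩ : Matrix.SpecialLinearGroup (Fin n) F) ∈ Cfsg.SU n F q := by
      refine (mem_SU_iff hσq _).2 fun u v => ?_
      show hermB n σ (Matrix.mulVec _ u) (Matrix.mulVec _ v) = _
      rw [happ, happ]
      simp only [map_add, map_smulₛₗ, LinearMap.add_apply, LinearMap.smul_apply, smul_eq_mul,
        RingHom.id_apply, map_mul, hiso, hcfix, hε, mul_zero, add_zero, hH.symm p u]
      ring
    have hTv : Tv (suRep n F q) (suPair n σ ε p) c ⟨_, hmem⟩ := fun x => happ x
    refine ⟨⟨_, hK ▸ Subgroup.mem_iSup_of_mem (suPair n σ ε p) (Subgroup.mem_iSup_of_mem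
      ⟨p, hp, hiso, rfl⟩ (Subgroup.subset_closure ⟨c, hTv⟩))⟩, hTv⟩
  · rintro g _ ⟨p, hp, hiso, rfl⟩
    refine ⟨suRep n F q g p, fun h => hp ((suRep n F q g).map_eq_zero_iff.mp h),
      by rw [suRep_herm hσq]; exact hiso, Prod.ext rfl (LinearMap.ext fun x => ?_)⟩
    show ε * hermB n σ p ((suRep n F q g).symm x) = ε * hermB n σ (suRep n F q g p) x
    conv_rhs => rw [← (suRep n F q g).apply_symm_apply x, suRep_herm hσq]
  · rintro _ ⟨p, hp, hp', rfl⟩ _ ⟨r, hr, hr', rfl⟩
    refine (hL _).mp ?_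
    show σ (ε * hermB n σ p r * (ε * hermB n σ r p)) = ε * hermB n σ p r * (ε * hermB n σ r p)
    rw [map_mul, map_mul, map_mul, hε, hH.symm, hH.symm]
    ring
  · rintro _ ⟨p, -, -, rfl⟩ _ ⟨r, -, -, rfl⟩ h1 h2
    refine absurd ?_ h1
    show ε * hermB n σ p r = 0
    have h3 : hermB n σ r p = 0 := (mul_eq_zero.mp h2).resolve_left hε0
    rw [(Herm.eq_zero_comm hH).mp h3, mul_zero]
  · have hle : ∀ r ∈ suPairs n σ ε, rootGrp L (suRep n F q) r ≤ K := fun r hr =>
      hK ▸ le_iSup₂ (f := fun r (_ : r ∈ suPairs n σ ε) => rootGrp L (suRep n F q) r) r hr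
    refine Subgroup.map_injective K.subtype_injective ?_
    rw [Subgroup.map_iSup, ← MonoidHom.range_eq_map, Subgroup.range_subtype]
    conv_rhs => rw [hK]
    refine iSup_congr fun r => ?_
    rw [Subgroup.map_iSup]
    refine iSup_congr fun hr => ?_
    rw [rootGrp_subgroupOf K (hroot r hr).2.2, Subgroup.map_subgroupOf_eq_of_le (hle r hr)]
  · rintro _ ⟨p, hp, hp', rfl⟩ _ ⟨r, hr, hr', rfl⟩
    by_cases hdep : ∃ a : F, r = a • p
    · obtain ⟨a, rfl⟩ := hdep
      left
      have ha : a ≠ 0 := fun h => hr (by rw [h, zero_smul])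
      obtain ⟨d, hd⟩ := (hL (a * σ a)).mp (by rw [map_mul, hσ.invol, mul_comm])
      have hd0 : d ≠ 0 := fun h => mul_ne_zero ha ((map_ne_zero σ).mpr ha) (by rw [← hd, h, map_zero])
      have hval : ∀ (c : L) (x : Fin n → F),
          (algebraMap L F c * (suPair n σ ε (a • p)).2 x) • (suPair n σ ε (a • p)).1 =
            (algebraMap L F (c * d) * (suPair n σ ε p).2 x) • (suPair n σ ε p).1 := by
        intro c x
        show (algebraMap L F c * (ε * hermB n σ (a • p) x)) • (a • p) =
          (algebraMap L F (c * d) * (ε * hermB n σ p x)) • p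
        rw [map_smulₛₗ, LinearMap.smul_apply, smul_eq_mul, smul_smul, map_mul, hd]
        congr 1
        ring
      refine congrArg Subgroup.closure (Set.ext fun g => ⟨?_, ?_⟩)
      · rintro ⟨c, hc⟩
        refine ⟨c * d⁻¹, fun x => (hc x).trans ?_⟩
        rw [hval, inv_mul_cancel_right₀ hd0]
      · rintro ⟨c, hc⟩
        exact ⟨c * d, fun x => (hc x).trans (by rw [hval])⟩
    right
    obtain ⟨z, hz⟩ := exists_dual_point hσ hr
    obtain ⟨x, hx1, hx2⟩ : ∃ x, hermB n σ p x = 1 ∧ hermB n σ r x = 1 := by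
      obtain ⟨y, hy, hy'⟩ : ∃ y, hermB n σ r y = 0 ∧ hermB n σ p y ≠ 0 := by
        by_contra hcon
        push Not at hcon
        have hpr : p = σ (hermB n σ p z) • r := by
          refine sub_eq_zero.mp (hH.nondeg _ fun y => ?_)
          have := hcon (y - hermB n σ r y • z) (by rw [map_sub, map_smul, smul_eq_mul, hz, mul_one, sub_self])
          rw [map_sub, map_smul, smul_eq_mul] at this
          rw [map_sub, map_smulₛₗ, LinearMap.sub_apply, LinearMap.smul_apply, smul_eq_mul, hσ.invol]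
          linear_combination this
        have hne : σ (hermB n σ p z) ≠ 0 := fun h => hp (by rw [hpr, h, zero_smul])
        refine hdep ⟨(σ (hermB n σ p z))⁻¹, ?_⟩
        set a := σ (hermB n σ p z)
        rw [hpr, smul_smul, inv_mul_cancel₀ hne, one_smul]
      refine ⟨z + ((1 - hermB n σ p z) / hermB n σ p y) • y, ?_, ?_⟩
      · rw [map_add, map_smul, smul_eq_mul, div_mul_cancel₀ _ hy', add_sub_cancel]
      · rw [map_add, map_smul, smul_eq_mul, hy, mul_zero, add_zero, hz]
    obtain ⟨c, hc⟩ := Herm.exists_trace hσ (a := -hermB n σ x x) (by rw [map_neg, Herm.fix_self hH])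
    obtain ⟨c', hc', hc'r⟩ : ∃ c', c' + σ c' = -hermB n σ x x ∧ 1 + c' * hermB n σ r p ≠ 0 := by
      by_cases h : 1 + c * hermB n σ r p = 0
      · refine ⟨c + ε, by rw [map_add, hε]; linear_combination hc, fun h' => ?_⟩
        have hk : hermB n σ r p ≠ 0 := fun h0 => by simp [h0] at h
        have : ε * hermB n σ r p = 0 := by linear_combination h' - h
        exact mul_ne_zero hε0 hk this
      · exact ⟨c, hc, h⟩
    set u := x + c' • p with hu
    have hup : hermB n σ p u = 1 := by simp [hu, hx1, hp']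
    have hru : hermB n σ r u ≠ 0 := by simpa [hu, hx2] using hc'r
    have hxp : hermB n σ x p = 1 := by rw [← hH.symm p x, hx1, map_one]
    have huu : hermB n σ u u = 0 := by
      simp only [hu, map_add, map_smulₛₗ, LinearMap.add_apply, LinearMap.smul_apply, smul_eq_mul,
        RingHom.id_apply, hp', hx1, hxp]
      linear_combination hc'
    refine ⟨_, ⟨u, fun h => hru (by rw [h, map_zero]), huu, rfl⟩, ⟨?_, ?_⟩, ?_, ?_⟩
    · exact mul_ne_zero hε0 (by show hermB n σ p u ≠ 0; rw [hup]; exact one_ne_zero)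
    · exact mul_ne_zero hε0 (by show hermB n σ u p ≠ 0; rw [← hH.symm p u, hup, map_one]; exact one_ne_zero)
    · exact mul_ne_zero hε0 fun h => hru ((Herm.eq_zero_comm hH).mp h)
    · exact mul_ne_zero hε0 hru

end Cfsg.Agent.RootSub.TransFam

namespace Cfsg.Agent.RootSub.TransFam

variable {F : Type*} [Field F] [Fintype F]

/-- The unitary transvection groups inside the group they generate. -/
theorem su_result {n q : ℕ} (hF : Fintype.card F = q ^ 2) (hn : 2 ≤ n) :
    let S0 : Set (Subgroup (Cfsg.SU n F q)) :=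
      {A | ∃ p : Fin n → F, p ≠ 0 ∧ Cfsg.hermForm n F q p p = 0 ∧
        A = Subgroup.closure {g : Cfsg.SU n F q |
          (∀ v : Fin n → F, ∃ c : F, Matrix.mulVec g.1.1 v = v + c • p) ∧
          ∀ v : Fin n → F, Cfsg.hermForm n F q v p = 0 → Matrix.mulVec g.1.1 v = v}}
    let S : Set (Subgroup ↥(⨆ B ∈ S0, B)) := (fun A => A.subgroupOf (⨆ B ∈ S0, B)) '' S0
    IsRootSubgroupClass S ∧ IsDegenerateRootSet S ∧
      (∃ (L : Type) (_ : Field L) (_ : Fintype L), Fintype.card L = q ∧ IsKRootSubgroupSet L S) ∧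
      IsConnectedFamily (FAdj S) S := by
  intro S0 S
  obtain ⟨σ, hσq, hσ, hcard, -⟩ := Classical.exists_powHom hF
  obtain ⟨ε, hε0, hε⟩ := Herm.exists_skew hσ
  let m := Nat.card (Herm.fixField σ)
  let e : Herm.fixField σ ≃ SmallField m := Finite.equivFin _
  letI : Field (SmallField m) := e.symm.field
  letI : Fintype (SmallField m) := inferInstanceAs (Fintype (Fin m))
  let er : SmallField m ≃+* Herm.fixField σ := e.symm.ringEquiv
  letI : Algebra (SmallField m) F := ((Herm.fixField σ).subtype.comp er.toRingHom).toAlgebra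
  have hL : ∀ a : F, σ a = a ↔ ∃ c : SmallField m, algebraMap (SmallField m) F c = a := by
    intro a
    constructor
    · intro ha
      exact ⟨er.symm ⟨a, ha⟩, congrArg Subtype.val (er.apply_symm_apply ⟨a, ha⟩)⟩
    · rintro ⟨c, rfl⟩
      exact (er c).2
  have hS0 : S0 = rootGrp (SmallField m) (suRep n F q) '' suPairs n σ ε := by
    ext A
    constructor
    · rintro ⟨p, hp, hiso, rfl⟩
      rw [Classical.hermForm_eq hσq] at hiso
      exact ⟨_, ⟨p, hp, hiso, rfl⟩, (suRoot_eq hσ hσq hε0 hε hL hp hiso).symm⟩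
    · rintro ⟨_, ⟨p, hp, hiso, rfl⟩, rfl⟩
      exact ⟨p, hp, by rwa [Classical.hermForm_eq hσq], (suRoot_eq hσ hσq hε0 hε hL hp hiso).symm⟩
  have hK : (⨆ B ∈ S0, B) = ⨆ r ∈ suPairs n σ ε, rootGrp (SmallField m) (suRep n F q) r := by
    rw [hS0, iSup_image]
  have hFam := suFam hσ hσq hn hε0 hε hL (⨆ B ∈ S0, B) hK
  have hSeq : S = groups (SmallField m) ((suRep n F q).comp (⨆ B ∈ S0, B).subtype) (suPairs n σ ε) := by
    show (fun A => A.subgroupOf (⨆ B ∈ S0, B)) '' S0 = rootGrp (SmallField m) _ '' _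
    conv_lhs => arg 2; rw [hS0]
    rw [Set.image_image]
    exact Set.image_congr fun r hr => (rootGrp_subgroupOf _ (hFam.root r hr).2.2).symm
  rw [hSeq]
  refine ⟨hFam.isRootSubgroupClass, hFam.isDegenerate ?_,
    ⟨SmallField m, inferInstance, inferInstance, ?_, hFam.isKRootSubgroupSet⟩, hFam.connected⟩
  · rintro _ ⟨p, -, -, rfl⟩ _ ⟨r, -, -, rfl⟩ h
    have h' : Classical.hermB n σ p r = 0 := (mul_eq_zero.mp h).resolve_left hε0
    show ε * Classical.hermB n σ r p = 0
    rw [(Herm.eq_zero_comm (Classical.hermB_isHerm hσ n)).mp h', mul_zero]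
  · exact (Fintype.card_fin m).trans hcard

end Cfsg.Agent.RootSub.TransFam
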