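import Cfsg.Agent.RootSub.TransSL
import Cfsg.Agent.Classical.SympGroup

/-!
# The transvection groups of the symplectic group
-/

set_option autoImplicit false
set_option linter.unusedSectionVars false

open Module

namespace Cfsg.Agent.RootSub.TransFam

variable {F : Type*} [Field F] {m : ℕ}

/-- The symplectic group acting on column vectors. -/
noncomputable def spRep (m : ℕ) (F : Type*) [Field F] :
    Matrix.symplecticGroup (Fin m) F →* ((Fin m ⊕ Fin m → F) ≃ₗ[F] (Fin m ⊕ Fin m → F)) :=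
  (Subgroup.subtype _).comp (Classical.spEquiv m F).toMonoidHom

theorem spRep_apply (A : Matrix.symplecticGroup (Fin m) F) (x : Fin m ⊕ Fin m → F) :
    spRep m F A x = A.1.mulVec x := rfl

/-- The pairs (p, B(·, p)). -/
def spPairs (m : ℕ) (F : Type*) [Field F] :
    Set ((Fin m ⊕ Fin m → F) × Dual F (Fin m ⊕ Fin m → F)) :=
  {q | q.1 ≠ 0 ∧ q.2 = (Classical.sympB m F).flip q.1}

theorem sp_flip_ne {p : Fin m ⊕ Fin m → F} (hp : p ≠ 0) :
    ((Classical.sympB m F).flip p : Dual F (Fin m ⊕ Fin m → F)) ≠ 0 :=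
  fun h => hp (Classical.sympB_nondeg.2 p fun x => congrArg (fun f : Dual F _ => f x) h)

theorem spPairs_symm {q r : (Fin m ⊕ Fin m → F) × Dual F (Fin m ⊕ Fin m → F)}
    (hq : q ∈ spPairs m F) (hr : r ∈ spPairs m F) (h : q.2 r.1 = 0) : r.2 q.1 = 0 := by
  rw [hq.2] at h
  rw [hr.2]
  show Classical.sympB m F q.1 r.1 = 0
  rw [Classical.Alt.neg' Classical.sympB_isAlt r.1 q.1]
  exact neg_eq_zero.mpr h

theorem spFam (hm : 1 ≤ m) : Fam F (spRep m F) (spPairs m F) where
  inj := (Subgroup.subtype_injective _).comp (Classical.spEquiv m F).injective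
  nonempty := ⟨(Pi.single (Sum.inl ⟨0, hm⟩) 1,
    (Classical.sympB m F).flip (Pi.single (Sum.inl ⟨0, hm⟩) 1)), by simp, rfl⟩
  root q hq := ⟨hq.1, hq.2 ▸ sp_flip_ne hq.1, by rw [hq.2]; exact Classical.sympB_isAlt q.1⟩
  full q hq c := ⟨⟨_, Classical.sympTransvection_mem q.1 c⟩, fun x => by
    rw [spRep_apply, Classical.sympTransvection_mulVec, hq.2]
    rfl⟩
  conj g q hq := by
    refine ⟨fun h => hq.1 ((spRep m F g).map_eq_zero_iff.mp h), LinearMap.ext fun x => ?_⟩
    show q.2 ((spRep m F g).symm x) = Classical.sympB m F x (spRep m F g q.1)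
    rw [hq.2]
    conv_rhs => rw [← (spRep m F g).apply_symm_apply x]
    exact ((Classical.spEquiv m F g).2 _ _).symm
  mu q _ r _ := ⟨_, rfl⟩
  asym q hq r hr h1 h2 := absurd (spPairs_symm hr hq h2) h1
  gen := by
    rw [eq_top_iff]
    intro g _
    have hg : (Classical.spEquiv m F g : (Fin m ⊕ Fin m → F) ≃ₗ[F] (Fin m ⊕ Fin m → F)) ∈
        Classical.Alt.TG (Classical.sympB m F) ⊤ := by
      rw [Classical.Alt.TG_top Classical.sympB_isAlt Classical.sympB_nondeg]
      exact (Classical.spEquiv m F g).2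
    have hle : Classical.Alt.TG (Classical.sympB m F) ⊤ ≤
        (⨆ q ∈ spPairs m F, rootGrp F (spRep m F) q).map (spRep m F) := by
      refine (Subgroup.closure_le _).mpr ?_
      rintro t ⟨v, -, c, ht⟩
      by_cases hv : v = 0
      · exact ⟨1, one_mem _, LinearEquiv.ext fun x => by simp [ht, hv]⟩
      refine ⟨⟨_, Classical.sympTransvection_mem v c⟩,
        Subgroup.mem_iSup_of_mem (v, (Classical.sympB m F).flip v) (Subgroup.mem_iSup_of_mem ⟨hv, rfl⟩
          (Subgroup.subset_closure ⟨c, fun x => ?_⟩)), LinearEquiv.ext fun x => ?_⟩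
      · rw [spRep_apply, Classical.sympTransvection_mulVec]
        rfl
      · rw [spRep_apply, Classical.sympTransvection_mulVec, ht]
    obtain ⟨h, hh, he⟩ := hle hg
    have : h = g := ((Subgroup.subtype_injective _).comp (Classical.spEquiv m F).injective) he
    exact this ▸ hh
  chain q hq r hr := by
    obtain ⟨x, h1, h2⟩ := exists_both (hq.2 ▸ sp_flip_ne hq.1 : q.2 ≠ 0)
      (hr.2 ▸ sp_flip_ne hr.1 : r.2 ≠ 0)
    have hx : x ≠ 0 := fun h => h1 (by rw [h, map_zero])
    exact .inr ⟨(x, (Classical.sympB m F).flip x), ⟨hx, rfl⟩, ⟨h1, fun h => h1 (spPairs_symm ⟨hx, rfl⟩ hq h)⟩,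
      fun h => h2 (spPairs_symm ⟨hx, rfl⟩ hr h), h2⟩

theorem spGroups_eq :
    {A : Subgroup (Matrix.symplecticGroup (Fin m) F) | ∃ p : Fin m ⊕ Fin m → F, p ≠ 0 ∧
        A = Subgroup.closure {g : Matrix.symplecticGroup (Fin m) F | ∃ c : F, ∀ v : Fin m ⊕ Fin m → F,
          (g : Matrix (Fin m ⊕ Fin m) (Fin m ⊕ Fin m) F).mulVec v =
            v + (c * dotProduct v ((Matrix.J (Fin m) F).mulVec p)) • p}} =
      groups F (spRep m F) (spPairs m F) := by
  have key : ∀ p : Fin m ⊕ Fin m → F,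
      Subgroup.closure {g : Matrix.symplecticGroup (Fin m) F | ∃ c : F, ∀ v : Fin m ⊕ Fin m → F,
          (g : Matrix (Fin m ⊕ Fin m) (Fin m ⊕ Fin m) F).mulVec v =
            v + (c * dotProduct v ((Matrix.J (Fin m) F).mulVec p)) • p} =
        rootGrp F (spRep m F) (p, (Classical.sympB m F).flip p) := by
    intro p
    refine congrArg Subgroup.closure (Set.ext fun g => exists_congr fun c => forall_congr' fun v => ?_)
    rw [spRep_apply, show (Classical.sympB m F).flip p v = Classical.sympB m F v p from rfl,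
      Classical.sympB_apply]
    rfl
  ext A
  constructor
  · rintro ⟨p, hp, rfl⟩
    exact ⟨_, ⟨hp, rfl⟩, (key p).symm⟩
  · rintro ⟨⟨p, φ⟩, ⟨hp, hφ⟩, rfl⟩
    dsimp only at hφ
    subst hφ
    exact ⟨p, hp, (key p).symm⟩

end Cfsg.Agent.RootSub.TransFam
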