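import Cfsg.Agent.RootSub.Partition

/-!
# Three members A, B, C with two commutator cases and A, C commuting
-/

namespace Cfsg.Agent.RootSub

open Cfsg
open scoped commutatorElement

variable {G : Type*} [Group G] {S : Set (Subgroup G)}

theorem le_normalizer_of_commute {H N : Subgroup G} (h : ⁅H, N⁆ = ⊥) :
    H ≤ Subgroup.normalizer (N : Set G) := by
  rw [Subgroup.le_normalizer_iff_commutator_le_right, h]
  exact bot_le

/-- Commutators with a join. -/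
theorem commutator_sup_le' {H₁ H₂ K N : Subgroup G} (hn₁ : H₁ ≤ Subgroup.normalizer (N : Set G))
    (hn₂ : H₂ ≤ Subgroup.normalizer (N : Set G)) (h₁ : ⁅H₁, K⁆ ≤ N) (h₂ : ⁅H₂, K⁆ ≤ N) :
    ⁅H₁ ⊔ H₂, K⁆ ≤ N := by
  rw [Subgroup.commutator_le]
  let T : Subgroup G :=
    { carrier := {x | x ∈ Subgroup.normalizer (N : Set G) ∧ ∀ k ∈ K, ⁅x, k⁆ ∈ N}
      one_mem' := ⟨one_mem _, fun k _ => by simp⟩
      mul_mem' := fun {x y} hx hy => ⟨mul_mem hx.1 hy.1, fun k hk => by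
        rw [show ⁅x * y, k⁆ = x * ⁅y, k⁆ * x⁻¹ * ⁅x, k⁆ by simp [commutatorElement_def]; group]
        exact mul_mem ((Subgroup.mem_normalizer_iff.mp hx.1 _).mp (hy.2 k hk)) (hx.2 k hk)⟩
      inv_mem' := fun {x} hx => ⟨inv_mem hx.1, fun k hk => by
        rw [show ⁅x⁻¹, k⁆ = x⁻¹ * ⁅x, k⁆⁻¹ * x⁻¹⁻¹ by simp [commutatorElement_def]; group]
        exact (Subgroup.mem_normalizer_iff.mp (inv_mem hx.1) _).mp (inv_mem (hx.2 k hk))⟩ }
  have hle : H₁ ⊔ H₂ ≤ T := sup_le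
    (fun x hx => ⟨hn₁ hx, fun k hk => h₁ (Subgroup.commutator_mem_commutator hx hk)⟩)
    (fun x hx => ⟨hn₂ hx, fun k hk => h₂ (Subgroup.commutator_mem_commutator hx hk)⟩)
  exact fun x hx k hk => (hle hx).2 k hk

theorem commutator_sup_right_le {H₁ H₂ K N : Subgroup G}
    (hn₁ : H₁ ≤ Subgroup.normalizer (N : Set G))
    (hn₂ : H₂ ≤ Subgroup.normalizer (N : Set G)) (h₁ : ⁅K, H₁⁆ ≤ N) (h₂ : ⁅K, H₂⁆ ≤ N) :
    ⁅K, H₁ ⊔ H₂⁆ ≤ N := by
  rw [Subgroup.commutator_comm] at h₁ h₂ ⊢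
  exact commutator_sup_le' hn₁ hn₂ h₁ h₂

theorem bot_sup {H₁ H₂ K : Subgroup G} (h₁ : ⁅H₁, K⁆ = ⊥) (h₂ : ⁅H₂, K⁆ = ⊥) :
    ⁅H₁ ⊔ H₂, K⁆ = ⊥ := by
  rw [Subgroup.commutator_eq_bot_iff_le_centralizer] at h₁ h₂ ⊢
  exact sup_le h₁ h₂

theorem isMulCommutative_of_bot {X : Subgroup G} (h : ⁅X, X⁆ = ⊥) : IsMulCommutative X :=
  ⟨⟨fun x y => Subtype.ext (commute_of_bot h x.2 y.2)⟩⟩

theorem not_isMulCommutative_of_ne {X : Subgroup G} {x y : G} (hx : x ∈ X) (hy : y ∈ X)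
    (hne : ⁅x, y⁆ ≠ 1) : ¬ IsMulCommutative X := fun h =>
  hne (commutatorElement_eq_one_iff_mul_comm.mpr
    (congrArg Subtype.val (h.is_comm.comm ⟨x, hx⟩ ⟨y, hy⟩)))

/-- The facts about one half A, E of the configuration. -/
theorem half (hS : IsRootSubgroupSet S) {A B C : Subgroup G} (hA : A ∈ S) (hC : C ∈ S)
    (hBC : RootCommutatorCase S B C) (hAC : ⁅C, A⁆ = ⊥) {b : G} (hb : b ∈ B) (hb1 : b ≠ 1) :
    ⁅⁅A, ⁅B, C⁆⁆, A ⊔ conjBy C b⁻¹⁆ = ⊥ ∧ ⁅A, conjBy C b⁻¹⁆ ≤ ⁅A, ⁅B, C⁆⁆ ∧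
      ⁅A, ⁅B, C⁆⁆ ≤ ⁅A, conjBy C b⁻¹⁆ ∧ C ⊔ conjBy C b⁻¹ = C ⊔ ⁅B, C⁆ ∧
      ⁅⁅A, ⁅B, C⁆⁆, C⁆ = ⊥ := by
  set E := ⁅B, C⁆ with hEdef
  set F := ⁅A, E⁆ with hFdef
  have hE : E ∈ S := hBC.1
  have hCE : ⁅E, C⁆ = ⊥ := CommCase.value_bot_right hBC
  have hF : ⁅F, A⁆ = ⊥ ∧ ⁅F, E⁆ = ⊥ := by
    rcases hS.pair A hA E hE with h | h | h
    · rw [hFdef, h]; simp
    · exact absurd (RankOnePair_symm h) (not_rankOne_value hS hC hE hA hBC hAC hEdef)
    · exact ⟨CommCase.value_bot_left h, CommCase.value_bot_right h⟩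
  have hFC : ⁅F, C⁆ = ⊥ := Subgroup.commutator_commutator_eq_bot_of_rotate
    (by rw [hCE]; simp) (by rw [hAC]; simp)
  have hsup : C ⊔ conjBy C b⁻¹ = C ⊔ E := by
    rw [CommCase.sup_conj (commCase_symm hBC) hS (inv_mem hb) (inv_ne_one.mpr hb1),
      Subgroup.commutator_comm C B]
  have hCb : conjBy C b⁻¹ ≤ C ⊔ E := hsup ▸ le_sup_right
  have hFCb : ⁅F, conjBy C b⁻¹⁆ = ⊥ := by
    rw [eq_bot_iff]
    refine (Subgroup.commutator_mono le_rfl hCb).trans (eq_bot_iff.mp ?_)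
    rw [Subgroup.commutator_comm]
    exact bot_sup (bot_comm hFC) (bot_comm hF.2)
  have hval : ∀ a ∈ A, ∀ c ∈ C, ⁅a, b⁻¹ * c * b⁆ = ⁅a, ⁅b⁻¹, c⁆⁆ := by
    intro a ha c hc
    have he : ⁅b⁻¹, c⁆ ∈ E := Subgroup.commutator_mem_commutator (inv_mem hb) hc
    have h1 : c * ⁅b⁻¹, c⁆ = ⁅b⁻¹, c⁆ * c := (commute_of_bot hCE he hc).symm
    have h2 : c * a = a * c := commute_of_bot hAC hc ha
    rw [show b⁻¹ * c * b = ⁅b⁻¹, c⁆ * c by simp [commutatorElement_def]]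
    rw [show ⁅a, ⁅b⁻¹, c⁆ * c⁆ = ⁅a, ⁅b⁻¹, c⁆⁆ * (⁅b⁻¹, c⁆ * ⁅a, c⁆ * ⁅b⁻¹, c⁆⁻¹) by
      simp [commutatorElement_def]; group,
      commutatorElement_eq_one_iff_mul_comm.mpr h2.symm, mul_one, mul_inv_cancel, mul_one]
  refine ⟨?_, ?_, ?_, hsup, hFC⟩
  · rw [Subgroup.commutator_comm]
    exact bot_sup (bot_comm hF.1) (bot_comm hFCb)
  · rw [Subgroup.commutator_le]
    intro a ha x hx
    have hx' := mem_conjBy.mp hx
    rw [inv_inv] at hx'
    rw [show x = b⁻¹ * (b * x * b⁻¹) * b by group, hval a ha _ hx']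
    exact Subgroup.commutator_mem_commutator ha
      (Subgroup.commutator_mem_commutator (inv_mem hb) hx')
  · rw [hFdef, Subgroup.commutator_le]
    intro a ha e he
    obtain ⟨c, hc, hce⟩ := CommCase.exists_right hBC (inv_mem hb) (inv_ne_one.mpr hb1) he
    rw [← hce, ← hval a ha c hc]
    refine Subgroup.commutator_mem_commutator ha ?_
    simpa using conjBy_mem hc b⁻¹

theorem triple_product (hS : IsRootSubgroupSet S) {A B C : Subgroup G} (hA : A ∈ S) (hB : B ∈ S)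
    (hC : C ∈ S) (hAB : ⁅A, B⁆ ∈ S) (hBC : ⁅B, C⁆ ∈ S) (hAC : ⁅A, C⁆ = ⊥) {b : G} (hb : b ∈ B)
    (hb1 : b ≠ 1) :
    ((IsMulCommutative ↥(A ⊔ conjBy C b⁻¹) ∧ IsMulCommutative ↥(conjBy A b⁻¹ ⊔ C)) ∨
      ((¬ IsMulCommutative ↥(A ⊔ conjBy C b⁻¹) ∧
          ⁅⁅A ⊔ conjBy C b⁻¹, A ⊔ conjBy C b⁻¹⁆, A ⊔ conjBy C b⁻¹⁆ = ⊥) ∧
        (¬ IsMulCommutative ↥(conjBy A b⁻¹ ⊔ C) ∧
          ⁅⁅conjBy A b⁻¹ ⊔ C, conjBy A b⁻¹ ⊔ C⁆, conjBy A b⁻¹ ⊔ C⁆ = ⊥))) ∧
    ⁅A ⊔ conjBy C b⁻¹, conjBy A b⁻¹ ⊔ C⁆ = ⊥ ∧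
    (∀ r ∈ A ⊔ B ⊔ C, conjBy ((A ⊔ conjBy C b⁻¹) ⊔ (conjBy A b⁻¹ ⊔ C)) r =
      (A ⊔ conjBy C b⁻¹) ⊔ (conjBy A b⁻¹ ⊔ C)) ∧
    ((A ⊔ conjBy C b⁻¹) ⊔ (conjBy A b⁻¹ ⊔ C)) ⊔ B = A ⊔ B ⊔ C ∧
    Group.IsNilpotent ↥(A ⊔ B ⊔ C) := by
  have hc₁ := commCase_of_mem hS hA hB hAB
  have hc₂ := commCase_of_mem hS hB hC hBC
  obtain ⟨hFX, hAF, hFA, hsupC, hFC⟩ := half hS hA hC hc₂ (bot_comm hAC) hb hb1
  obtain ⟨hF'Y, hCF', hF'C, hsupA, hF'A⟩ := half hS hC hA (commCase_symm hc₁) hAC hb hb1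
  rw [Subgroup.commutator_comm B A] at hF'Y hCF' hF'C hsupA hF'A
  set D := ⁅A, B⁆ with hDdef
  set E := ⁅B, C⁆ with hEdef
  set F := ⁅A, E⁆ with hFdef
  set F' := ⁅C, D⁆ with hF'def
  set Ab := conjBy A b⁻¹
  set Cb := conjBy C b⁻¹
  set X := A ⊔ Cb
  set Y := Ab ⊔ C
  have hXX : ⁅X, X⁆ ≤ F := by
    have hn : X ≤ Subgroup.normalizer (F : Set G) := le_normalizer_of_commute (bot_comm hFX)
    refine commutator_sup_le' (le_sup_left.trans hn) (le_sup_right.trans hn) ?_ ?_ <;>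
      refine commutator_sup_right_le (le_sup_left.trans hn) (le_sup_right.trans hn) ?_ ?_
    · rw [bot_self hS hA]; exact bot_le
    · exact hAF
    · rw [Subgroup.commutator_comm]; exact hAF
    · rw [bot_self hS (hS.conj_mem C hC b⁻¹)]; exact bot_le
  have hYY : ⁅Y, Y⁆ ≤ F' := by
    have hn : Y ≤ Subgroup.normalizer (F' : Set G) :=
      (sup_comm C Ab ▸ le_normalizer_of_commute (bot_comm hF'Y) : Ab ⊔ C ≤ _)
    refine commutator_sup_le' (le_sup_left.trans hn) (le_sup_right.trans hn) ?_ ?_ <;>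
      refine commutator_sup_right_le (le_sup_left.trans hn) (le_sup_right.trans hn) ?_ ?_
    · rw [bot_self hS (hS.conj_mem A hA b⁻¹)]; exact bot_le
    · rw [Subgroup.commutator_comm]; exact hCF'
    · exact hCF'
    · rw [bot_self hS hC]; exact bot_le
  have hAbA : ⁅A, Ab⁆ = ⊥ := by
    have hle : Ab ≤ A ⊔ D := hsupA ▸ le_sup_right
    rw [eq_bot_iff]
    refine (Subgroup.commutator_mono le_rfl hle).trans (eq_bot_iff.mp ?_)
    rw [Subgroup.commutator_comm]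
    exact bot_sup (bot_self hS hA) (CommCase.value_bot_left hc₁)
  have hCbC : ⁅Cb, C⁆ = ⊥ := by
    have hle : Cb ≤ C ⊔ E := hsupC ▸ le_sup_right
    rw [eq_bot_iff]
    refine (Subgroup.commutator_mono hle le_rfl).trans (eq_bot_iff.mp ?_)
    exact bot_sup (bot_self hS hC) (CommCase.value_bot_right hc₂)
  have hXY : ⁅X, Y⁆ = ⊥ := by
    refine bot_sup ?_ ?_ <;> rw [Subgroup.commutator_comm] <;> refine bot_sup ?_ ?_
    · exact bot_comm hAbA
    · exact bot_comm hAC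
    · exact (conjBy_bot_iff b⁻¹).mpr hAC
    · exact bot_comm hCbC
  -- the product
  set M := X ⊔ Y
  have hAM : A ≤ M := le_sup_left.trans le_sup_left
  have hCM : C ≤ M := le_sup_right.trans le_sup_right
  have hDM : D ≤ M := by
    have : A ⊔ D ≤ M := by
      rw [← hsupA]
      exact sup_le hAM ((le_sup_left : Ab ≤ Y).trans le_sup_right)
    exact le_sup_right.trans this
  have hEM : E ≤ M := by
    have : C ⊔ E ≤ M := by
      rw [← hsupC]
      exact sup_le hCM ((le_sup_right : Cb ≤ X).trans le_sup_left)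
    exact le_sup_right.trans this
  have hMeq : M = (A ⊔ D) ⊔ (C ⊔ E) := by
    refine le_antisymm ?_ (sup_le (sup_le hAM hDM) (sup_le hCM hEM))
    rw [← hsupA, ← hsupC]
    exact sup_le (sup_le (le_sup_left.trans le_sup_left) (le_sup_right.trans le_sup_right))
      (sup_le (le_sup_right.trans le_sup_left) (le_sup_left.trans le_sup_right))
  have hBM : ∀ g ∈ B, conjBy M g ≤ M := by
    intro g hg
    rw [hMeq, conjBy_sup, conjBy_sup, conjBy_sup,
      fix_of_bot (bot_comm (CommCase.value_bot_right hc₁)) hg,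
      fix_of_bot (bot_comm (CommCase.value_bot_left hc₂)) hg]
    refine sup_le (sup_le ?_ (le_sup_right.trans le_sup_left)) (sup_le ?_
      (le_sup_right.trans le_sup_right))
    · exact (CommCase.conj_le hc₁ hg).trans le_sup_left
    · have := CommCase.conj_le (commCase_symm hc₂) hg
      rw [Subgroup.commutator_comm C B] at this
      exact this.trans le_sup_right
  have hRnorm : A ⊔ B ⊔ C ≤ Subgroup.normalizer (M : Set G) := by
    refine sup_le (sup_le (hAM.trans Subgroup.le_normalizer) (fun g hg => ?_))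
      (hCM.trans Subgroup.le_normalizer)
    rw [← conjBy_eq_self_iff]
    refine le_antisymm (hBM g hg) ?_
    calc M = conjBy (conjBy M g⁻¹) g := (conjBy_cancel_inv _ _).symm
      _ ≤ conjBy M g := conjBy_mono (hBM _ (inv_mem hg)) g
  -- commutators of M
  have hFX' : F ≤ X :=
    hFA.trans ((Subgroup.commutator_mono le_sup_left le_sup_right).trans (Subgroup.commutator_le_self X))
  have hF'Y' : F' ≤ Y :=
    hF'C.trans ((Subgroup.commutator_mono le_sup_right le_sup_left).trans (Subgroup.commutator_le_self Y))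
  set K₂ := F ⊔ F'
  have hF'Y2 : ⁅F', Y⁆ = ⊥ := (sup_comm C Ab ▸ hF'Y : ⁅F', Ab ⊔ C⁆ = ⊥)
  have hFY : ⁅F, Y⁆ = ⊥ := eq_bot_iff.mpr ((Subgroup.commutator_mono hFX' le_rfl).trans hXY.le)
  have hF'X : ⁅F', X⁆ = ⊥ :=
    eq_bot_iff.mpr ((Subgroup.commutator_mono hF'Y' le_rfl).trans (bot_comm hXY).le)
  have hK₂M : ⁅K₂, M⁆ = ⊥ := by
    refine bot_sup ?_ ?_ <;> rw [Subgroup.commutator_comm] <;> refine bot_sup ?_ ?_
    exacts [bot_comm hFX, bot_comm hFY, bot_comm hF'X, bot_comm hF'Y2]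
  have hMn : M ≤ Subgroup.normalizer (K₂ : Set G) := le_normalizer_of_commute (bot_comm hK₂M)
  have hMM : ⁅M, M⁆ ≤ K₂ := by
    refine commutator_sup_le' (le_sup_left.trans hMn) (le_sup_right.trans hMn) ?_ ?_ <;>
      refine commutator_sup_right_le (le_sup_left.trans hMn) (le_sup_right.trans hMn) ?_ ?_
    · exact hXX.trans le_sup_left
    · rw [hXY]; exact bot_le
    · rw [bot_comm hXY]; exact bot_le
    · exact hYY.trans le_sup_right
  set K₃ := ⁅D, E⁆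
  have hK₃K₂ : K₃ ≤ K₂ := (Subgroup.commutator_mono hDM hEM).trans hMM
  have hDB : ⁅D, B⁆ = ⊥ := CommCase.value_bot_right hc₁
  have hEB : ⁅E, B⁆ = ⊥ := CommCase.value_bot_left hc₂
  have hK₃R : ⁅K₃, A ⊔ B ⊔ C⁆ = ⊥ := by
    have hM₃ : ⁅K₃, M⁆ = ⊥ :=
      eq_bot_iff.mpr ((Subgroup.commutator_mono hK₃K₂ le_rfl).trans hK₂M.le)
    have hB₃ : ⁅K₃, B⁆ = ⊥ := Subgroup.commutator_commutator_eq_bot_of_rotate
      (by rw [hEB]; simp) (by rw [bot_comm hDB]; simp)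
    rw [Subgroup.commutator_comm]
    refine bot_sup (bot_sup ?_ (bot_comm hB₃)) ?_
    · exact eq_bot_iff.mpr ((Subgroup.commutator_mono hAM le_rfl).trans (bot_comm hM₃).le)
    · exact eq_bot_iff.mpr ((Subgroup.commutator_mono hCM le_rfl).trans (bot_comm hM₃).le)
  have hFB : ⁅F, B⁆ ≤ K₃ := by
    have hAn : ⁅F, E⁆ = ⊥ := eq_bot_iff.mpr ((Subgroup.commutator_mono le_rfl
      (hEM : E ≤ M)).trans ((Subgroup.commutator_mono (le_sup_left : F ≤ K₂) le_rfl).trans hK₂M.le))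
    rw [Subgroup.commutator_le]
    intro f hf g hg
    -- the elements with commutator in K₃ form a subgroup
    let T : Subgroup G :=
      { carrier := {f | f ∈ F ∧ ⁅f, g⁆ ∈ K₃}
        one_mem' := ⟨one_mem _, by simp⟩
        mul_mem' := fun {x y} hx hy => ⟨mul_mem hx.1 hy.1, by
          rw [show ⁅x * y, g⁆ = x * ⁅y, g⁆ * x⁻¹ * ⁅x, g⁆ by simp [commutatorElement_def]; group]
          refine mul_mem ?_ hx.2
          have hc : Commute x ⁅y, g⁆ := (commute_of_bot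
            (eq_bot_iff.mpr ((Subgroup.commutator_mono hK₃K₂ le_rfl).trans hK₂M.le))
            hy.2 (hFX'.trans le_sup_left hx.1)).symm
          rw [hc.eq, mul_inv_cancel_right]
          exact hy.2⟩
        inv_mem' := fun {x} hx => ⟨inv_mem hx.1, by
          rw [show ⁅x⁻¹, g⁆ = x⁻¹ * ⁅x, g⁆⁻¹ * x⁻¹⁻¹ by simp [commutatorElement_def]; group]
          have hc : Commute x⁻¹ ⁅x, g⁆⁻¹ := (commute_of_bot
            (eq_bot_iff.mpr ((Subgroup.commutator_mono hK₃K₂ le_rfl).trans hK₂M.le))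
            (inv_mem hx.2) (hFX'.trans le_sup_left (inv_mem hx.1))).symm
          rw [hc.eq, mul_inv_cancel_right]
          exact inv_mem hx.2⟩ }
    have hle : F ≤ T := by
      rw [hFdef, Subgroup.commutator_le]
      intro a ha e he
      have hf' : ⁅a, e⁆ ∈ F := Subgroup.commutator_mem_commutator ha he
      refine ⟨hf', ?_⟩
      -- g ⁅a,e⁆ g⁻¹ = ⁅d, e⁆ ⁅a, e⁆
      set d := ⁅g, a⁆
      have hd : d ∈ D := by
        rw [hDdef, Subgroup.commutator_comm]; exact Subgroup.commutator_mem_commutator hg ha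
      have hge : g * e * g⁻¹ = e := by
        rw [← commute_of_bot hEB he hg, mul_inv_cancel_right]
      have hk : ⁅d, e⁆ ∈ K₃ := Subgroup.commutator_mem_commutator hd he
      have h1 : ⁅d * a, e⁆ = ⁅d, e⁆ * ⁅a, e⁆ := by
        have hc : Commute d ⁅a, e⁆ := (commute_of_bot
          (eq_bot_iff.mpr ((Subgroup.commutator_mono (le_sup_left : F ≤ K₂) le_rfl).trans hK₂M.le))
          hf' (hDM hd)).symm
        have hc2 : Commute ⁅d, e⁆ ⁅a, e⁆ := commute_of_bot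
          (eq_bot_iff.mpr ((Subgroup.commutator_mono hK₃K₂ le_rfl).trans hK₂M.le)) hk
          (hFX'.trans le_sup_left hf')
        rw [show ⁅d * a, e⁆ = d * ⁅a, e⁆ * d⁻¹ * ⁅d, e⁆ by simp [commutatorElement_def]; group,
          hc.eq, mul_inv_cancel_right, hc2.eq]
      have h2 : g * ⁅a, e⁆ * g⁻¹ = ⁅d, e⁆ * ⁅a, e⁆ := by
        rw [← h1, show g * ⁅a, e⁆ * g⁻¹ = ⁅g * a * g⁻¹, g * e * g⁻¹⁆ by
          simp [commutatorElement_def]; group, hge,
          show g * a * g⁻¹ = d * a by simp [d, commutatorElement_def]]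
      rw [show ⁅⁅a, e⁆, g⁆ = ⁅a, e⁆ * (g * ⁅a, e⁆ * g⁻¹)⁻¹ by simp [commutatorElement_def]; group,
        h2, mul_inv_rev, mul_inv_cancel_left]
      exact inv_mem hk
    exact (hle hf).2
  have hF'B : ⁅F', B⁆ ≤ K₃ := by
    have hcen : ∀ x ∈ K₂, ∀ y ∈ M, x * y = y * x := fun x hx y hy => commute_of_bot hK₂M hx hy
    rw [Subgroup.commutator_le]
    intro f hf g hg
    let T : Subgroup G :=
      { carrier := {f | f ∈ F' ∧ ⁅f, g⁆ ∈ K₃}
        one_mem' := ⟨one_mem _, by simp⟩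
        mul_mem' := fun {x y} hx hy => ⟨mul_mem hx.1 hy.1, by
          rw [show ⁅x * y, g⁆ = x * ⁅y, g⁆ * x⁻¹ * ⁅x, g⁆ by simp [commutatorElement_def]; group,
            ← hcen _ (hK₃K₂ hy.2) x (hF'Y'.trans le_sup_right hx.1), mul_inv_cancel_right]
          exact mul_mem hy.2 hx.2⟩
        inv_mem' := fun {x} hx => ⟨inv_mem hx.1, by
          rw [show ⁅x⁻¹, g⁆ = x⁻¹ * ⁅x, g⁆⁻¹ * x⁻¹⁻¹ by simp [commutatorElement_def]; group,
            ← hcen _ (hK₃K₂ (inv_mem hx.2)) x⁻¹ (hF'Y'.trans le_sup_right (inv_mem hx.1)),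
            mul_inv_cancel_right]
          exact inv_mem hx.2⟩ }
    have hle : F' ≤ T := by
      rw [hF'def, Subgroup.commutator_le]
      intro c hc d hd
      have hf' : ⁅c, d⁆ ∈ F' := Subgroup.commutator_mem_commutator hc hd
      refine ⟨hf', ?_⟩
      set e := ⁅g, c⁆
      have he : e ∈ E := Subgroup.commutator_mem_commutator hg hc
      have hgd : g * d * g⁻¹ = d := by rw [← commute_of_bot hDB hd hg, mul_inv_cancel_right]
      have hk : ⁅e, d⁆ ∈ K₃ := by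
        show ⁅e, d⁆ ∈ ⁅D, E⁆
        rw [Subgroup.commutator_comm]; exact Subgroup.commutator_mem_commutator he hd
      have h2 : g * ⁅c, d⁆ * g⁻¹ = ⁅e, d⁆ * ⁅c, d⁆ := by
        rw [show g * ⁅c, d⁆ * g⁻¹ = ⁅g * c * g⁻¹, g * d * g⁻¹⁆ by
          simp [commutatorElement_def]; group, hgd,
          show g * c * g⁻¹ = e * c by simp [e, commutatorElement_def],
          show ⁅e * c, d⁆ = e * ⁅c, d⁆ * e⁻¹ * ⁅e, d⁆ by simp [commutatorElement_def]; group,
          ← hcen _ ((le_sup_right : F' ≤ K₂) hf') e (hEM he), mul_inv_cancel_right,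
          hcen _ (hK₃K₂ hk) ⁅c, d⁆ (hF'Y'.trans le_sup_right hf')]
      rw [show ⁅⁅c, d⁆, g⁆ = ⁅c, d⁆ * (g * ⁅c, d⁆ * g⁻¹)⁻¹ by simp [commutatorElement_def]; group,
        h2, mul_inv_rev, mul_inv_cancel_left]
      exact inv_mem hk
    exact (hle hf).2
  refine ⟨?_, hXY, fun r hr => conjBy_eq_self_iff.mpr (hRnorm hr), ?_, ?_⟩
  · have hAC' : ⁅C, A⁆ = ⊥ := bot_comm hAC
    by_cases hF0 : F = ⊥
    · left
      have hF'0 : F' = ⊥ := by
        rw [hF'def, Subgroup.commutator_comm]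
        exact Subgroup.commutator_commutator_eq_bot_of_rotate
          (by rw [Subgroup.commutator_comm]; exact hF0) (by rw [hAC']; simp)
      exact ⟨isMulCommutative_of_bot (eq_bot_iff.mpr (hXX.trans hF0.le)),
        isMulCommutative_of_bot (eq_bot_iff.mpr (hYY.trans hF'0.le))⟩
    · right
      have hF'0 : F' ≠ ⊥ := fun h0 => hF0 (by
        rw [hFdef, Subgroup.commutator_comm]
        exact Subgroup.commutator_commutator_eq_bot_of_rotate (by rw [hAC']; simp)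
          (by rw [Subgroup.commutator_comm]; exact h0))
      refine ⟨⟨fun h => hF0 ?_, ?_⟩, fun h => hF'0 ?_, ?_⟩
      · rw [eq_bot_iff]
        refine hFA.trans (le_of_eq (bot_of_commute fun x hx y hy => ?_))
        exact congrArg Subtype.val (h.is_comm.comm ⟨x, Subgroup.mem_sup_left hx⟩
          ⟨y, Subgroup.mem_sup_right hy⟩)
      · exact eq_bot_iff.mpr ((Subgroup.commutator_mono hXX le_rfl).trans hFX.le)
      · rw [eq_bot_iff]
        refine hF'C.trans (le_of_eq (bot_of_commute fun x hx y hy => ?_))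
        exact congrArg Subtype.val (h.is_comm.comm ⟨x, Subgroup.mem_sup_right hx⟩
          ⟨y, Subgroup.mem_sup_left hy⟩)
      · exact eq_bot_iff.mpr ((Subgroup.commutator_mono hYY le_rfl).trans hF'Y2.le)
  · refine le_antisymm (sup_le ?_ (le_sup_right.trans le_sup_left))
      (sup_le (sup_le (hAM.trans le_sup_left) le_sup_right) (hCM.trans le_sup_left))
    have hg : b⁻¹ ∈ A ⊔ B ⊔ C :=
      inv_mem (Subgroup.mem_sup_left (Subgroup.mem_sup_right hb))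
    exact sup_le (sup_le (le_sup_left.trans le_sup_left) (conjBy_le_of_mem le_sup_right hg))
      (sup_le (conjBy_le_of_mem (le_sup_left.trans le_sup_left) hg) le_sup_right)
  · set R := A ⊔ B ⊔ C with hRdef
    set K₁ := D ⊔ E ⊔ K₂
    have hK₁M : K₁ ≤ M := sup_le (sup_le hDM hEM) (sup_le
      (hFX'.trans le_sup_left) (hF'Y'.trans le_sup_right))
    have hK₁n : K₁ ≤ Subgroup.normalizer (K₂ : Set G) := hK₁M.trans hMn
    have hDn : D ≤ Subgroup.normalizer (K₂ : Set G) := hDM.trans hMn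
    have hEn : E ≤ Subgroup.normalizer (K₂ : Set G) := hEM.trans hMn
    have hKn : K₂ ≤ Subgroup.normalizer (K₂ : Set G) := Subgroup.le_normalizer
    have hK₂A : ⁅K₂, A⁆ = ⊥ := eq_bot_iff.mpr ((Subgroup.commutator_mono le_rfl hAM).trans hK₂M.le)
    have hK₂C : ⁅K₂, C⁆ = ⊥ := eq_bot_iff.mpr ((Subgroup.commutator_mono le_rfl hCM).trans hK₂M.le)
    have hK₂B : ⁅K₂, B⁆ ≤ K₃ := by
      have hn : K₂ ≤ Subgroup.normalizer (K₃ : Set G) := le_normalizer_of_commute (eq_bot_iff.mpr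
        ((Subgroup.commutator_mono le_rfl (hK₃K₂.trans (le_refl _))).trans (le_of_eq (eq_bot_iff.mpr
          ((Subgroup.commutator_mono le_rfl (sup_le (hFX'.trans le_sup_left)
            (hF'Y'.trans le_sup_right))).trans hK₂M.le)))))
      exact commutator_sup_le' (le_sup_left.trans hn) (le_sup_right.trans hn) hFB hF'B
    have h1A : ⁅K₁, A⁆ ≤ K₂ := by
      refine commutator_sup_le' ((sup_le hDn hEn)) hKn (commutator_sup_le' hDn hEn ?_ ?_) ?_
      · rw [CommCase.value_bot_left hc₁]; exact bot_le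
      · rw [Subgroup.commutator_comm]; exact le_sup_left
      · rw [hK₂A]; exact bot_le
    have h1C : ⁅K₁, C⁆ ≤ K₂ := by
      refine commutator_sup_le' ((sup_le hDn hEn)) hKn (commutator_sup_le' hDn hEn ?_ ?_) ?_
      · rw [Subgroup.commutator_comm]; exact le_sup_right
      · rw [CommCase.value_bot_right hc₂]; exact bot_le
      · rw [hK₂C]; exact bot_le
    have h1B : ⁅K₁, B⁆ ≤ K₂ := by
      refine commutator_sup_le' ((sup_le hDn hEn)) hKn (commutator_sup_le' hDn hEn ?_ ?_) ?_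
      · rw [hDB]; exact bot_le
      · rw [hEB]; exact bot_le
      · exact hK₂B.trans hK₃K₂
    have hR2 : R ≤ Subgroup.normalizer (K₂ : Set G) := by
      refine sup_le (sup_le (hAM.trans hMn) ?_) (hCM.trans hMn)
      rw [Subgroup.le_normalizer_iff_commutator_le_left]
      exact hK₂B.trans hK₃K₂
    have hR1 : R ≤ Subgroup.normalizer (K₁ : Set G) := by
      refine sup_le (sup_le ?_ ?_) ?_ <;> rw [Subgroup.le_normalizer_iff_commutator_le_left]
      exacts [h1A.trans le_sup_right, h1B.trans le_sup_right, h1C.trans le_sup_right]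
    have hA1 := (le_sup_left.trans le_sup_left : A ≤ R)
    have hB1 := (le_sup_right.trans le_sup_left : B ≤ R)
    have hC1 := (le_sup_right : C ≤ R)
    have hk : ∀ {N : Subgroup G}, R ≤ Subgroup.normalizer (N : Set G) → ∀ {K : Subgroup G},
        ⁅K, A⁆ ≤ N → ⁅K, B⁆ ≤ N → ⁅K, C⁆ ≤ N → ⁅K, R⁆ ≤ N := fun hn _ ha hb hc =>
      commutator_sup_right_le ((sup_le hA1 hB1).trans hn) (hC1.trans hn)
        (commutator_sup_right_le (hA1.trans hn) (hB1.trans hn) ha hb) hc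
    have g1 : ⁅R, R⁆ ≤ K₁ := by
      have hD1 : D ≤ K₁ := le_sup_left.trans le_sup_left
      have hE1 : E ≤ K₁ := le_sup_right.trans le_sup_left
      refine hk hR1 ?_ ?_ ?_ <;> refine commutator_sup_le' ((sup_le hA1 hB1).trans hR1)
        (hC1.trans hR1) (commutator_sup_le' (hA1.trans hR1) (hB1.trans hR1) ?_ ?_) ?_
      · rw [bot_self hS hA]; exact bot_le
      · rw [Subgroup.commutator_comm]; exact hD1
      · rw [bot_comm hAC]; exact bot_le
      · exact hD1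
      · rw [bot_self hS hB]; exact bot_le
      · rw [Subgroup.commutator_comm]; exact hE1
      · rw [hAC]; exact bot_le
      · exact hE1
      · rw [bot_self hS hC]; exact bot_le
    have g2 : ⁅K₁, R⁆ ≤ K₂ := hk hR2 h1A h1B h1C
    have g3 : ⁅K₂, R⁆ ≤ K₃ := by
      have hR3 : R ≤ Subgroup.normalizer (K₃ : Set G) := le_normalizer_of_commute (bot_comm hK₃R)
      refine hk hR3 ?_ hK₂B ?_
      · rw [hK₂A]; exact bot_le
      · rw [hK₂C]; exact bot_le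
    rw [Subgroup.isNilpotent_iff_lowerCentralSeries]
    refine ⟨4, eq_bot_iff.mpr ?_⟩
    show ⁅⁅⁅⁅R, R⁆, R⁆, R⁆, R⁆ ≤ ⊥
    calc ⁅⁅⁅⁅R, R⁆, R⁆, R⁆, R⁆ ≤ ⁅⁅⁅K₁, R⁆, R⁆, R⁆ :=
          Subgroup.commutator_mono (Subgroup.commutator_mono (Subgroup.commutator_mono g1 le_rfl)
            le_rfl) le_rfl
      _ ≤ ⁅⁅K₂, R⁆, R⁆ :=
          Subgroup.commutator_mono (Subgroup.commutator_mono g2 le_rfl) le_rfl
      _ ≤ ⁅K₃, R⁆ := Subgroup.commutator_mono g3 le_rfl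
      _ ≤ ⊥ := hK₃R.le

end Cfsg.Agent.RootSub
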